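import Cfsg.Agent.Lib.Fi22P.OutInvol.CentDefs

/-!
# The members fixed by the second involution: kernel check
-/

set_option autoImplicit false
set_option maxRecDepth 100000
set_option maxHeartbeats 0

namespace CfsgLib.Fi22P.OutInvol

theorem fixA_ok : fixA.all (fun q => (fixS.any fun y => Nat.beq y q) &&
    (Nat.beq q 0 || fixA.any fun x => !(Nat.beq (mimg q x) x))) = true ∧
    fixA.all (fun x => Nat.beq (mimg 0 x) x) = true := by
  decide +kernel

end CfsgLib.Fi22P.OutInvol
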