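import Cfsg.Agent.Lib.Fi22P.OutInvol.CentSIso
import Cfsg.Agent.Lib.Fi22P.OutInvol.CentACheck
import Cfsg.Agent.Lib.Tails.SpSixChainCheck
import Cfsg.Agent.Lib.Tails.SpSixChecks

/-!
# The centraliser of the second outer involution is `2 × Sp₆(2)`
-/

set_option autoImplicit false
set_option maxRecDepth 100000

namespace CfsgLib.Fi22P.OutInvol

open CfsgLib.PresCert CfsgLib.Schur.Tails CfsgLib.Golay CfsgLib.TailsData

attribute [local irreducible] rawCols piCols pathTab uw relData levels levelsA levelsB levelsC fixS fixA fixAB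
  class0 class1 mask0 mask1 linkList spLowBase spMembers spLowLevels spLowSlp

theorem pt0_fixA : pt0.val ∈ fixA := by
  rw [← fix_rho1, ← fix_mem_iff]
  have h : Nat.beq (rho1 0) 0 = true := by decide +kernel
  exact Nat.eq_of_beq_eq_true h

theorem psi_A (g : K) (i : X) : psi sigmaA (phi g i) = phi (sigmaA g) (psi sigmaA i) := by
  rw [phi_aut, Equiv.Perm.mul_apply, Equiv.Perm.mul_apply, Equiv.Perm.inv_def, Equiv.symm_apply_apply]

theorem sigmaA_apply (g : K) : sigmaA g = sigma (mA * g * mA⁻¹) := by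
  rw [sigmaA, MulAut.mul_apply, MulAut.conj_apply]

/-- The fixed elements of the second involution. -/
theorem fixedBy_sigmaA : fixedBy sigmaA = CS ⊓ Subgroup.centralizer ({mA} : Set K) := by
  ext g
  rw [Subgroup.mem_inf, Subgroup.mem_centralizer_singleton_iff, mem_fixedBy, mem_fixedBy]
  constructor
  · intro hg
    have hmap : ∀ x : X, x.val ∈ fixA → (phi g x).val ∈ fixA := fun x hx =>
      (sigmaA_fix_iff _).1 (fixedBy_perm hg ((sigmaA_fix_iff x).2 hx))
    have hinv : ∀ x : X, x.val ∈ fixA → (phi g⁻¹ x).val ∈ fixA := fun x hx =>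
      (sigmaA_fix_iff _).1 (fixedBy_perm (Subgroup.inv_mem _ hg) ((sigmaA_fix_iff x).2 hx))
    set q := phi g pt0 with hq
    have hqA : q.val ∈ fixA := hmap _ pt0_fixA
    have h := List.all_eq_true.1 fixA_ok.1 _ hqA
    rw [Bool.and_eq_true, Bool.or_eq_true] at h
    have hcom : g * mA = mA * g := by
      rw [mA, mem_pt0]
      refine fix_pt0_iff.1 (Fin.ext ?_)
      rcases h.2 with h0 | h0
      · exact Nat.eq_of_beq_eq_true h0
      · exfalso
        obtain ⟨x, hx, hne⟩ := List.any_eq_true.1 h0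
        have hxlt : x < 3510 := fixS_lt (mem_of_any (by
          have := List.all_eq_true.1 fixA_ok.1 x hx
          rw [Bool.and_eq_true] at this
          exact this.1))
        set xp : X := ⟨x, lt_pt hxlt⟩
        have e : phi (mem q) xp = xp := by
          have h0' := Nat.eq_of_beq_eq_true (List.all_eq_true.1 fixA_ok.2 _ (hinv xp hx))
          have hc : phi (mem pt0) (phi g⁻¹ xp) = phi g⁻¹ xp :=
            Fin.ext ((mem_S_val mem_pt0_S _).trans h0')
          rw [hq, mem_phi, map_mul, map_mul, map_inv, Equiv.Perm.mul_apply, Equiv.Perm.mul_apply,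
            ← map_inv, hc, ← Equiv.Perm.mul_apply, ← map_mul, mul_inv_cancel, map_one, Equiv.Perm.one_apply]
        have e' := congrArg Fin.val e
        rw [mem_S_val (mem_of_any h.1)] at e'
        simp only [xp] at e'
        simp [e', Nat.beq_refl] at hne
    refine ⟨?_, hcom⟩
    rw [sigmaA_apply, show mA * g * mA⁻¹ = g by rw [← hcom, mul_inv_cancel_right]] at hg
    exact hg
  · rintro ⟨hg, hc⟩
    rw [sigmaA_apply, show mA * g * mA⁻¹ = g by rw [← hc, mul_inv_cancel_right]]
    exact hg

/-- The centraliser of the second involution. -/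
noncomputable abbrev CA : Subgroup K := CS ⊓ Subgroup.centralizer ({mA} : Set K)

theorem CA_eq : CA = CS ⊓ fixSub phi [0] := by
  rw [CA, mA, mem_pt0, centralizer_fA, subH_eq]

theorem card_CA : Nat.card CA = 2903040 := by
  refine le_antisymm (CA_eq ▸ CS_stab_le) ?_
  have h := orbit_le (φ := phi) CS [] pt0 fixS fun m hm => CS_maps hm.1 mem_pt0_S
  rw [fixSub_first, card_CS, fix_lengths.1, show ([] : List ℕ) ++ [pt0.val] = [0] from rfl] at h
  rw [CA_eq]
  exact Nat.le_of_mul_le_mul_left (show 360 * 2903040 ≤ 360 * _ from h) (by norm_num)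

/-- An element of the centraliser of the second involution as one of the first. -/
noncomputable def toCS : CA →* CS := Subgroup.inclusion inf_le_left

theorem CA_fix (g : CA) : phi g.val pt0 = pt0 :=
  fix_pt0_iff.2 (by
    have := Subgroup.mem_centralizer_singleton_iff.1 g.2.2
    rwa [mA, mem_pt0] at this)

theorem CA_cls_zero (g : CA) : clsHom (toCS g) 0 = 0 := by
  refine Fin.ext ?_
  rw [clsHom_apply, rootP_zero]
  show lab (phi g.val pt0).val = _
  rw [CA_fix g, ← rootP_zero]
  exact (rootN_mem 0).2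

/-- The sign on the classes. -/
noncomputable def chiA : CA →* ℤˣ := (Equiv.Perm.sign).comp (clsHom.comp toCS)

theorem memA_CA : mA ∈ CA := ⟨mem_CS mem_pt0_S, Subgroup.mem_centralizer_singleton_iff.2 rfl⟩

theorem chiA_memA : chiA ⟨mA, memA_CA⟩ = -1 := by
  show Equiv.Perm.sign (clsHom memA) = -1
  rw [cls_memA]
  exact Equiv.Perm.sign_swap (by decide)

/-- The elements keeping every class. -/
noncomputable abbrev KA : Subgroup CA := chiA.ker

theorem KA_K0 {g : CA} (hg : g ∈ KA) : toCS g ∈ K0 := by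
  have h0 := CA_cls_zero g
  have h1 : Equiv.Perm.sign (clsHom (toCS g)) = 1 := hg
  have key : ∀ π : Equiv.Perm (Fin 3), π 0 = 0 → Equiv.Perm.sign π = 1 → π = 1 := by decide +kernel
  exact MonoidHom.mem_ker.2 (key _ h0 h1)

theorem card_KA : 2 * Nat.card KA ≤ 2903040 := by
  rw [← card_CA, ← Subgroup.card_mul_index KA, mul_comm]
  refine Nat.mul_le_mul_left _ ?_
  rw [Subgroup.index_ker]
  have h : 1 < Nat.card chiA.range := by
    haveI : Finite chiA.range := inferInstance
    refine Finite.one_lt_card_iff_nontrivial.2 ⟨⟨1, one_mem _⟩, ⟨-1, _, chiA_memA⟩, fun h => ?_⟩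
    exact absurd (congrArg Subtype.val h) (by decide)
  omega

theorem link_mem {x : ℕ} (h : x ∈ linkList) : x ∈ fixS ∧ lab x = 0 ∧ mimg 0 x = x ∧ x ≠ 0 := by
  have := List.all_eq_true.1 link_ok.2.2.1 x h
  simp only [Bool.and_eq_true, Nat.beq_eq, Bool.not_eq_true'] at this
  exact ⟨mem_of_any this.2, this.1.1.1, this.1.1.2, Nat.ne_of_beq_eq_false this.1.2⟩

theorem linkN (k : Fin 63) : linkList.getD k.val 0 ∈ linkList := by
  rw [List.getD_eq_getElem _ _ (link_ok.1.symm ▸ k.isLt)]
  exact List.getElem_mem _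

/-- A neighbour of the first member in its class. -/
def pt63 (k : Fin 63) : X := ⟨linkList.getD k.val 0, lt_pt (fixS_lt (link_mem (linkN k)).1)⟩

theorem pt63_injective : Function.Injective pt63 := fun a b h => by
  have := congrArg Fin.val h
  simp only [pt63] at this
  rw [List.getD_eq_getElem _ _ (link_ok.1.symm ▸ a.isLt),
    List.getD_eq_getElem _ _ (link_ok.1.symm ▸ b.isLt)] at this
  exact Fin.ext (((nodupB_spec link_ok.2.1).1.getElem_inj_iff).1 this)

theorem exists_idx63 (g : CA) (k : Fin 63) : ∃ l, pt63 l = phi g.val (pt63 k) := by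
  obtain ⟨hS, -, hc, hne⟩ := link_mem (linkN k)
  have h2 := CS_maps g.2.1 (i := pt63 k) hS
  have hadj : phi (mem pt0) (phi g.val (pt63 k)) = phi g.val (pt63 k) := by
    have h : phi (mem pt0) (pt63 k) = pt63 k := Fin.ext ((mem_S_val mem_pt0_S _).trans hc)
    rw [← commute_iff] at h ⊢
    have h' := h.map (MulAut.conj g.val)
    rwa [conj_mem, conj_mem, CA_fix g] at h'
  have hne' : (phi g.val (pt63 k)).val ≠ 0 := fun e => hne (by
    have : phi g.val (pt63 k) = phi g.val pt0 := by rw [CA_fix g]; exact Fin.ext e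
    exact congrArg Fin.val ((phi g.val).injective this))
  have h := List.all_eq_true.1 link_ok.2.2.2 _ h2
  simp only [Bool.or_eq_true, Bool.not_eq_true'] at h
  have e1 : mimg 0 (phi g.val (pt63 k)).val = (phi g.val (pt63 k)).val :=
    (mem_S_val mem_pt0_S _).symm.trans (congrArg Fin.val hadj)
  obtain ⟨n, hn, e⟩ := List.getElem_of_mem (mem_of_any (h.resolve_left fun h => h.elim
    (fun e => Nat.ne_of_beq_eq_false e e1) fun e => hne' (Nat.eq_of_beq_eq_true e)))
  exact ⟨⟨n, link_ok.1 ▸ hn⟩, Fin.ext ((List.getD_eq_getElem _ _ hn).trans e)⟩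

/-- The image of an index. -/
noncomputable def idx63 (g : CA) (k : Fin 63) : Fin 63 := (exists_idx63 g k).choose

theorem pt_idx63 (g : CA) (k : Fin 63) : pt63 (idx63 g k) = phi g.val (pt63 k) :=
  (exists_idx63 g k).choose_spec

/-- The action on the neighbours. -/
noncomputable def rho63 : CA →* Equiv.Perm (Fin 63) where
  toFun g :=
    { toFun := idx63 g
      invFun := idx63 g⁻¹
      left_inv := fun k => pt63_injective (by
        rw [pt_idx63, pt_idx63, ← Equiv.Perm.mul_apply, ← map_mul, Subgroup.coe_inv, inv_mul_cancel, map_one,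
          Equiv.Perm.one_apply])
      right_inv := fun k => pt63_injective (by
        rw [pt_idx63, pt_idx63, ← Equiv.Perm.mul_apply, ← map_mul, Subgroup.coe_inv, mul_inv_cancel, map_one,
          Equiv.Perm.one_apply]) }
  map_one' := Equiv.ext fun k => pt63_injective (by
    show pt63 (idx63 1 k) = pt63 k
    rw [pt_idx63]; simp)
  map_mul' g h := Equiv.ext fun k => pt63_injective (by
    show pt63 (idx63 (g * h) k) = pt63 (idx63 g (idx63 h k))
    rw [pt_idx63, pt_idx63, pt_idx63, ← Equiv.Perm.mul_apply, ← map_mul]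
    rfl)

theorem rho63_apply (g : CA) (k : Fin 63) : pt63 (rho63 g k) = phi g.val (pt63 k) := pt_idx63 g k

theorem rho63_memA : rho63 ⟨mA, memA_CA⟩ = 1 := Equiv.ext fun k => pt63_injective (by
  rw [rho63_apply, Equiv.Perm.one_apply]
  exact Fin.ext ((mem_S_val mem_pt0_S _).trans (link_mem (linkN k)).2.2.1))

theorem product_element : ∀ {l : List ℕ}, (∀ x ∈ l, x ∈ fixS ∧ lab x = 0 ∧ mimg x 0 = 0) →
    ∃ g : CA, chiA g = (-1) ^ l.length ∧ ∀ y : X, (phi g.val y).val = mimgs l y.val
  | [], _ => ⟨1, by simp, fun y => by simp [mimgs]⟩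
  | a :: l, h => by
    obtain ⟨g, hg1, hg2⟩ := product_element (l := l) fun x hx => h x (List.mem_cons_of_mem _ hx)
    obtain ⟨ha, hl, h0⟩ := h a List.mem_cons_self
    set ap : X := ⟨a, lt_pt (fixS_lt ha)⟩
    have hca : mem ap ∈ CA := by
      refine ⟨mem_CS ha, Subgroup.mem_centralizer_singleton_iff.2 ?_⟩
      refine ((commute_iff ap pt0).2 (Fin.ext ?_)).eq
      rw [mem_S_val ha]
      exact h0
    have hc0 : a ∈ class0 := by
      have h := List.all_eq_true.1 class_shape.2.2.2.2.1 _ ha
      rw [Bool.or_eq_true, Bool.not_eq_true'] at h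
      exact mem_of_any (h.resolve_left fun e => Nat.ne_of_beq_eq_false e hl)
    have hchi : chiA ⟨mem ap, hca⟩ = -1 := by
      show Equiv.Perm.sign (clsHom ⟨mem ap, mem_CS ha⟩) = -1
      have : clsHom ⟨mem ap, mem_CS ha⟩ = Equiv.swap 1 2 := Equiv.ext fun j => Fin.ext (by
        rw [cls_member ha, class0_perm hc0]
        fin_cases j <;> rfl)
      rw [this]
      exact Equiv.Perm.sign_swap (by decide)
    refine ⟨g * ⟨mem ap, hca⟩, by rw [map_mul, hg1, hchi, List.length_cons, pow_succ], fun y => ?_⟩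
    show (phi (g.val * mem ap) y).val = mimgs l (mimg a y.val)
    rw [map_mul, Equiv.Perm.mul_apply, hg2, mem_S_val ha]

theorem gen_le_rho : OEight.gen 63 spLowBase ≤ KA.map rho63 := by
  refine (Subgroup.closure_le _).2 ?_
  rintro _ ⟨c, hc, rfl⟩
  obtain ⟨k, hk, rfl⟩ := List.getElem_of_mem hc
  have hlen : spMembers.length = spLowBase.length := of_decide_eq_true sp_words.1
  have hok : PackPerm.okP 63 spLowBase[k] = true :=
    (OEight.chain_spec (k := 63) (total := 1451520)
      (show OEight.chainB 63 (by norm_num) spLowBase spLowLevels spLowSlp 1451520 = true from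
        SpSix.low_chain)).2 _ (List.getElem_mem hk)
  have h := List.all_eq_true.1 sp_words.2 k (List.mem_range.2 (hlen.symm ▸ hk))
  simp only [Bool.and_eq_true, List.all_eq_true, List.mem_range, Nat.beq_eq] at h
  obtain ⟨⟨hl6, hmem⟩, hi⟩ := h
  obtain ⟨g, hg1, hg2⟩ := product_element (l := spMembers.getD k []) fun x hx =>
    ⟨mem_of_any (hmem x hx).1.1, (hmem x hx).1.2, (hmem x hx).2⟩
  refine ⟨g, MonoidHom.mem_ker.2 (by rw [hg1, hl6]; norm_num), Equiv.ext fun i => pt63_injective (Fin.ext ?_)⟩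
  rw [rho63_apply, hg2]
  show mimgs _ (linkList.getD i.val 0) = linkList.getD (OEight.permC 63 spLowBase[k] i).val 0
  rw [OEight.permC_apply hok, ← List.getD_eq_getElem spLowBase 0 hk]
  exact (hi i.val i.isLt).symm

theorem gen_eq : OEight.gen 63 spLowBase = SpSix.phi.range := by
  refine Subgroup.eq_of_le_of_card_ge ((Subgroup.closure_le _).2 ?_) ?_
  · rintro _ ⟨c, hc, rfl⟩
    exact SpSix.mem_range_of_matB (List.all_eq_true.1 SpSix.low_mats c hc)
  · rw [SpSix.card_range, (OEight.chain_spec (k := 63) (total := 1451520)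
      (show OEight.chainB 63 (by norm_num) spLowBase spLowLevels spLowSlp 1451520 = true from
        SpSix.low_chain)).1]

theorem rho63_KA : KA.map rho63 = SpSix.phi.range ∧ Set.InjOn rho63 KA := by
  have hle : SpSix.phi.range ≤ KA.map rho63 := gen_eq ▸ gen_le_rho
  let f : KA →* KA.map rho63 := rho63.subgroupMap KA
  have hf : Function.Surjective f := rho63.subgroupMap_surjective KA
  have h1 : Nat.card (KA.map rho63) ≤ Nat.card KA := Nat.card_le_card_of_surjective f hf
  have h2 : Nat.card SpSix.phi.range ≤ Nat.card (KA.map rho63) :=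
    Nat.card_le_card_of_injective _ (Subgroup.inclusion_injective hle)
  have h3 := card_KA
  rw [SpSix.card_range] at h2
  refine ⟨(Subgroup.eq_of_le_of_card_ge hle (by rw [SpSix.card_range]; omega)).symm, fun a ha b hb e => ?_⟩
  have hbij : Function.Bijective f := (Nat.bijective_iff_surjective_and_card f).2 ⟨hf, by omega⟩
  exact congrArg Subtype.val (hbij.1 (a₁ := ⟨a, ha⟩) (a₂ := ⟨b, hb⟩) (Subtype.ext e))

theorem rho63_range (g : CA) : rho63 g ∈ SpSix.phi.range := by
  rw [← rho63_KA.1]
  rcases Int.units_eq_one_or (chiA g) with h | h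
  · exact ⟨g, h, rfl⟩
  · refine ⟨g * ⟨mA, memA_CA⟩, ?_, by rw [map_mul, rho63_memA, mul_one]⟩
    rw [SetLike.mem_coe, MonoidHom.mem_ker, map_mul, h, chiA_memA]
    decide

/-- The centraliser of the second involution is `2 × Sp₆(2)`. -/
theorem CA_iso : Nonempty (↥CA ≃* Multiplicative (ZMod 2) × Cfsg.PSp 3 (ZMod 2)) := by
  obtain ⟨e⟩ := SpSix.psp_equiv (F := ZMod 2) (ZMod.card 2)
  let f : CA →* ℤˣ × SpSix.phi.range := chiA.prod (rho63.codRestrict _ rho63_range)
  have hinj : Function.Injective f := by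
    rw [← MonoidHom.ker_eq_bot_iff, eq_bot_iff]
    intro g hg
    have h1 : chiA g = 1 := congrArg Prod.fst hg
    have h2 : rho63 g = 1 := congrArg Subtype.val (congrArg Prod.snd hg)
    exact Subgroup.mem_bot.2 (rho63_KA.2 (MonoidHom.mem_ker.2 h1) (one_mem _) (h2.trans (map_one _).symm))
  have hcard : Nat.card CA = Nat.card (ℤˣ × SpSix.phi.range) := by
    rw [card_CA, Nat.card_prod, SpSix.card_range, Nat.card_eq_fintype_card, Fintype.card_units_int]
  have hcyc : IsCyclic ℤˣ := isCyclic_of_prime_card (p := 2) (hp := ⟨Nat.prime_two⟩)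
    (by rw [Nat.card_eq_fintype_card, Fintype.card_units_int])
  have ez : ℤˣ ≃* Multiplicative (ZMod 2) := mulEquivOfCyclicCardEq (by
    rw [Nat.card_eq_fintype_card, Fintype.card_units_int, Nat.card_congr Multiplicative.toAdd, Nat.card_zmod])
  exact ⟨(MulEquiv.ofBijective f ((Nat.bijective_iff_injective_and_card f).2 ⟨hinj, hcard⟩)).trans
    (ez.prodCongr e)⟩

end CfsgLib.Fi22P.OutInvol
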