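import Cfsg.Agent.Lib.Fi22P.OutInvol.CentDefs

/-!
# The centraliser of the third involution: kernel checks
-/

set_option autoImplicit false
set_option maxRecDepth 100000
set_option maxHeartbeats 0

namespace CfsgLib.Fi22P.OutInvol

open CfsgLib.PresCert

/-- The other member of a pair. -/
def partner (x : ℕ) : ℕ :=
  match pairList.find? fun p => inPairs x p with
  | some p => if Nat.beq p.1 x then p.2 else p.1
  | none => x

/-- The members fixed by the third involution commuting with the first one. -/
def nearAB : List ℕ := fixAB.filter fun x => Nat.beq (mimg 0 x) x && !(Nat.beq x 0)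

/-- The image of a point under a selection of the basis, by the bits of a number. -/
def selImg : List (List ℕ) → ℕ → ℕ → ℕ
  | [], _, y => y
  | b :: L, v, y => if v.testBit 0 then mimgs b (selImg L (v / 2) y) else selImg L (v / 2) y

/-- The checking points. -/
def ptsC : List ℕ := 0 :: levelsA.map Level.base

/-- The quadratic form on numbers. -/
def qBit (v : ℕ) : Bool :=
  (v.testBit 0 && v.testBit 2) ^^ (v.testBit 1 && v.testBit 3) ^^ v.testBit 4 ^^
    (v.testBit 4 && v.testBit 5) ^^ v.testBit 5

theorem pair_shape : pairList.length = 36 ∧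
    pairList.all (fun p => (fixAB.any fun y => Nat.beq y p.1) && (fixAB.any fun y => Nat.beq y p.2) &&
      Nat.beq (mimg p.1 p.2) p.2 && !(Nat.beq p.1 p.2)) = true ∧
    fixAB.all (fun x => pairList.any fun p => inPairs x p) = true ∧
    Nat.beq (partner 0) 6 = true ∧ Nat.beq (partner 6) 0 = true := by
  decide +kernel

theorem near_ok : nearAB.all (fun z => Nat.beq (mimg 6 z) z) = true ∧
    (nearAB.any fun z => Nat.beq z 6) = true ∧
    nearAB.all (fun z => Nat.beq z 6 || nearAB.any fun w => !(Nat.beq (mimg z w) w)) = true := by
  decide +kernel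

theorem tree2_ok : fixAB.all (fun x => Nat.beq x 0 || pairTree.any fun t => Nat.beq t.1 x) = true ∧
    (List.range pairTree.length).all (fun k =>
      let t := pairTree.getD k (0, 0, 0)
      let m := moveMem2.getD t.2.1 0
      (fixAB.any fun y => Nat.beq y m) && Nat.beq (mimg m t.2.2) t.1 &&
        Nat.beq (mimg m (partner t.2.2)) (partner t.1) &&
        (Nat.beq t.2.2 0 || (pairTree.take k).any fun u => Nat.beq u.1 t.2.2)) = true := by
  decide +kernel

theorem basis_ok : pairBasis.length = 6 ∧
    pairBasis.all (fun b => b.all (fun i => Nat.blt i 36) && ptsC.all fun y =>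
      Nat.beq (mimgs (pairMems b) (mimgs (pairMems b) y)) y) = true ∧
    pairBasis.all (fun a => pairBasis.all fun b => ptsC.all fun y =>
      Nat.beq (mimgs (pairMems a) (mimgs (pairMems b) y)) (mimgs (pairMems b) (mimgs (pairMems a) y))) = true := by
  decide +kernel

theorem vec_ok : pairVec.length = 36 ∧ nodupB 0 pairVec = true ∧
    pairVec.all (fun v => Nat.blt v 64) = true ∧
    (List.range 64).all (fun v => decide ((pairVec.any fun w => Nat.beq w v) = qBit v)) = true ∧
    (List.range 36).all (fun k => ptsC.all fun y =>
      Nat.beq (selImg (pairBasis.map pairMems) (pairVec.getD k 0) y)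
        (mimgs [(pairList.getD k (0, 0)).1, (pairList.getD k (0, 0)).2] y)) = true := by
  decide +kernel

theorem vec_moves : (List.range 64).all (fun v => Nat.beq v 0 ||
    ptsC.any fun y => !(Nat.beq (selImg (pairBasis.map pairMems) v y) y)) = true := by
  decide +kernel

theorem vec_span : (List.range 6).all (fun k => (pairVec.any fun a => Nat.beq a (2 ^ k)) ||
    pairVec.any fun a => pairVec.any fun b => Nat.beq (a ^^^ b) (2 ^ k)) = true := by
  decide +kernel

/-- The allowed images in the centraliser. -/
def allowAB : List (List ℕ) := [6] :: List.replicate 6 fixAB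

/-- The allowed images in the kernel on the pairs. -/
def allowKer : List (List ℕ) :=
  [6] :: (levelsC.drop 1).map fun l => [l.base, partner l.base]

theorem levelsC_facts : levelsC.length = 7 ∧ Nat.beq ((levelsC.getD 0 ⟨0, [], [], []⟩).base) 6 = true ∧
    (levelsC.map Level.base).all (fun x => fixAB.any fun y => Nat.beq y x) = true := by
  decide +kernel

end CfsgLib.Fi22P.OutInvol
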