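import Cfsg.Agent.Lib.Fi22P.OutInvol.CentA
import Cfsg.Agent.Lib.Fi22P.OutInvol.CentABCheck

/-!
# The centraliser of the third involution: its order, pairs and the elementary subgroup
-/

set_option autoImplicit false
set_option maxRecDepth 100000

namespace CfsgLib.Fi22P.OutInvol

open CfsgLib.PresCert

attribute [local irreducible] rawCols piCols pathTab uw relData levels levelsA levelsB levelsC fixS fixA fixAB
  class0 class1 mask0 mask1 linkList pairList pairTree pairVec pairBasis moveMem2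

theorem fixAB_lt {x : ℕ} (h : x ∈ fixAB) : x < 3510 := by
  rw [← fix_rho2] at h
  exact List.mem_range.1 (List.mem_filter.1 h).1

theorem named_AB {x : ℕ} (h : x ∈ fixAB) : (pathTab.any fun p => Nat.beq p.1 x) = true :=
  named (by simp [h])

theorem mem_AB_val {i : X} (hi : i.val ∈ fixAB) (j : X) : (phi (mem i) j).val = mimg i.val j.val :=
  mem_apply (named_AB hi) j

/-- The centraliser of the third involution. -/
noncomputable abbrev CAB : Subgroup K := fixedBy sigmaAB

theorem mem_CAB {i : X} (hi : i.val ∈ fixAB) : mem i ∈ CAB :=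
  mem_fixedBy_of_psi ((sigmaAB_fix_iff i).2 hi)

theorem CAB_maps {g : K} (hg : g ∈ CAB) {i : X} (hi : i.val ∈ fixAB) : (phi g i).val ∈ fixAB :=
  (sigmaAB_fix_iff _).1 (fixedBy_perm hg ((sigmaAB_fix_iff i).2 hi))

theorem pair0_fixAB : pt0.val ∈ fixAB ∧ pt6.val ∈ fixAB := by
  have h : (fixAB.any fun y => Nat.beq y 0) = true ∧ (fixAB.any fun y => Nat.beq y 6) = true := by
    decide +kernel
  exact ⟨mem_of_any h.1, mem_of_any h.2⟩

theorem near_iff {x : X} : x.val ∈ nearAB ↔ x.val ∈ fixAB ∧ phi (mem pt0) x = x ∧ x ≠ pt0 := by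
  simp only [nearAB, List.mem_filter, Bool.and_eq_true, Nat.beq_eq, Bool.not_eq_true']
  constructor
  · rintro ⟨h, h1, h2⟩
    exact ⟨h, Fin.ext ((mem_AB_val pair0_fixAB.1 _).trans h1), fun e => Nat.ne_of_beq_eq_false h2 (by rw [e]; rfl)⟩
  · rintro ⟨h, h1, h2⟩
    refine ⟨h, (mem_AB_val pair0_fixAB.1 _).symm.trans (congrArg Fin.val h1), ?_⟩
    rw [Bool.eq_false_iff]
    exact fun e => h2 (Fin.ext (Nat.eq_of_beq_eq_true e))

theorem near_maps {h : K} (hh : h ∈ CAB) (h0 : phi h pt0 = pt0) {x : X} (hx : x.val ∈ nearAB) :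
    (phi h x).val ∈ nearAB := by
  obtain ⟨h1, h2, h3⟩ := near_iff.1 hx
  refine near_iff.2 ⟨CAB_maps hh h1, ?_, fun e => h3 ((phi h).injective (e.trans h0.symm))⟩
  rw [← commute_iff] at h2 ⊢
  have := h2.map (MulAut.conj h)
  rwa [conj_mem, conj_mem, h0] at this

theorem fix_six {h : K} (hh : h ∈ CAB) (h0 : phi h pt0 = pt0) : phi h pt6 = pt6 := by
  have h6 : pt6.val ∈ nearAB := mem_of_any near_ok.2.1
  have hz := near_maps hh h0 h6
  have hc := List.all_eq_true.1 near_ok.2.2 _ hz
  rw [Bool.or_eq_true] at hc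
  refine hc.elim (fun e => Fin.ext (Nat.eq_of_beq_eq_true e)) fun e => ?_
  exfalso
  obtain ⟨w, hw, hne⟩ := List.any_eq_true.1 e
  have hwF : w ∈ fixAB := (List.mem_filter.1 hw).1
  set wp : X := ⟨w, lt_pt (fixAB_lt hwF)⟩
  have hinv0 : phi h⁻¹ pt0 = pt0 := by
    rw [map_inv, Equiv.Perm.inv_def, Equiv.symm_apply_eq, h0]
  have hw' := near_maps (Subgroup.inv_mem _ hh) hinv0 (x := wp) hw
  have c6 : phi (mem pt6) (phi h⁻¹ wp) = phi h⁻¹ wp := Fin.ext ((mem_AB_val pair0_fixAB.2 _).trans
    (Nat.eq_of_beq_eq_true (List.all_eq_true.1 near_ok.1 _ hw')))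
  rw [← commute_iff] at c6
  have := c6.map (MulAut.conj h)
  rw [conj_mem, conj_mem, ← Equiv.Perm.mul_apply, ← map_mul, mul_inv_cancel, map_one, Equiv.Perm.one_apply,
    commute_iff] at this
  have e' := congrArg Fin.val this
  rw [mem_AB_val (CAB_maps hh pair0_fixAB.2)] at e'
  simp only [wp] at e'
  simp [e', Nat.beq_refl] at hne

theorem partner_zero : partner 0 = 6 := Nat.eq_of_beq_eq_true pair_shape.2.2.2.1

theorem exists_carrier2 : ∀ i : X, i.val ∈ fixAB →
    ∃ g ∈ CAB, phi g pt0 = i ∧ (phi g pt6).val = partner i.val := by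
  have key : ∀ k, k < pairTree.length → ∃ g ∈ CAB, (phi g pt0).val = (pairTree.getD k (0, 0, 0)).1 ∧
      (phi g pt6).val = partner (pairTree.getD k (0, 0, 0)).1 := by
    intro k
    induction k using Nat.strong_induction_on with
    | h k ih =>
      intro hk
      have h := List.all_eq_true.1 tree2_ok.2 k (List.mem_range.2 hk)
      simp only [Bool.and_eq_true, Bool.or_eq_true, Nat.beq_eq] at h
      set t := pairTree.getD k (0, 0, 0)
      obtain ⟨⟨⟨hm, him⟩, himp⟩, hpar⟩ := h
      have hm' := mem_of_any hm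
      obtain ⟨g, hg, e0, e6⟩ : ∃ g ∈ CAB, (phi g pt0).val = t.2.2 ∧ (phi g pt6).val = partner t.2.2 := by
        rcases hpar with hp | hp
        · exact ⟨1, one_mem _, by rw [map_one, hp]; rfl, by rw [map_one, hp, partner_zero]; rfl⟩
        · obtain ⟨u, hu, hue⟩ := List.any_eq_true.1 hp
          obtain ⟨k', hk', rfl⟩ := List.getElem_of_mem hu
          rw [List.length_take] at hk'
          rw [List.getElem_take] at hue
          have e : (pairTree.getD k' (0, 0, 0)).1 = t.2.2 := by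
            rw [List.getD_eq_getElem _ _ (by omega)]; exact Nat.eq_of_beq_eq_true hue
          obtain ⟨g, hg, h1, h2⟩ := ih k' (by omega) (by omega)
          exact ⟨g, hg, h1.trans e, by rw [h2, e]⟩
      set mp : X := ⟨moveMem2.getD t.2.1 0, lt_pt (fixAB_lt hm')⟩
      refine ⟨mem mp * g, Subgroup.mul_mem _ (mem_CAB hm') hg, ?_, ?_⟩
      · rw [map_mul, Equiv.Perm.mul_apply, mem_AB_val (i := mp) hm', e0]
        exact him
      · rw [map_mul, Equiv.Perm.mul_apply, mem_AB_val (i := mp) hm', e6]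
        exact himp
  intro i hi
  have h := List.all_eq_true.1 tree2_ok.1 i.val hi
  rw [Bool.or_eq_true] at h
  rcases h with h | h
  · have e : i = pt0 := Fin.ext (Nat.eq_of_beq_eq_true h)
    exact ⟨1, one_mem _, by rw [map_one, e]; rfl, by rw [map_one, e]; exact partner_zero.symm⟩
  · obtain ⟨t, ht, hte⟩ := List.any_eq_true.1 h
    obtain ⟨k, hk, rfl⟩ := List.getElem_of_mem ht
    obtain ⟨g, hg, h1, h2⟩ := key k hk
    have e : (pairTree.getD k (0, 0, 0)).1 = i.val := by
      rw [List.getD_eq_getElem _ _ hk]; exact Nat.eq_of_beq_eq_true hte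
    exact ⟨g, hg, Fin.ext (h1.trans e), by rw [h2, e]⟩

/-- The centraliser maps pairs to pairs. -/
theorem partner_map {g : K} (hg : g ∈ CAB) {x : X} (hx : x.val ∈ fixAB) {y : X} (hy : y.val = partner x.val) :
    (phi g y).val = partner (phi g x).val := by
  obtain ⟨a, ha, a0, a6⟩ := exists_carrier2 x hx
  obtain ⟨b, hb, b0, b6⟩ := exists_carrier2 _ (CAB_maps hg hx)
  have e : phi (b⁻¹ * g * a) pt0 = pt0 := by
    rw [map_mul, map_mul, map_inv, Equiv.Perm.mul_apply, Equiv.Perm.mul_apply, a0, Equiv.Perm.inv_def,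
      Equiv.symm_apply_eq, b0]
  have e6 := fix_six (Subgroup.mul_mem _ (Subgroup.mul_mem _ (Subgroup.inv_mem _ hb) hg) ha) e
  have ay : phi a pt6 = y := Fin.ext (a6.trans hy.symm)
  rw [map_mul, map_mul, map_inv, Equiv.Perm.mul_apply, Equiv.Perm.mul_apply, ay, Equiv.Perm.inv_def,
    Equiv.symm_apply_eq] at e6
  rw [e6, b6]

theorem botC : fixSub phi ([0] ++ levelsC.map Level.base) = ⊥ :=
  (base_tight realised levelsC_ok.1 (stab_bound levelsC_ok.2)).2

theorem boundAB_val : boundProd levelsC allowAB = 46080 ∧ boundProd levelsC allowKer = 32 := by decide +kernel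

theorem levelsC_cons : ∃ l ls, levelsC = l :: ls ∧ l.base = 6 ∧ ls.length = 6 := by
  obtain ⟨hlen, h6, -⟩ := levelsC_facts
  match h : levelsC with
  | [] => rw [h] at hlen; simp at hlen
  | l :: ls =>
    rw [h] at hlen h6
    exact ⟨l, ls, rfl, Nat.eq_of_beq_eq_true h6, by simpa using hlen⟩

theorem levelsC_fix {x : ℕ} (h : x ∈ levelsC.map Level.base) : x ∈ fixAB :=
  mem_of_any (List.all_eq_true.1 levelsC_facts.2.2 x h)

theorem fixAB_stab_bound : Nat.card ↥(CAB ⊓ fixSub phi [0]) ≤ 46080 := by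
  refine le_of_le_of_eq (card_le_bound realised CAB levelsC_ok.1 (stab_bound levelsC_ok.2) ?_) boundAB_val.1
  obtain ⟨l, ls, hls, hb, hlen⟩ := levelsC_cons
  rw [hls, allowAB, show List.replicate 6 fixAB = List.replicate ls.length fixAB by rw [hlen]]
  refine ⟨fun m hm i hi => ?_, allowed_of_all fun m hm i hi => CAB_maps hm (levelsC_fix ?_)⟩
  · rw [show i = pt6 from Fin.ext (hi.trans hb), fix_six hm.1 (hm.2 pt0 (by simp [pt0]))]
    simp [pt6]
  · rw [hls]; exact List.mem_cons_of_mem _ hi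

theorem card_CAB_le : Nat.card CAB ≤ 3317760 := by
  rw [← fixSub_first]
  refine le_trans (orbit_le (φ := phi) CAB [] pt0 fixAB fun m hm => CAB_maps hm.1 pair0_fixAB.1) ?_
  rw [fix_lengths.2.2, show ([] : List ℕ) ++ [pt0.val] = [0] from rfl]
  exact le_trans (Nat.mul_le_mul_left _ fixAB_stab_bound) (by norm_num)

theorem CS_two_le : CS ⊓ fixSub phi [0, 6] ≤ CAB ⊓ fixSub phi [0] := by
  rintro g ⟨hg, hf⟩
  refine ⟨?_, fixSub_le (fun x hx => by simp at hx; simp [hx]) hf⟩
  have hA : g * mA = mA * g := by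
    rw [mA, mem_pt0]; exact fix_pt0_iff.1 (hf pt0 (by simp [pt0]))
  have hB : g * mB = mB * g := by
    have := mem_phi g pt6
    rw [hf pt6 (by simp [pt6])] at this
    exact (mul_inv_eq_iff_eq_mul.1 this.symm)
  show sigmaAB g = g
  rw [sigmaAB, MulAut.mul_apply, MulAut.conj_apply,
    show mA * mB * g * (mA * mB)⁻¹ = g by
      rw [mul_inv_eq_iff_eq_mul, mul_assoc, ← hB, ← mul_assoc, ← hA, mul_assoc]]
  exact hg

theorem six_link : ∃ k : Fin 63, pt63 k = pt6 := by
  have h : (linkList.any fun y => Nat.beq y 6) = true := by decide +kernel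
  obtain ⟨n, hn, e⟩ := List.getElem_of_mem (mem_of_any h)
  exact ⟨⟨n, link_ok.1 ▸ hn⟩, Fin.ext ((List.getD_eq_getElem _ _ hn).trans e)⟩

theorem card_CAB : Nat.card CAB = 3317760 := by
  refine le_antisymm card_CAB_le ?_
  obtain ⟨k, hk⟩ := six_link
  have h1 := orbit_le (φ := phi) CS [0] pt6 linkList fun m hm => by
    rw [← CA_eq] at hm
    obtain ⟨l, hl⟩ := exists_idx63 ⟨m, hm⟩ k
    rw [hk] at hl
    exact hl ▸ linkN l
  rw [← CA_eq, card_CA, link_ok.1, show [0] ++ [pt6.val] = [0, 6] from rfl] at h1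
  have h2 : 46080 ≤ Nat.card ↥(CAB ⊓ fixSub phi [0]) :=
    le_trans (Nat.le_of_mul_le_mul_left (show 63 * 46080 ≤ 63 * _ from h1) (by norm_num))
      (Nat.card_le_card_of_injective _ (Subgroup.inclusion_injective CS_two_le))
  have h3 := orbit_ge (φ := phi) CAB [] pt0 fixAB (by rw [← fix_rho2]; exact nodup_fixList _) fun a ha => by
    obtain ⟨g, hg, e, -⟩ := exists_carrier2 ⟨a, lt_pt (fixAB_lt ha)⟩ ha
    exact ⟨g, ⟨hg, by simp [fixSub_nil]⟩, congrArg Fin.val e⟩
  rw [fixSub_first, fix_lengths.2.2, show ([] : List ℕ) ++ [pt0.val] = [0] from rfl] at h3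
  exact le_trans (le_trans (le_of_eq (by norm_num)) (Nat.mul_le_mul_left 72 h2)) h3

/-- The elements keeping every pair. -/
def keepPairs : Subgroup K where
  carrier := {g | g ∈ CAB ∧ ∀ x : X, x.val ∈ fixAB → (phi g x).val = x.val ∨ (phi g x).val = partner x.val}
  one_mem' := ⟨one_mem _, fun x _ => Or.inl (by rw [map_one]; rfl)⟩
  mul_mem' {a b} ha hb := ⟨Subgroup.mul_mem _ ha.1 hb.1, fun x hx => by
    rw [map_mul, Equiv.Perm.mul_apply]
    rcases hb.2 x hx with e | e
    · rw [show phi b x = x from Fin.ext e]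
      exact ha.2 x hx
    · have e' := partner_map ha.1 hx e
      rcases ha.2 x hx with f | f
      · right; rw [e', f]
      · left
        rw [e', f]
        have hp : x.val = partner (partner x.val) := by
          have hall : fixAB.all (fun z => Nat.beq (partner (partner z)) z) = true := by decide +kernel
          exact (Nat.eq_of_beq_eq_true (List.all_eq_true.1 hall _ hx)).symm
        exact hp.symm⟩
  inv_mem' {a} ha := ⟨Subgroup.inv_mem _ ha.1, fun x hx => by
    have hy := CAB_maps (Subgroup.inv_mem _ ha.1) hx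
    have hxy : phi a (phi a⁻¹ x) = x := by
      rw [← Equiv.Perm.mul_apply, ← map_mul, mul_inv_cancel, map_one, Equiv.Perm.one_apply]
    rcases ha.2 _ hy with e | e
    · left; rw [hxy] at e; exact e.symm
    · right
      rw [hxy] at e
      have hall : fixAB.all (fun z => Nat.beq (partner (partner z)) z) = true := by decide +kernel
      have h2 := Nat.eq_of_beq_eq_true (List.all_eq_true.1 hall _ hy)
      rw [← e] at h2
      exact h2.symm⟩

theorem card_keepPairs_le : Nat.card keepPairs ≤ 64 := by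
  rw [← fixSub_first]
  refine le_trans (orbit_le (φ := phi) keepPairs [] pt0 [0, 6] fun m hm => ?_) ?_
  · rcases hm.1.2 pt0 pair0_fixAB.1 with e | e
    · rw [e]; simp [pt0]
    · rw [e, show pt0.val = 0 from rfl, partner_zero]; simp
  rw [show [0, 6].length = 2 from rfl, show ([] : List ℕ) ++ [pt0.val] = [0] from rfl]
  refine le_trans (Nat.mul_le_mul_left _ (le_of_le_of_eq
    (card_le_bound realised keepPairs levelsC_ok.1 (stab_bound levelsC_ok.2) ?_) boundAB_val.2)) (by norm_num)
  obtain ⟨l, ls, hls, hb, -⟩ := levelsC_cons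
  have hrest : ∀ (ms : List Level) (fixed : List ℕ), (∀ m ∈ ms, m.base ∈ fixAB) →
      Allowed phi keepPairs fixed ms (ms.map fun l => [l.base, partner l.base]) := by
    intro ms
    induction ms with
    | nil => intro fixed _; trivial
    | cons m ms ih =>
      intro fixed h
      refine ⟨fun g hg i hi => ?_, ih _ fun a ha => h a (List.mem_cons_of_mem _ ha)⟩
      have hiF : i.val ∈ fixAB := hi ▸ h m List.mem_cons_self
      rcases hg.1.2 i hiF with e | e <;> rw [e, hi] <;> simp
  rw [allowKer, hls]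
  refine ⟨fun m hm i hi => ?_, hrest ls _ fun a ha => levelsC_fix ?_⟩
  · rw [show i = pt6 from Fin.ext (hi.trans hb), fix_six hm.1.1 (hm.2 pt0 (by simp [pt0]))]
    simp [pt6]
  · rw [hls]; exact List.mem_map.2 ⟨a, List.mem_cons_of_mem _ ha, rfl⟩

end CfsgLib.Fi22P.OutInvol
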