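import Cfsg.Agent.Lib.Fi22P.OutInvol.CentABGroup
import Cfsg.Agent.Lib.ThreeTransp.M22PairFitting
import Cfsg.Prelude.Def_Solvable

/-!
# The centraliser of the third involution is `2⁶ : O⁻₆(2)`
-/

set_option autoImplicit false
set_option maxRecDepth 100000

namespace CfsgLib.Fi22P.OutInvol

open CfsgLib.PresCert

attribute [local irreducible] rawCols piCols pathTab uw relData levels levelsA levelsB levelsC fixS fixA fixAB
  pairList pairTree pairVec pairBasis

/-- The index type of the quotient space. -/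
abbrev I6 : Type := (Fin 2 ⊕ Fin 2) ⊕ Fin 2

/-- The vectors. -/
abbrev V6 : Type := I6 → ZMod 2

/-- The number of a vector. -/
def numV (v : V6) : ℕ :=
  (v (.inl (.inl 0))).val + 2 * (v (.inl (.inl 1))).val + 4 * (v (.inl (.inr 0))).val +
    8 * (v (.inl (.inr 1))).val + 16 * (v (.inr 0)).val + 32 * (v (.inr 1)).val

/-- The vector of a number. -/
def vecV (n : ℕ) : V6 :=
  Sum.elim (Sum.elim (fun i => if n.testBit i.val then 1 else 0) fun i => if n.testBit (i.val + 2) then 1 else 0)
    fun i => if n.testBit (i.val + 4) then 1 else 0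

theorem num_vec : ∀ n : Fin 64, numV (vecV n.val) = n.val := by decide +kernel

theorem vec_num : ∀ v : V6, vecV (numV v) = v ∧ numV v < 64 := by decide +kernel

theorem num_add : ∀ v w : V6, numV (v + w) = numV v ^^^ numV w := by decide +kernel

theorem num_zero : numV 0 = 0 := by decide +kernel

theorem qBit_spec : ∀ v : V6, qBit (numV v) = decide (Cfsg.quadFormMinus 2 (ZMod 2) 1 1 v = 1) := by
  decide +kernel

/-- The product of members of a list, the first applied first. -/
noncomputable def memProd : List ℕ → K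
  | [] => 1
  | a :: l => memProd l * memK a
where
  /-- A member from its number. -/
  memK (x : ℕ) : K := if h : x < 3510 then mem ⟨x, lt_pt h⟩ else 1

theorem memK_eq {x : ℕ} (h : x < 3510) : memProd.memK x = mem ⟨x, lt_pt h⟩ := dif_pos h

theorem phi_memProd : ∀ {l : List ℕ}, (∀ x ∈ l, x ∈ fixAB) → ∀ y : X, (phi (memProd l) y).val = mimgs l y.val
  | [], _, y => by rw [memProd, map_one]; rfl
  | a :: l, h, y => by
    have ha := h a List.mem_cons_self
    rw [memProd, map_mul, Equiv.Perm.mul_apply, phi_memProd (fun x hx => h x (List.mem_cons_of_mem _ hx)),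
      memK_eq (fixAB_lt ha), mem_AB_val (i := ⟨a, lt_pt (fixAB_lt ha)⟩) ha]
    rfl

theorem eq_of_pts {g h : K} (he : ∀ y : X, y.val ∈ ptsC → phi g y = phi h y) : g = h := by
  have e : h⁻¹ * g ∈ fixSub phi ([0] ++ levelsA.map Level.base) := fun i hi => by
    rw [map_mul, map_inv, Equiv.Perm.mul_apply, Equiv.Perm.inv_def, Equiv.symm_apply_eq, he i hi]
  rw [botA, Subgroup.mem_bot, inv_mul_eq_one] at e
  exact e.symm

theorem pair_spec (k : Fin 36) : (pairList.getD k.val (0, 0)).1 ∈ fixAB ∧ (pairList.getD k.val (0, 0)).2 ∈ fixAB := by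
  have h := List.all_eq_true.1 pair_shape.2.1 (pairList.getD k.val (0, 0)) (by
    rw [List.getD_eq_getElem _ _ (pair_shape.1.symm ▸ k.isLt)]; exact List.getElem_mem _)
  simp only [Bool.and_eq_true] at h
  exact ⟨mem_of_any h.1.1.1, mem_of_any h.1.1.2⟩

theorem pairMems_fix {idx : List ℕ} (h : ∀ i ∈ idx, i < 36) : ∀ x ∈ pairMems idx, x ∈ fixAB := by
  intro x hx
  obtain ⟨i, hi, hxi⟩ := List.mem_flatMap.1 hx
  obtain ⟨h1, h2⟩ := pair_spec ⟨i, h i hi⟩
  simp only [List.mem_cons, List.not_mem_nil, or_false] at hxi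
  rcases hxi with rfl | rfl
  exacts [h1, h2]

theorem basis_idx {b : List ℕ} (h : b ∈ pairBasis) : ∀ i ∈ b, i < 36 := by
  have := List.all_eq_true.1 basis_ok.2.1 b h
  rw [Bool.and_eq_true] at this
  exact fun i hi => Nat.blt_eq.mp (List.all_eq_true.1 this.1 i hi)

/-- The basis of the elementary group. -/
noncomputable def basisElts : List K := pairBasis.map fun b => memProd (pairMems b)

theorem basis_comm : ∀ a ∈ basisElts, a * a = 1 ∧ ∀ b ∈ basisElts, Commute a b := by
  intro a ha
  obtain ⟨p, hp, rfl⟩ := List.mem_map.1 ha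
  have hpf := pairMems_fix (basis_idx hp)
  refine ⟨eq_of_pts fun y hy => Fin.ext ?_, fun b hb => ?_⟩
  · have h := List.all_eq_true.1 basis_ok.2.1 p hp
    rw [Bool.and_eq_true] at h
    rw [map_mul, Equiv.Perm.mul_apply, phi_memProd hpf, phi_memProd hpf, map_one]
    exact Nat.eq_of_beq_eq_true (List.all_eq_true.1 h.2 _ hy)
  · obtain ⟨q, hq, rfl⟩ := List.mem_map.1 hb
    have hqf := pairMems_fix (basis_idx hq)
    refine eq_of_pts fun y hy => Fin.ext ?_
    rw [map_mul, map_mul, Equiv.Perm.mul_apply, Equiv.Perm.mul_apply, phi_memProd hpf, phi_memProd hqf,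
      phi_memProd hqf, phi_memProd hpf]
    exact Nat.eq_of_beq_eq_true (List.all_eq_true.1 (List.all_eq_true.1 (List.all_eq_true.1 basis_ok.2.2 p hp) q hq) _ hy)

/-- The product of a selection of a list, by bits. -/
def selProd {M : Type*} [Monoid M] : List M → ℕ → M
  | [], _ => 1
  | b :: L, v => if v.testBit 0 then b * selProd L (v / 2) else selProd L (v / 2)

theorem selProd_mem {M : Type*} [Group M] {H : Subgroup M} : ∀ {L : List M}, (∀ b ∈ L, b ∈ H) → ∀ v, selProd L v ∈ H
  | [], _, v => one_mem _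
  | b :: L, h, v => by
    have ih := selProd_mem (H := H) (L := L) (fun a ha => h a (List.mem_cons_of_mem _ ha)) (v / 2)
    rw [selProd]
    split_ifs
    exacts [mul_mem (h b List.mem_cons_self) ih, ih]

theorem selProd_xor {M : Type*} [Group M] : ∀ {L : List M}, (∀ a ∈ L, a * a = 1 ∧ ∀ b ∈ L, Commute a b) →
    ∀ v w, selProd L (v ^^^ w) = selProd L v * selProd L w
  | [], _, v, w => by simp [selProd]
  | b :: L, h, v, w => by
    have ih := selProd_xor (L := L) (fun a ha => ⟨(h a (List.mem_cons_of_mem _ ha)).1,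
      fun c hc => (h a (List.mem_cons_of_mem _ ha)).2 c (List.mem_cons_of_mem _ hc)⟩) (v / 2) (w / 2)
    have hb : ∀ n, Commute b (selProd L n) := fun n => by
      have : selProd L n ∈ Subgroup.centralizer ({b} : Set M) := selProd_mem (fun a ha =>
        Subgroup.mem_centralizer_singleton_iff.2 ((h b List.mem_cons_self).2 a (List.mem_cons_of_mem _ ha)).eq.symm) n
      exact (Subgroup.mem_centralizer_singleton_iff.1 this).symm
    have hdiv : (v ^^^ w) / 2 = v / 2 ^^^ w / 2 := Nat.eq_of_testBit_eq fun i => by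
      simp only [Nat.testBit_div_two, Nat.testBit_xor]
    simp only [selProd, Nat.testBit_xor, hdiv, ih]
    cases v.testBit 0 <;> cases w.testBit 0 <;> simp only [Bool.xor_false, Bool.xor_true, Bool.not_false,
      Bool.not_true, if_true, if_false, Bool.false_eq_true]
    · rw [← mul_assoc, ← mul_assoc, (hb (v / 2)).eq]
    · rw [mul_assoc]
    · rw [show b * selProd L (v / 2) * (b * selProd L (w / 2)) =
        b * (selProd L (v / 2) * b) * selProd L (w / 2) by group, ← (hb (v / 2)).eq, ← mul_assoc b b,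
        (h b List.mem_cons_self).1, one_mul]

/-- The elementary group as the image of the vectors. -/
noncomputable def eltHom : Multiplicative V6 →* K where
  toFun v := selProd basisElts (numV v.toAdd)
  map_one' := by
    rw [toAdd_one, num_zero]
    have : ∀ L : List K, selProd L 0 = 1 := fun L => by
      induction L with
      | nil => rfl
      | cons b L ih => simp [selProd, ih]
    exact this _
  map_mul' v w := by rw [toAdd_mul, num_add, selProd_xor basis_comm]

/-- The element of a vector. -/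
noncomputable def elt (v : V6) : K := eltHom (Multiplicative.ofAdd v)

theorem elt_def (v : V6) : elt v = selProd basisElts (numV v) := rfl

theorem elt_add (v w : V6) : elt (v + w) = elt v * elt w := eltHom.map_mul _ _

theorem phi_elt : ∀ {B : List (List ℕ)}, (∀ b ∈ B, ∀ i ∈ b, i < 36) → ∀ (n : ℕ) (y : X),
    (phi (selProd (B.map fun b => memProd (pairMems b)) n) y).val = selImg (B.map pairMems) n y.val
  | [], _, n, y => by
    rw [List.map_nil, selProd, map_one]
    rfl
  | b :: B, h, n, y => by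
    have ih := phi_elt (B := B) (fun a ha => h a (List.mem_cons_of_mem _ ha)) (n / 2) y
    rw [List.map_cons, List.map_cons, selProd, selImg]
    split_ifs
    · rw [map_mul, Equiv.Perm.mul_apply, phi_memProd (pairMems_fix (h b List.mem_cons_self)), ih]
    · exact ih

theorem phi_elt' (v : V6) (y : X) : (phi (elt v) y).val = selImg (pairBasis.map pairMems) (numV v) y.val :=
  phi_elt (fun b hb => basis_idx hb) _ y

theorem elt_injective : Function.Injective elt := by
  have h0 : ∀ v, elt v = 1 → v = 0 := by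
    intro v hv
    by_contra hne
    have hn : numV v ≠ 0 := fun e => hne (by rw [← (vec_num v).1, e]; decide +kernel)
    have h := List.all_eq_true.1 vec_moves (numV v) (List.mem_range.2 (vec_num v).2)
    rw [Bool.or_eq_true] at h
    obtain ⟨y, hy, hmv⟩ := List.any_eq_true.1 (h.resolve_left fun e => hn (Nat.eq_of_beq_eq_true e))
    have hlt : ptsC.all (fun z => Nat.blt z 3510) = true := by decide +kernel
    set yp : X := ⟨y, lt_pt (Nat.blt_eq.mp (List.all_eq_true.1 hlt y hy))⟩
    have e := phi_elt' v yp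
    rw [hv, map_one, Equiv.Perm.one_apply] at e
    simp only [yp] at e
    simp [← e, Nat.beq_refl] at hmv
  intro v w h
  have := h0 (v + w) (by
    rw [elt_add, h]
    rw [← elt_add]
    have : w + w = 0 := funext fun i => by
      have : ∀ z : ZMod 2, z + z = 0 := by decide
      exact this _
    rw [this]; exact eltHom.map_one)
  have hz : ∀ z : ZMod 2, ∀ u : ZMod 2, z + u = 0 → z = u := by decide
  exact funext fun i => hz _ _ (congrFun this i)

/-- The product of a pair. -/
noncomputable def pairElt (k : ℕ) : K := memProd [(pairList.getD k (0, 0)).1, (pairList.getD k (0, 0)).2]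

theorem pair_elt (k : Fin 36) : elt (vecV (pairVec.getD k.val 0)) = pairElt k.val := by
  have hlt : pairVec.getD k.val 0 < 64 := by
    rw [List.getD_eq_getElem _ _ (vec_ok.1.symm ▸ k.isLt)]
    exact Nat.blt_eq.mp (List.all_eq_true.1 vec_ok.2.2.1 _ (List.getElem_mem _))
  refine eq_of_pts fun y hy => Fin.ext ?_
  obtain ⟨h1, h2⟩ := pair_spec k
  rw [phi_elt', num_vec ⟨_, hlt⟩, pairElt, phi_memProd fun z hz => ?_]
  swap
  · rcases List.mem_cons.1 hz with rfl | hz
    · exact h1
    · rw [List.mem_singleton.1 hz]; exact h2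
  exact Nat.eq_of_beq_eq_true (List.all_eq_true.1 (List.all_eq_true.1 vec_ok.2.2.2.2 k.val (List.mem_range.2 k.isLt)) _ hy)

/-- The elementary subgroup. -/
noncomputable abbrev OAB : Subgroup K := eltHom.range

theorem mem_OAB {g : K} : g ∈ OAB ↔ ∃ v, elt v = g :=
  ⟨fun ⟨v, e⟩ => ⟨v.toAdd, e⟩, fun ⟨v, e⟩ => ⟨Multiplicative.ofAdd v, e⟩⟩

theorem pairElt_OAB (k : Fin 36) : pairElt k.val ∈ OAB := mem_OAB.2 ⟨_, pair_elt k⟩

theorem pairElt_mem (k : Fin 36) :
    pairElt k.val = mem ⟨(pairList.getD k.val (0, 0)).2, lt_pt (fixAB_lt (pair_spec k).2)⟩ *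
      mem ⟨(pairList.getD k.val (0, 0)).1, lt_pt (fixAB_lt (pair_spec k).1)⟩ := by
  rw [pairElt, memProd, memProd, memProd, one_mul, memK_eq (fixAB_lt (pair_spec k).2),
    memK_eq (fixAB_lt (pair_spec k).1)]

theorem pair_of_member {x y : X} (hx : x.val ∈ fixAB) (hy : y.val = partner x.val) :
    ∃ k : Fin 36, mem x * mem y = pairElt k.val ∧ Commute (mem x) (mem y) ∧
      (((pairList.getD k.val (0, 0)).1 = x.val ∧ (pairList.getD k.val (0, 0)).2 = y.val) ∨
        ((pairList.getD k.val (0, 0)).2 = x.val ∧ (pairList.getD k.val (0, 0)).1 = y.val)) := by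
  obtain ⟨p, hp, hpx⟩ := List.any_eq_true.1 (List.all_eq_true.1 pair_shape.2.2.1 _ hx)
  unfold partner at hy
  cases hf : pairList.find? (fun p => inPairs x.val p) with
  | none => exact absurd hpx (List.find?_eq_none.1 hf p hp)
  | some q =>
    rw [hf] at hy
    have hq := List.mem_of_find?_eq_some hf
    have hqx : inPairs x.val q = true := List.find?_some (p := fun p => inPairs x.val p) hf
    obtain ⟨k, hk, rfl⟩ := List.getElem_of_mem hq
    have hk' : k < 36 := pair_shape.1 ▸ hk
    have hsh := List.all_eq_true.1 pair_shape.2.1 _ (List.getElem_mem hk)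
    simp only [Bool.and_eq_true, Nat.beq_eq, Bool.not_eq_true'] at hsh
    obtain ⟨⟨⟨h1, h2⟩, hc⟩, hne⟩ := hsh
    set a : X := ⟨pairList[k].1, lt_pt (fixAB_lt (mem_of_any h1))⟩
    set b : X := ⟨pairList[k].2, lt_pt (fixAB_lt (mem_of_any h2))⟩
    have hcab : Commute (mem a) (mem b) :=
      (commute_iff a b).2 (Fin.ext ((mem_AB_val (mem_of_any h1) b).trans hc))
    have hpe : pairElt k = mem b * mem a := by
      rw [pairElt, List.getD_eq_getElem _ _ hk, memProd, memProd, memProd, one_mul,
        memK_eq (fixAB_lt (mem_of_any h2)), memK_eq (fixAB_lt (mem_of_any h1))]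
    simp only [inPairs, Bool.or_eq_true, Nat.beq_eq] at hqx
    refine ⟨⟨k, hk'⟩, ?_⟩
    simp only [List.getD_eq_getElem _ _ hk] at hy ⊢
    by_cases he : pairList[k].1 = x.val
    · rw [he, Nat.beq_refl] at hy
      have hxa : x = a := Fin.ext he.symm
      have hyb : y = b := Fin.ext hy
      subst hxa hyb
      exact ⟨hcab.eq.trans hpe.symm, hcab, Or.inl ⟨rfl, rfl⟩⟩
    · have e2 := hqx.resolve_left he
      have hb : Nat.beq pairList[k].1 x.val = false := by
        rw [Bool.eq_false_iff]; exact fun h => he (Nat.eq_of_beq_eq_true h)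
      simp only [hb] at hy
      have hxb : x = b := Fin.ext e2.symm
      have hya : y = a := Fin.ext hy
      subst hxb hya
      exact ⟨hpe.symm, hcab.symm, Or.inr ⟨rfl, rfl⟩⟩

theorem partner_of_list (k : Fin 36) :
    partner (pairList.getD k.val (0, 0)).2 = (pairList.getD k.val (0, 0)).1 ∧
      partner (pairList.getD k.val (0, 0)).1 = (pairList.getD k.val (0, 0)).2 := by
  have h : (List.range 36).all (fun k => Nat.beq (partner (pairList.getD k (0, 0)).2) (pairList.getD k (0, 0)).1 &&
      Nat.beq (partner (pairList.getD k (0, 0)).1) (pairList.getD k (0, 0)).2) = true := by decide +kernel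
  have := List.all_eq_true.1 h k.val (List.mem_range.2 k.isLt)
  simp only [Bool.and_eq_true, Nat.beq_eq] at this
  exact this

theorem conj_pair {g : K} (hg : g ∈ CAB) (k : Fin 36) : ∃ l : Fin 36, g * pairElt k.val * g⁻¹ = pairElt l.val := by
  obtain ⟨h1, h2⟩ := pair_spec k
  set a : X := ⟨(pairList.getD k.val (0, 0)).1, lt_pt (fixAB_lt h1)⟩
  set b : X := ⟨(pairList.getD k.val (0, 0)).2, lt_pt (fixAB_lt h2)⟩
  obtain ⟨l, hl, -, -⟩ := pair_of_member (x := phi g b) (y := phi g a) (CAB_maps hg h2)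
    (partner_map hg h2 (partner_of_list k).1.symm)
  refine ⟨l, ?_⟩
  rw [← hl, pairElt_mem, mem_phi, mem_phi]
  group
  rfl

theorem conj_OAB {g : K} (hg : g ∈ CAB) {o : K} (ho : o ∈ OAB) : g * o * g⁻¹ ∈ OAB := by
  obtain ⟨v, rfl⟩ := mem_OAB.1 ho
  have hle : selProd basisElts (numV v) ∈ OAB.comap (MulAut.conj g).toMonoidHom := by
    refine selProd_mem (fun b hb => ?_) _
    obtain ⟨p, hp, rfl⟩ := List.mem_map.1 hb
    have key : ∀ idx : List ℕ, (∀ i ∈ idx, i < 36) →
        memProd (pairMems idx) ∈ OAB.comap (MulAut.conj g).toMonoidHom := by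
      intro idx
      induction idx with
      | nil => intro _; exact one_mem _
      | cons i idx ih =>
        intro hi
        have e : memProd (pairMems (i :: idx)) = memProd (pairMems idx) * pairElt i := by
          show memProd ((pairList.getD i (0, 0)).1 :: (pairList.getD i (0, 0)).2 :: pairMems idx) = _
          rw [memProd, memProd, pairElt, memProd, memProd, memProd, one_mul, mul_assoc]
        rw [e]
        refine mul_mem (ih fun j hj => hi j (List.mem_cons_of_mem _ hj)) ?_
        obtain ⟨l, hl⟩ := conj_pair hg ⟨i, hi i List.mem_cons_self⟩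
        exact Subgroup.mem_comap.2 (show g * pairElt i * g⁻¹ ∈ OAB from hl ▸ pairElt_OAB l)
    exact key p (basis_idx hp)
  exact hle

theorem elt_one : elt 0 = 1 := eltHom.map_one

theorem card_OAB : Nat.card OAB = 64 := by
  have e : Multiplicative V6 ≃ OAB :=
    (MonoidHom.ofInjective (f := eltHom) fun a b h => Multiplicative.toAdd.injective (elt_injective h)).toEquiv
  rw [← Nat.card_congr e, Nat.card_congr Multiplicative.toAdd, Nat.card_fun, Nat.card_zmod]
  simp

/-- The image of a vector under conjugation. -/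
noncomputable def conjVec (g : CAB) (v : V6) : V6 :=
  (mem_OAB.1 (conj_OAB g.2 (mem_OAB.2 ⟨v, rfl⟩))).choose

theorem elt_conjVec (g : CAB) (v : V6) : elt (conjVec g v) = g.val * elt v * g.val⁻¹ :=
  (mem_OAB.1 (conj_OAB g.2 (mem_OAB.2 ⟨v, rfl⟩))).choose_spec

theorem q_pair (v : V6) : Cfsg.quadFormMinus 2 (ZMod 2) 1 1 v = 1 ↔ ∃ k : Fin 36, elt v = pairElt k.val := by
  have h := List.all_eq_true.1 vec_ok.2.2.2.1 (numV v) (List.mem_range.2 (vec_num v).2)
  rw [decide_eq_true_eq, qBit_spec] at h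
  rw [← decide_eq_true_iff (p := Cfsg.quadFormMinus 2 (ZMod 2) 1 1 v = 1), ← h]
  constructor
  · intro hh
    obtain ⟨k, hk, e⟩ := List.getElem_of_mem (mem_of_any hh)
    refine ⟨⟨k, vec_ok.1 ▸ hk⟩, ?_⟩
    rw [← pair_elt, List.getD_eq_getElem _ _ hk, e, (vec_num v).1]
  · rintro ⟨k, hk⟩
    have hkl : k.val < pairVec.length := vec_ok.1.symm ▸ k.isLt
    rw [← pair_elt] at hk
    rw [elt_injective hk, List.getD_eq_getElem _ _ hkl,
      num_vec ⟨_, Nat.blt_eq.mp (List.all_eq_true.1 vec_ok.2.2.1 _ (List.getElem_mem hkl))⟩]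
    exact List.any_eq_true.2 ⟨_, List.getElem_mem hkl, Nat.beq_refl _⟩

/-- The form. -/
noncomputable abbrev Q6 : QuadraticForm (ZMod 2) V6 :=
  CfsgLib.Classical.qExt 2 (CfsgLib.Classical.qBin (1 : ZMod 2) 1)

theorem Q6_apply (v : V6) : Q6 v = Cfsg.quadFormMinus 2 (ZMod 2) 1 1 v :=
  congrFun (CfsgLib.Classical.coe_qExt_qBin 2 (1 : ZMod 2) 1) v

theorem conjVec_add (g : CAB) (v w : V6) : conjVec g (v + w) = conjVec g v + conjVec g w := elt_injective (by
  rw [elt_add, elt_conjVec, elt_conjVec, elt_conjVec, elt_add]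
  group)

theorem conjVec_mul (g h : CAB) (v : V6) : conjVec (g * h) v = conjVec g (conjVec h v) := elt_injective (by
  rw [elt_conjVec, elt_conjVec, elt_conjVec, Subgroup.coe_mul]
  group)

theorem conjVec_one (v : V6) : conjVec 1 v = v := elt_injective (by
  rw [elt_conjVec, OneMemClass.coe_one]; group)

/-- The linear map of an element. -/
noncomputable def linV (g : CAB) : V6 ≃ₗ[ZMod 2] V6 where
  toFun := conjVec g
  map_add' := conjVec_add g
  map_smul' c v := by
    have h2 : ∀ z : ZMod 2, z = 0 ∨ z = 1 := by decide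
    rcases h2 c with rfl | rfl
    · simp only [zero_smul, RingHom.id_apply]
      exact elt_injective (by rw [elt_conjVec, elt_one]; group)
    · simp
  invFun := conjVec g⁻¹
  left_inv v := by rw [← conjVec_mul, inv_mul_cancel, conjVec_one]
  right_inv v := by rw [← conjVec_mul, mul_inv_cancel, conjVec_one]

theorem q_invariant (g : CAB) (v : V6) : Q6 (linV g v) = Q6 v := by
  have key : ∀ (g : CAB) (v : V6), Cfsg.quadFormMinus 2 (ZMod 2) 1 1 v = 1 →
      Cfsg.quadFormMinus 2 (ZMod 2) 1 1 (conjVec g v) = 1 := by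
    intro g v hv
    obtain ⟨k, hk⟩ := (q_pair v).1 hv
    obtain ⟨l, hl⟩ := conj_pair g.2 k
    exact (q_pair _).2 ⟨l, by rw [elt_conjVec, hk, hl]⟩
  have h2 : ∀ a b : ZMod 2, (a = 1 → b = 1) → (b = 1 → a = 1) → a = b := by decide
  show Q6 (conjVec g v) = Q6 v
  rw [Q6_apply, Q6_apply]
  refine h2 _ _ (fun h => ?_) (key g v)
  have := key g⁻¹ _ h
  rwa [← conjVec_mul, inv_mul_cancel, conjVec_one] at this

/-- The action on the elementary group. -/
noncomputable def quotHom : CAB →* CfsgLib.Classical.qAut Q6 where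
  toFun g := ⟨linV g, q_invariant g⟩
  map_one' := CfsgLib.Classical.qAut_ext fun v => conjVec_one v
  map_mul' g h := CfsgLib.Classical.qAut_ext fun v => conjVec_mul g h v

theorem pairVec_inj {k l : Fin 36} (h : pairElt k.val = pairElt l.val) : k = l := by
  rw [← pair_elt, ← pair_elt] at h
  have hk : k.val < pairVec.length := vec_ok.1.symm ▸ k.isLt
  have hl : l.val < pairVec.length := vec_ok.1.symm ▸ l.isLt
  have := congrArg numV (elt_injective h)
  rw [List.getD_eq_getElem _ _ hk, List.getD_eq_getElem _ _ hl,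
    num_vec ⟨_, Nat.blt_eq.mp (List.all_eq_true.1 vec_ok.2.2.1 _ (List.getElem_mem hk))⟩,
    num_vec ⟨_, Nat.blt_eq.mp (List.all_eq_true.1 vec_ok.2.2.1 _ (List.getElem_mem hl))⟩] at this
  exact Fin.ext (((nodupB_spec vec_ok.2.1).1.getElem_inj_iff).1 this)

theorem ker_keep {g : CAB} (hg : g ∈ quotHom.ker) : g.val ∈ keepPairs := by
  refine ⟨g.2, fun x hx => ?_⟩
  obtain ⟨k0, hk0⟩ : ∃ y : X, y.val = partner x.val := by
    obtain ⟨p, hp, hpx⟩ := List.any_eq_true.1 (List.all_eq_true.1 pair_shape.2.2.1 _ hx)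
    have hall : fixAB.all (fun z => Nat.blt (partner z) 3510) = true := by decide +kernel
    exact ⟨⟨partner x.val, lt_pt (Nat.blt_eq.mp (List.all_eq_true.1 hall _ hx))⟩, rfl⟩
  obtain ⟨k, hk, -, hor⟩ := pair_of_member hx hk0
  obtain ⟨l, hl, -, hor'⟩ := pair_of_member (x := phi g.val x) (CAB_maps g.2 hx) (partner_map g.2 hx hk0)
  have hfix : g.val * pairElt k.val * g.val⁻¹ = pairElt k.val := by
    rw [← pair_elt, ← elt_conjVec]
    exact congrArg elt (congrArg (fun e : CfsgLib.Classical.qAut Q6 => e.1 (vecV (pairVec.getD k.val 0)))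
      (MonoidHom.mem_ker.1 hg))
  have hkl : k = l := pairVec_inj (by rw [← hl, ← hfix, ← hk, mem_phi, mem_phi]; group)
  subst hkl
  rcases hor with ⟨a1, a2⟩ | ⟨a1, a2⟩ <;> rcases hor' with ⟨b1, b2⟩ | ⟨b1, b2⟩
  · exact Or.inl (b1.symm.trans a1)
  · exact Or.inr (b1.symm.trans (a2.trans hk0))
  · exact Or.inr (b1.symm.trans (a2.trans hk0))
  · exact Or.inl (b1.symm.trans a1)

theorem OAB_le : OAB ≤ CAB := by
  intro o ho
  obtain ⟨v, rfl⟩ := mem_OAB.1 ho
  refine selProd_mem (fun b hb => ?_) _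
  obtain ⟨p, hp, rfl⟩ := List.mem_map.1 hb
  have key : ∀ l : List ℕ, (∀ x ∈ l, x ∈ fixAB) → memProd l ∈ CAB := by
    intro l
    induction l with
    | nil => intro _; exact one_mem _
    | cons a l ih =>
      intro h
      rw [memProd, memK_eq (fixAB_lt (h a List.mem_cons_self))]
      exact mul_mem (ih fun x hx => h x (List.mem_cons_of_mem _ hx)) (mem_CAB (h a List.mem_cons_self))
  exact key _ (pairMems_fix (basis_idx hp))

theorem hab_aniso : CfsgLib.Classical.BinAniso (1 : ZMod 2) 1 := by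
  unfold CfsgLib.Classical.BinAniso
  decide

theorem card_qAut6 : Nat.card (CfsgLib.Classical.qAut Q6) = 51840 := by
  rw [CfsgLib.Classical.card_qAut_minus hab_aniso 2, ZMod.card]
  simp [Finset.prod_range_succ]

theorem quot_facts : quotHom.ker = OAB.subgroupOf CAB ∧ Function.Surjective quotHom := by
  have hle : OAB.subgroupOf CAB ≤ quotHom.ker := by
    intro g hg
    obtain ⟨w, hw⟩ := mem_OAB.1 (Subgroup.mem_subgroupOf.1 hg)
    refine MonoidHom.mem_ker.2 (CfsgLib.Classical.qAut_ext fun v => elt_injective ?_)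
    show elt (conjVec g v) = elt v
    rw [elt_conjVec, ← hw, ← elt_add, add_comm, elt_add, mul_inv_cancel_right]
  have hc1 : Nat.card (OAB.subgroupOf CAB) = 64 :=
    (Nat.card_congr (Subgroup.subgroupOfEquivOfLe OAB_le).toEquiv).trans card_OAB
  have hc2 : Nat.card quotHom.ker ≤ 64 :=
    le_trans (Nat.card_le_card_of_injective (fun g : quotHom.ker => (⟨g.val.val, ker_keep g.2⟩ : keepPairs))
      fun a b h => Subtype.ext (Subtype.ext (congrArg (fun z : keepPairs => z.val) h))) card_keepPairs_le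
  have heq : OAB.subgroupOf CAB = quotHom.ker := Subgroup.eq_of_le_of_card_ge hle (hc1.symm ▸ hc2)
  refine ⟨heq.symm, MonoidHom.range_eq_top.1 ?_⟩
  haveI := CfsgLib.Classical.finite_qAut Q6
  refine Subgroup.eq_top_of_card_eq _ ?_
  have h := quotHom.ker.card_mul_index
  rw [Subgroup.index_ker, ← heq, hc1, card_CAB] at h
  rw [card_qAut6]
  omega

/-- The quotient is the full isometry group. -/
noncomputable def quotIso : CAB ⧸ quotHom.ker ≃* Cfsg.isometryGroup (ZMod 2) ⇑Q6 :=
  (QuotientGroup.quotientKerEquivOfSurjective quotHom quot_facts.2).trans (CfsgLib.Classical.isoEquiv Q6).symm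

theorem pCore_CAB : Cfsg.pCore 2 ↥CAB = OAB.subgroupOf CAB := by
  haveI : Fact (Nat.Prime 2) := ⟨Nat.prime_two⟩
  rw [← quot_facts.1]
  refine le_antisymm ?_ (CfsgLib.Cores.le_pCore (IsPGroup.of_card (n := 6) (by
    rw [quot_facts.1, Nat.card_congr (Subgroup.subgroupOfEquivOfLe OAB_le).toEquiv, card_OAB]
    norm_num)))
  haveI : Fintype (GaloisField 2 2) := Fintype.ofFinite _
  have hF : Fintype.card (GaloisField 2 2) = 2 ^ 2 := by
    rw [← Nat.card_eq_fintype_card, GaloisField.card 2 2 (by norm_num)]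
  obtain ⟨e⟩ := CfsgLib.M22.exists_minus_six_iso (F := GaloisField 2 2) hF
  rw [← CfsgLib.Classical.coe_qExt_qBin 2 (1 : ZMod 2) 1] at e
  let θ : CAB →* MulAut (Cfsg.PSU 4 (GaloisField 2 2) 2) :=
    e.symm.toMonoidHom.comp ((CfsgLib.Classical.isoEquiv Q6).symm.toMonoidHom.comp quotHom)
  have hθ : Function.Surjective θ :=
    e.symm.surjective.comp ((CfsgLib.Classical.isoEquiv Q6).symm.surjective.comp quot_facts.2)
  have hker : θ.ker = quotHom.ker := by
    ext g
    simp [θ, MonoidHom.mem_ker]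
  haveI : IsSimpleGroup (Cfsg.PSU 4 (GaloisField 2 2) 2) :=
    CfsgLib.Classical.Unitary.isSimpleGroup_PSU hF (by norm_num) (by norm_num)
  haveI : ((Cfsg.pCore 2 ↥CAB).map θ).Normal := Subgroup.Normal.map inferInstance θ hθ
  have hbij := CfsgLib.M22.psuMk_four_bijective (F := GaloisField 2 2) hF
  have hc : Subgroup.center (Cfsg.PSU 4 (GaloisField 2 2) 2) = ⊥ := by
    rw [eq_bot_iff]
    intro x hx
    obtain ⟨y, rfl⟩ := hbij.2 x
    have hy : y ∈ Subgroup.center (Cfsg.SU 4 (GaloisField 2 2) 2) := Subgroup.mem_center_iff.2 fun z =>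
      hbij.1 (by
        rw [map_mul, map_mul]; exact Subgroup.mem_center_iff.1 hx (CfsgLib.UnitarySpec.psuMk z))
    rw [Subgroup.mem_bot]
    exact (QuotientGroup.eq_one_iff _).2 hy
  have hnp : ¬ IsPGroup 2 (Cfsg.PSU 4 (GaloisField 2 2) 2) := by
    intro h
    obtain ⟨n, hn⟩ := IsPGroup.iff_card.1 h
    rw [← Nat.card_congr (Equiv.ofBijective _ hbij), CfsgLib.M22.card_su_four hF] at hn
    have h3 : 3 ∣ 2 ^ n := hn ▸ (by norm_num)
    have := Nat.Prime.dvd_of_dvd_pow (by norm_num : Nat.Prime 3) h3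
    norm_num at this
  haveI : Finite (MulAut (Cfsg.PSU 4 (GaloisField 2 2) 2)) := Finite.of_surjective θ hθ
  have := CfsgLib.M22.normal_two_mulAut_eq_bot hc hnp _ ((CfsgLib.Cores.isPGroup_pCore 2).map θ)
  rw [Subgroup.map_eq_bot_iff, hker] at this
  exact this

theorem OAB_elementary : Cfsg.IsElementaryAbelian 2 OAB := by
  refine ⟨⟨⟨fun a b => Subtype.ext ?_⟩⟩, fun a ha => ?_⟩
  · obtain ⟨v, hv⟩ := mem_OAB.1 a.2
    obtain ⟨w, hw⟩ := mem_OAB.1 b.2
    rw [Subgroup.coe_mul, Subgroup.coe_mul, ← hv, ← hw, ← elt_add, ← elt_add, add_comm]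
  · obtain ⟨v, rfl⟩ := mem_OAB.1 ha
    rw [pow_two, ← elt_add]
    have : v + v = 0 := funext fun i => by
      have : ∀ z : ZMod 2, z + z = 0 := by decide
      exact this _
    rw [this]
    exact elt_one

end CfsgLib.Fi22P.OutInvol
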