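import Cfsg.Agent.Lib.Fi22P.OutInvol.CentDefs
import Cfsg.Agent.Lib.Tails.OEightData
import Cfsg.Agent.Lib.Tails.SpSixCoverData
import Cfsg.Agent.Lib.Golay.PackPerm

/-!
# The centralisers of the first two involutions: kernel checks
-/

set_option autoImplicit false
set_option maxRecDepth 100000
set_option maxHeartbeats 0

namespace CfsgLib.Fi22P.OutInvol

open CfsgLib.Golay CfsgLib.TailsData

theorem class_shape : class0.length = 120 ∧ CfsgLib.PresCert.nodupB 0 class0 = true ∧
    fixS.all (fun x => Nat.blt (lab x) 3) = true ∧
    class0.all (fun x => (fixS.any fun y => Nat.beq y x) && Nat.beq (lab x) 0) = true ∧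
    fixS.all (fun x => !(Nat.beq (lab x) 0) || class0.any fun y => Nat.beq y x) = true ∧
    (List.range 3).all (fun j => (fixS.any fun y => Nat.beq y (rootN j)) && Nat.beq (lab (rootN j)) j) = true ∧
    classRoots.length = 3 ∧ Nat.beq (rootN 0) 0 = true := by
  decide +kernel

theorem root_links : (List.range 3).all (fun j => fixS.all fun y =>
    !(Nat.beq (mimg (rootN j) y) y) || Nat.beq (lab y) j) = true := by decide +kernel

theorem move_ok : decide (moveLab.length = moveMem.length) = true ∧
    (List.range moveMem.length).all (fun s =>
      let m := moveMem.getD s 0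
      (fixS.any fun y => Nat.beq y m) &&
        decide ((moveLab.getD s []).length = 3) &&
        fixS.all (fun x => (fixS.any fun y => Nat.beq y (mimg m x)) &&
          Nat.beq (lab (mimg m x)) ((moveLab.getD s []).getD (lab x) 3))) = true := by
  decide +kernel

theorem tree_ok : fixS.all (fun x => (classRoots.any fun r => Nat.beq r x) ||
      fixTree.any fun t => Nat.beq t.1 x) = true ∧
    (List.range fixTree.length).all (fun k =>
      let t := fixTree.getD k (0, 0, 0)
      Nat.blt t.2.1 moveMem.length && Nat.beq (mimg (moveMem.getD t.2.1 0) t.2.2) t.1 &&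
        ((classRoots.any fun r => Nat.beq r t.2.2) ||
          (fixTree.take k).any fun u => Nat.beq u.1 t.2.2)) = true := by
  decide +kernel

theorem lab_perms : class0.all (fun x => decide (labPerm x = [0, 2, 1])) = true ∧
    decide (labPerm (rootN 1) = [2, 1, 0]) = true := by
  decide +kernel

theorem refl_ok : decide (oEightRefl.length = 6) = true ∧ decide (oEightLowBase.length = 6) = true ∧
    (List.range 6).all (fun k =>
      let ab := oEightRefl.getD k (0, 0)
      Nat.blt ab.1 120 && Nat.blt ab.2 120 && (List.range 120).all fun i =>
        Nat.beq (class0.getD (PackPerm.getP (oEightLowBase.getD k 0) i) 0)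
          (mimg (class0.getD ab.1 0) (mimg (class0.getD ab.2 0) (class0.getD i 0)))) = true := by
  decide +kernel

/-- The listed products fix a root and move every fixed member outside its class. -/
def stabOk (j : ℕ) (prs : List (ℕ × ℕ)) : Bool :=
  prs.all (fun p => (fixS.any fun y => Nat.beq y p.1) && (fixS.any fun y => Nat.beq y p.2) &&
      decide (labPerm p.1 = labPerm p.2) && Nat.beq (mimg p.1 (mimg p.2 (rootN j))) (rootN j)) &&
    fixS.all fun q => Nat.beq (lab q) j ||
      prs.any fun p => !(Nat.beq (mimg p.1 (mimg p.2 q)) q)

theorem stab_ok : stabOk 0 stabPairs0 = true ∧ stabOk 1 stabPairs1 = true := by decide +kernel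

theorem link_ok : linkList.length = 63 ∧ CfsgLib.PresCert.nodupB 0 linkList = true ∧
    linkList.all (fun x => Nat.beq (lab x) 0 && Nat.beq (mimg 0 x) x && !(Nat.beq x 0) &&
      fixS.any fun y => Nat.beq y x) = true ∧
    fixS.all (fun x => !(Nat.beq (mimg 0 x) x) || Nat.beq x 0 ||
      linkList.any fun y => Nat.beq y x) = true := by
  decide +kernel

theorem sp_words : decide (spMembers.length = spLowBase.length) = true ∧
    (List.range spMembers.length).all (fun k =>
      let l := spMembers.getD k []
      (Nat.beq l.length 6) && l.all (fun x => (fixS.any fun y => Nat.beq y x) && Nat.beq (lab x) 0 &&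
        Nat.beq (mimg x 0) 0) &&
      (List.range 63).all fun i =>
        Nat.beq (linkList.getD (PackPerm.getP (spLowBase.getD k 0) i) 0) (mimgs l (linkList.getD i 0))) = true := by
  decide +kernel

theorem bound_S : Nat.beq levelsA.length 7 = true := by decide +kernel

end CfsgLib.Fi22P.OutInvol
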