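import Cfsg.Agent.Lib.Fi22P.OutInvol.Facts
import Cfsg.Agent.Lib.Fi22P.OutInvol.DataCent

/-!
# The classes of fixed members, as bits
-/

set_option autoImplicit false
set_option maxRecDepth 100000

namespace CfsgLib.Fi22P.OutInvol

/-- The first class as bits. -/
def mask0 : ℕ := class0.foldl (fun m x => m ||| 2 ^ x) 0

/-- The second class as bits. -/
def mask1 : ℕ := class1.foldl (fun m x => m ||| 2 ^ x) 0

/-- The class of a fixed member. -/
def lab (x : ℕ) : ℕ := if mask0.testBit x then 0 else if mask1.testBit x then 1 else 2

/-- The root of a class. -/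
def rootN (j : ℕ) : ℕ := classRoots.getD j 0

/-- The action of a member on the classes. -/
def labPerm (x : ℕ) : List ℕ := [lab (mimg x (rootN 0)), lab (mimg x (rootN 1)), lab (mimg x (rootN 2))]

/-- A member of a pair list. -/
def inPairs (z : ℕ) (y : ℕ × ℕ) : Bool := Nat.beq y.1 z || Nat.beq y.2 z

/-- Successive images under members, the first one first. -/
def mimgs : List ℕ → ℕ → ℕ
  | [], x => x
  | a :: l, x => mimgs l (mimg a x)

/-- The members of a word in the pairs. -/
def pairMems (idx : List ℕ) : List ℕ :=
  idx.flatMap fun i => [(pairList.getD i (0, 0)).1, (pairList.getD i (0, 0)).2]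

/-- The members of a vector of the elementary group. -/
def vecMems (v : ℕ) : List ℕ :=
  ((List.range 6).filter fun k => v.testBit k).flatMap fun k => pairMems (pairBasis.getD k [])

end CfsgLib.Fi22P.OutInvol
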