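import Cfsg.Agent.Lib.Fi22P.OutInvol.Psi
import Cfsg.Agent.Lib.Fi22P.OutInvol.CentCheck
import Cfsg.Agent.Lib.Tails.OEightModel
import Cfsg.Agent.Lib.KnownSimple.POAut.OutPlus
import Cfsg.Agent.Lib.Classical.AutOrder.Basic

/-!
# The centraliser of the first outer involution is the automorphism group of `Ω⁺(8, 2)`
-/

set_option autoImplicit false
set_option maxRecDepth 100000

namespace CfsgLib.Fi22P.OutInvol

open CfsgLib.PresCert CfsgLib.Schur.Tails CfsgLib.Golay CfsgLib.TailsData

attribute [local irreducible] rawCols piCols pathTab uw relData levels levelsA levelsB levelsC fixS fixA fixAB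
  class0 class1 fixTree moveMem moveLab mask0 mask1 linkList oEightLowBase oEightRefl

theorem mem_of_any {x : ℕ} {l : List ℕ} (h : l.any (fun y => Nat.beq y x) = true) : x ∈ l := by
  obtain ⟨y, hy, e⟩ := List.any_eq_true.1 h
  exact Nat.eq_of_beq_eq_true e ▸ hy

theorem fixS_lt {x : ℕ} (h : x ∈ fixS) : x < 3510 := by
  rw [← fix_pi] at h
  exact List.mem_range.1 (List.mem_filter.1 h).1

theorem named_S {x : ℕ} (h : x ∈ fixS) : (pathTab.any fun p => Nat.beq p.1 x) = true :=
  named (by simp [h])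

theorem mem_S_val {i : X} (hi : i.val ∈ fixS) (j : X) : (phi (mem i) j).val = mimg i.val j.val :=
  mem_apply (named_S hi) j

/-- The centraliser of the first involution. -/
noncomputable abbrev CS : Subgroup K := fixedBy sigma

theorem mem_CS {i : X} (hi : i.val ∈ fixS) : mem i ∈ CS := mem_fixedBy_of_psi ((sigma_fix_iff i).2 hi)

theorem CS_maps {g : K} (hg : g ∈ CS) {i : X} (hi : i.val ∈ fixS) : (phi g i).val ∈ fixS :=
  (sigma_fix_iff _).1 (fixedBy_perm hg ((sigma_fix_iff i).2 hi))

theorem rootN_mem (j : Fin 3) : rootN j.val ∈ fixS ∧ lab (rootN j.val) = j.val := by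
  have h := List.all_eq_true.1 class_shape.2.2.2.2.2.1 j.val (List.mem_range.2 j.isLt)
  simp only [Bool.and_eq_true, Nat.beq_eq] at h
  exact ⟨mem_of_any h.1, h.2⟩

/-- The root of a class as a point. -/
def rootP (j : Fin 3) : X := ⟨rootN j.val, lt_pt (fixS_lt (rootN_mem j).1)⟩

theorem lab_lt {x : ℕ} (h : x ∈ fixS) : lab x < 3 :=
  Nat.blt_eq.mp (List.all_eq_true.1 class_shape.2.2.1 x h)

theorem root_of_mem {r : ℕ} (h : r ∈ classRoots) : ∃ j : Fin 3, rootN j.val = r := by
  obtain ⟨k, hk, e⟩ := List.getElem_of_mem h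
  exact ⟨⟨k, class_shape.2.2.2.2.2.2.1 ▸ hk⟩, by rw [rootN, List.getD_eq_getElem _ _ hk, e]⟩

theorem move_spec' {s : ℕ} (hs : s < moveMem.length) :
    moveMem.getD s 0 ∈ fixS ∧ (moveLab.getD s []).length = 3 ∧ ∀ x ∈ fixS,
      mimg (moveMem.getD s 0) x ∈ fixS ∧ lab (mimg (moveMem.getD s 0) x) = (moveLab.getD s []).getD (lab x) 3 := by
  have h := List.all_eq_true.1 move_ok.2 s (List.mem_range.2 hs)
  simp only [Bool.and_eq_true, List.all_eq_true, decide_eq_true_eq, Nat.beq_eq] at h
  exact ⟨mem_of_any h.1.1, h.1.2, fun x hx => ⟨mem_of_any (h.2 x hx).1, (h.2 x hx).2⟩⟩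

/-- An element carrying the root of a class, with classes going to classes. -/
theorem exists_carrier : ∀ i : X, i.val ∈ fixS → ∃ j : Fin 3, ∃ g ∈ CS, phi g (rootP j) = i ∧
    ∃ f : ℕ → ℕ, ∀ x : X, x.val ∈ fixS → lab (phi g x).val = f (lab x.val) := by
  have base : ∀ r ∈ classRoots, ∀ hr : r < tab.n, ∃ j : Fin 3, ∃ g ∈ CS, phi g (rootP j) = ⟨r, hr⟩ ∧
      ∃ f : ℕ → ℕ, ∀ x : X, x.val ∈ fixS → lab (phi g x).val = f (lab x.val) := by
    intro r hr hlt
    obtain ⟨j, hj⟩ := root_of_mem hr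
    exact ⟨j, 1, one_mem _, by rw [map_one]; exact Fin.ext hj, id, fun x _ => by rw [map_one]; rfl⟩
  have key : ∀ k, k < fixTree.length → ∀ hlt : (fixTree.getD k (0, 0, 0)).1 < tab.n,
      ∃ j : Fin 3, ∃ g ∈ CS, phi g (rootP j) = ⟨(fixTree.getD k (0, 0, 0)).1, hlt⟩ ∧
      ∃ f : ℕ → ℕ, ∀ x : X, x.val ∈ fixS → lab (phi g x).val = f (lab x.val) := by
    intro k
    induction k using Nat.strong_induction_on with
    | h k ih =>
      intro hk hlt
      have h := List.all_eq_true.1 tree_ok.2 k (List.mem_range.2 hk)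
      simp only [Bool.and_eq_true, Nat.blt_eq, Nat.beq_eq, Bool.or_eq_true] at h
      obtain ⟨⟨hs, him⟩, hpar⟩ := h
      set t := fixTree.getD k (0, 0, 0)
      obtain ⟨hm, -, hlab⟩ := move_spec' hs
      have hprev : ∃ hp : t.2.2 < tab.n, ∃ j : Fin 3, ∃ g ∈ CS, phi g (rootP j) = ⟨t.2.2, hp⟩ ∧
          ∃ f : ℕ → ℕ, ∀ x : X, x.val ∈ fixS → lab (phi g x).val = f (lab x.val) := by
        rcases hpar with hp | hp
        · have hr := mem_of_any hp
          obtain ⟨j, hj⟩ := root_of_mem hr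
          exact ⟨lt_pt (hj ▸ fixS_lt (rootN_mem j).1), base _ hr _⟩
        · obtain ⟨u, hu, hue⟩ := List.any_eq_true.1 hp
          obtain ⟨k', hk', rfl⟩ := List.getElem_of_mem hu
          rw [List.length_take] at hk'
          rw [List.getElem_take] at hue
          have e : (fixTree.getD k' (0, 0, 0)).1 = t.2.2 := by
            rw [List.getD_eq_getElem _ _ (by omega)]; exact Nat.eq_of_beq_eq_true hue
          have hp' : t.2.2 < tab.n := by
            by_contra hc
            obtain ⟨hs', him'⟩ : (fixTree.getD k' (0, 0, 0)).2.1 < moveMem.length ∧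
                mimg (moveMem.getD (fixTree.getD k' (0, 0, 0)).2.1 0) (fixTree.getD k' (0, 0, 0)).2.2 =
                  (fixTree.getD k' (0, 0, 0)).1 := by
              have h' := List.all_eq_true.1 tree_ok.2 k' (List.mem_range.2 (by omega))
              simp only [Bool.and_eq_true, Nat.blt_eq, Nat.beq_eq] at h'
              exact h'.1
            have hlt' : ∀ k'' < fixTree.length, (fixTree.getD k'' (0, 0, 0)).1 < tab.n := by
              intro k'' hk''
              have hb : fixTree.all (fun t => Nat.blt t.1 3510) = true := by decide +kernel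
              rw [List.getD_eq_getElem _ _ hk'']
              exact lt_pt (Nat.blt_eq.mp (List.all_eq_true.1 hb _ (List.getElem_mem _)))
            exact hc (e ▸ hlt' k' (by omega))
          obtain ⟨j, g, hg, he, hf⟩ := ih k' (by omega) (by omega) (e.symm ▸ hp')
          exact ⟨hp', j, g, hg, he.trans (Fin.ext e), hf⟩
      obtain ⟨hp, j, g, hg, he, f, hf⟩ := hprev
      have hmlt := fixS_lt hm
      refine ⟨j, mem ⟨_, lt_pt hmlt⟩ * g, Subgroup.mul_mem _ (mem_CS hm) hg, ?_,
        fun a => (moveLab.getD t.2.1 []).getD (f a) 3, fun x hx => ?_⟩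
      · rw [map_mul, Equiv.Perm.mul_apply, he]
        exact Fin.ext ((mem_S_val hm _).trans him)
      · rw [map_mul, Equiv.Perm.mul_apply, mem_S_val hm, (hlab _ (CS_maps hg hx)).2, hf x hx]
  intro i hi
  have h := List.all_eq_true.1 tree_ok.1 i.val hi
  rw [Bool.or_eq_true] at h
  rcases h with h | h
  · obtain ⟨j, g, h1, h2, h3⟩ := base _ (mem_of_any h) i.isLt
    exact ⟨j, g, h1, h2, h3⟩
  · obtain ⟨t, ht, hte⟩ := List.any_eq_true.1 h
    obtain ⟨k, hk, rfl⟩ := List.getElem_of_mem ht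
    have e : (fixTree.getD k (0, 0, 0)).1 = i.val := by
      rw [List.getD_eq_getElem _ _ hk]; exact Nat.eq_of_beq_eq_true hte
    obtain ⟨j, g, h1, h2, h3⟩ := key k hk (e.symm ▸ i.isLt)
    exact ⟨j, g, h1, h2.trans (Fin.ext e), h3⟩

/-- Commuting fixed members lie in one class. -/
theorem adj_lab {i j : X} (hi : i.val ∈ fixS) (hj : j.val ∈ fixS) (h : phi (mem i) j = j) :
    lab j.val = lab i.val := by
  obtain ⟨r, g, hg, he, f, hf⟩ := exists_carrier i hi
  set j' := phi g⁻¹ j with hj'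
  have hjS : j'.val ∈ fixS := CS_maps (Subgroup.inv_mem _ hg) hj
  have hgj : phi g j' = j := by
    rw [hj', ← Equiv.Perm.mul_apply, ← map_mul, mul_inv_cancel, map_one, Equiv.Perm.one_apply]
  have hr : phi (mem (rootP r)) j' = j' := by
    rw [← he, mem_phi, map_mul, map_mul, map_inv, Equiv.Perm.mul_apply, Equiv.Perm.mul_apply] at h
    rw [hj', map_inv, Equiv.Perm.inv_def, Equiv.eq_symm_apply]
    exact h
  have hl : lab j'.val = lab (rootP r).val := by
    rw [show lab (rootP r).val = r.val from (rootN_mem r).2]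
    have hh := List.all_eq_true.1 (List.all_eq_true.1 root_links r.val (List.mem_range.2 r.isLt)) _ hjS
    simp only [Bool.or_eq_true, Bool.not_eq_true', Nat.beq_eq] at hh
    refine hh.resolve_left fun e => ?_
    have := congrArg Fin.val hr
    rw [mem_S_val (rootN_mem r).1] at this
    exact Nat.ne_of_beq_eq_false e this
  rw [← hgj, ← he, hf _ hjS, hl, hf _ (rootN_mem r).1]

end CfsgLib.Fi22P.OutInvol
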