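import Cfsg.Agent.Lib.Fi22P.OutInvol.CentDefs

/-!
# A class of fixed members has diameter two at its root: kernel check
-/

set_option autoImplicit false
set_option maxRecDepth 100000
set_option maxHeartbeats 0

namespace CfsgLib.Fi22P.OutInvol

theorem near_root : (List.range 3).all (fun j =>
    let nb := fixS.filter fun z => Nat.beq (mimg (rootN j) z) z
    fixS.all fun x => !(Nat.beq (lab x) j) || nb.any fun z => Nat.beq (mimg z x) x) = true := by
  decide +kernel

end CfsgLib.Fi22P.OutInvol
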