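import Cfsg.Agent.Lib.Fi22P.OutInvol.CentS
import Cfsg.Agent.Lib.Fi22P.OutInvol.CentSNear

/-!
# The centraliser of the first outer involution: classes, order, identification
-/

set_option autoImplicit false
set_option maxRecDepth 100000

namespace CfsgLib.Fi22P.OutInvol

open CfsgLib.PresCert CfsgLib.Schur.Tails CfsgLib.Golay CfsgLib.TailsData

attribute [local irreducible] rawCols piCols pathTab uw relData levels levelsA levelsB levelsC fixS fixA fixAB
  class0 class1 fixTree moveMem moveLab mask0 mask1 linkList oEightLowBase oEightRefl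

theorem lab_root {g : K} (hg : g ∈ CS) {x : X} (hx : x.val ∈ fixS) :
    lab (phi g x).val = lab (phi g (rootP ⟨lab x.val, lab_lt hx⟩)).val := by
  set j : Fin 3 := ⟨lab x.val, lab_lt hx⟩ with hj
  have h := List.all_eq_true.1 (List.all_eq_true.1 near_root j.val (List.mem_range.2 j.isLt)) _ hx
  simp only [Bool.or_eq_true, Bool.not_eq_true', List.any_eq_true, List.mem_filter, Nat.beq_eq] at h
  obtain ⟨z, ⟨hz, hzr⟩, hzx⟩ := h.resolve_left fun e => Nat.ne_of_beq_eq_false e rfl
  set zp : X := ⟨z, lt_pt (fixS_lt hz)⟩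
  have c1 : phi (mem zp) x = x := Fin.ext ((mem_S_val hz x).trans hzx)
  have c2 : phi (mem (rootP j)) zp = zp := Fin.ext ((mem_S_val (rootN_mem j).1 zp).trans hzr)
  have move : ∀ {a b : X}, a.val ∈ fixS → b.val ∈ fixS → phi (mem a) b = b →
      lab (phi g b).val = lab (phi g a).val := fun {a b} ha hb hab => by
    refine adj_lab (CS_maps hg ha) (CS_maps hg hb) ?_
    rw [← commute_iff] at hab ⊢
    rw [mem_phi, mem_phi]
    exact hab.map (MulAut.conj g)
  rw [move (a := zp) hz hx c1, move (rootN_mem j).1 hz c2]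

/-- The image of a class. -/
noncomputable def labF (g : CS) (j : Fin 3) : Fin 3 :=
  ⟨lab (phi g.val (rootP j)).val, lab_lt (CS_maps g.2 (rootN_mem j).1)⟩

theorem labF_mul (g h : CS) (j : Fin 3) : labF (g * h) j = labF g (labF h j) := by
  refine Fin.ext ?_
  show lab (phi (g.val * h.val) (rootP j)).val = _
  rw [map_mul, Equiv.Perm.mul_apply, lab_root g.2 (CS_maps h.2 (rootN_mem j).1)]
  rfl

theorem labF_one (j : Fin 3) : labF 1 j = j := by
  refine Fin.ext ?_
  show lab (phi (1 : K) (rootP j)).val = _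
  rw [map_one]
  exact (rootN_mem j).2

/-- The action on the classes. -/
noncomputable def clsHom : CS →* Equiv.Perm (Fin 3) where
  toFun g :=
    { toFun := labF g
      invFun := labF g⁻¹
      left_inv := fun j => by rw [← labF_mul, inv_mul_cancel, labF_one]
      right_inv := fun j => by rw [← labF_mul, mul_inv_cancel, labF_one] }
  map_one' := Equiv.ext labF_one
  map_mul' g h := Equiv.ext (labF_mul g h)

theorem clsHom_apply (g : CS) (j : Fin 3) : (clsHom g j).val = lab (phi g.val (rootP j)).val := rfl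

theorem lab_cls (g : CS) {x : X} (hx : x.val ∈ fixS) :
    lab (phi g.val x).val = (clsHom g ⟨lab x.val, lab_lt hx⟩).val := lab_root g.2 hx

theorem cls_member {i : X} (hi : i.val ∈ fixS) (j : Fin 3) :
    (clsHom ⟨mem i, mem_CS hi⟩ j).val = (labPerm i.val).getD j.val 3 := by
  rw [clsHom_apply, mem_S_val hi]
  fin_cases j <;> rfl

theorem class0_mem {x : ℕ} (h : x ∈ class0) : x ∈ fixS ∧ lab x = 0 := by
  have := List.all_eq_true.1 class_shape.2.2.2.1 x h
  rw [Bool.and_eq_true] at this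
  exact ⟨mem_of_any this.1, Nat.eq_of_beq_eq_true this.2⟩

theorem class0_perm {x : ℕ} (h : x ∈ class0) : labPerm x = [0, 2, 1] :=
  of_decide_eq_true (List.all_eq_true.1 lab_perms.1 x h)

theorem rootP_zero : rootP 0 = pt0 := Fin.ext (Nat.eq_of_beq_eq_true class_shape.2.2.2.2.2.2.2)

theorem mem_pt0_S : pt0.val ∈ fixS := (sigma_fix_iff pt0).1 (by rw [psi_sigma, piP_pt0])

/-- The first member in the centraliser. -/
noncomputable def memA : CS := ⟨mA, mem_CS mem_pt0_S⟩

theorem cls_memA : clsHom memA = Equiv.swap 1 2 := by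
  have h0 : pt0.val ∈ class0 := by
    have h := List.all_eq_true.1 class_shape.2.2.2.2.1 _ mem_pt0_S
    rw [Bool.or_eq_true, Bool.not_eq_true'] at h
    refine mem_of_any (h.resolve_left fun e => Nat.ne_of_beq_eq_false e ?_)
    rw [← rootP_zero]
    exact (rootN_mem 0).2
  refine Equiv.ext fun j => Fin.ext ?_
  rw [show memA = ⟨mem pt0, mem_CS mem_pt0_S⟩ from rfl, cls_member mem_pt0_S, class0_perm h0]
  fin_cases j <;> rfl

theorem cls_root1 : clsHom ⟨mem (rootP 1), mem_CS (rootN_mem 1).1⟩ = Equiv.swap 0 2 := by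
  refine Equiv.ext fun j => Fin.ext ?_
  rw [cls_member (rootN_mem 1).1, show labPerm (rootP 1).val = [2, 1, 0] from of_decide_eq_true lab_perms.2]
  fin_cases j <;> rfl

theorem cls_surjective : Function.Surjective clsHom := by
  have key : ∀ π : Equiv.Perm (Fin 3), π = 1 ∨ π = Equiv.swap 1 2 ∨ π = Equiv.swap 0 2 ∨
      π = Equiv.swap 1 2 * Equiv.swap 0 2 ∨ π = Equiv.swap 0 2 * Equiv.swap 1 2 ∨
      π = Equiv.swap 0 2 * Equiv.swap 1 2 * Equiv.swap 0 2 := by decide +kernel
  intro π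
  obtain rfl | rfl | rfl | rfl | rfl | rfl := key π
  · exact ⟨1, map_one _⟩
  · exact ⟨_, cls_memA⟩
  · exact ⟨_, cls_root1⟩
  · exact ⟨memA * ⟨mem (rootP 1), mem_CS (rootN_mem 1).1⟩, by rw [map_mul, cls_memA, cls_root1]⟩
  · exact ⟨⟨mem (rootP 1), mem_CS (rootN_mem 1).1⟩ * memA, by rw [map_mul, cls_root1, cls_memA]⟩
  · exact ⟨⟨mem (rootP 1), mem_CS (rootN_mem 1).1⟩ * memA * ⟨mem (rootP 1), mem_CS (rootN_mem 1).1⟩,
      by rw [map_mul, map_mul, cls_root1, cls_memA]⟩

/-- The elements of the centraliser keeping every class. -/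
noncomputable abbrev K0 : Subgroup CS := clsHom.ker

theorem K0_lab {g : CS} (hg : g ∈ K0) {x : X} (hx : x.val ∈ fixS) : lab (phi g.val x).val = lab x.val := by
  rw [lab_cls g hx, MonoidHom.mem_ker.1 hg]
  rfl

theorem class0_lt (k : Fin 120) : class0.getD k.val 0 ∈ class0 := by
  rw [List.getD_eq_getElem _ _ (class_shape.1.symm ▸ k.isLt)]
  exact List.getElem_mem _

/-- A member of the first class. -/
def pt120 (k : Fin 120) : X := ⟨class0.getD k.val 0, lt_pt (fixS_lt (class0_mem (class0_lt k)).1)⟩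

theorem pt120_injective : Function.Injective pt120 := fun a b h => by
  have := congrArg Fin.val h
  simp only [pt120] at this
  rw [List.getD_eq_getElem _ _ (class_shape.1.symm ▸ a.isLt),
    List.getD_eq_getElem _ _ (class_shape.1.symm ▸ b.isLt)] at this
  exact Fin.ext (((nodupB_spec class_shape.2.1).1.getElem_inj_iff).1 this)

theorem exists_idx (g : K0) (k : Fin 120) : ∃ l, pt120 l = phi g.val.val (pt120 k) := by
  obtain ⟨hS, hl⟩ := class0_mem (class0_lt k)
  have h2 := CS_maps g.val.2 (i := pt120 k) hS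
  have h3 : lab (phi g.val.val (pt120 k)).val = 0 := (K0_lab g.2 hS).trans hl
  have h := List.all_eq_true.1 class_shape.2.2.2.2.1 _ h2
  rw [Bool.or_eq_true, Bool.not_eq_true'] at h
  obtain ⟨n, hn, e⟩ := List.getElem_of_mem (mem_of_any (h.resolve_left fun e => Nat.ne_of_beq_eq_false e h3))
  exact ⟨⟨n, class_shape.1 ▸ hn⟩, Fin.ext ((List.getD_eq_getElem _ _ hn).trans e)⟩

/-- The image of an index. -/
noncomputable def idxOf (g : K0) (k : Fin 120) : Fin 120 := (exists_idx g k).choose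

theorem pt_idxOf (g : K0) (k : Fin 120) : pt120 (idxOf g k) = phi g.val.val (pt120 k) :=
  (exists_idx g k).choose_spec

/-- The action on the first class. -/
noncomputable def rho120 : K0 →* Equiv.Perm (Fin 120) where
  toFun g :=
    { toFun := idxOf g
      invFun := idxOf g⁻¹
      left_inv := fun k => pt120_injective (by
        rw [pt_idxOf, pt_idxOf, ← Equiv.Perm.mul_apply, ← map_mul, Subgroup.coe_inv, Subgroup.coe_inv,
          inv_mul_cancel, map_one, Equiv.Perm.one_apply])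
      right_inv := fun k => pt120_injective (by
        rw [pt_idxOf, pt_idxOf, ← Equiv.Perm.mul_apply, ← map_mul, Subgroup.coe_inv, Subgroup.coe_inv,
          mul_inv_cancel, map_one, Equiv.Perm.one_apply]) }
  map_one' := Equiv.ext fun k => pt120_injective (by
    show pt120 (idxOf 1 k) = pt120 k
    rw [pt_idxOf]; simp)
  map_mul' g h := Equiv.ext fun k => pt120_injective (by
    show pt120 (idxOf (g * h) k) = pt120 (idxOf g (idxOf h k))
    rw [pt_idxOf, pt_idxOf, pt_idxOf, ← Equiv.Perm.mul_apply, ← map_mul]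
    rfl)

theorem rho120_apply (g : K0) (k : Fin 120) : pt120 (rho120 g k) = phi g.val.val (pt120 k) := pt_idxOf g k

theorem pair_mem_K0 {a b : X} (ha : a.val ∈ fixS) (hb : b.val ∈ fixS) (h : labPerm a.val = labPerm b.val) :
    (⟨mem a, mem_CS ha⟩ * ⟨mem b, mem_CS hb⟩ : CS) ∈ K0 := by
  rw [MonoidHom.mem_ker, map_mul]
  have e : clsHom ⟨mem a, mem_CS ha⟩ = clsHom ⟨mem b, mem_CS hb⟩ :=
    Equiv.ext fun j => Fin.ext (by rw [cls_member ha, cls_member hb, h])
  rw [e, ← map_mul, show (⟨mem b, mem_CS hb⟩ * ⟨mem b, mem_CS hb⟩ : CS) = 1 from Subtype.ext (mem_sq b),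
    map_one]

theorem H8_le : OEight.H8 ≤ rho120.range := by
  refine (Subgroup.closure_le _).2 ?_
  rintro _ ⟨c, hc, rfl⟩
  obtain ⟨k, hk, rfl⟩ := List.getElem_of_mem hc
  have hlen : oEightLowBase.length = 6 := of_decide_eq_true refl_ok.2.1
  have hok : PackPerm.okP 120 oEightLowBase[k] = true :=
    (OEight.chain_spec OEight.low_chain).2 _ (List.getElem_mem hk)
  have h := List.all_eq_true.1 refl_ok.2.2 k (List.mem_range.2 (hlen ▸ hk))
  simp only [Bool.and_eq_true, Nat.blt_eq, List.all_eq_true, List.mem_range, Nat.beq_eq] at h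
  obtain ⟨⟨ha, hb⟩, hi⟩ := h
  set ab := oEightRefl.getD k (0, 0)
  have hab : (⟨mem (pt120 ⟨ab.1, ha⟩), mem_CS (class0_mem (class0_lt ⟨ab.1, ha⟩)).1⟩ *
      ⟨mem (pt120 ⟨ab.2, hb⟩), mem_CS (class0_mem (class0_lt ⟨ab.2, hb⟩)).1⟩ : CS) ∈ K0 :=
    pair_mem_K0 (class0_mem (class0_lt ⟨ab.1, ha⟩)).1 (class0_mem (class0_lt ⟨ab.2, hb⟩)).1
      ((class0_perm (class0_lt ⟨ab.1, ha⟩)).trans (class0_perm (class0_lt ⟨ab.2, hb⟩)).symm)
  refine ⟨⟨_, hab⟩, Equiv.ext fun i => pt120_injective (Fin.ext ?_)⟩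
  rw [rho120_apply]
  show (phi (mem (pt120 ⟨ab.1, ha⟩) * mem (pt120 ⟨ab.2, hb⟩)) (pt120 i)).val =
    class0.getD (OEight.permC 120 oEightLowBase[k] i).val 0
  rw [map_mul, Equiv.Perm.mul_apply, mem_S_val (class0_mem (class0_lt ⟨ab.1, ha⟩)).1,
    mem_S_val (class0_mem (class0_lt ⟨ab.2, hb⟩)).1, OEight.permC_apply hok,
    ← List.getD_eq_getElem oEightLowBase 0 hk]
  exact (hi i.val i.isLt).symm

theorem boundS_val : boundProd levelsA (List.replicate levelsA.length fixS) = 2903040 := by decide +kernel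

theorem fixSub_first (H : Subgroup K) : Nat.card ↥(H ⊓ fixSub phi []) = Nat.card H := by
  rw [fixSub_nil, inf_top_eq]

theorem CS_stab_le : Nat.card ↥(CS ⊓ fixSub phi [0]) ≤ 2903040 := by
  refine le_of_le_of_eq (card_le_bound realised CS levelsA_ok.1 (stab_bound levelsA_ok.2)
    (allowed_of_all fun m hm i hi => CS_maps hm ?_)) boundS_val
  rw [← sigma_fix_iff, psi_sigma]
  exact Fin.ext (Nat.eq_of_beq_eq_true (List.all_eq_true.1 base_fixed.1 _ hi))

theorem card_CS_le : Nat.card CS ≤ 1045094400 := by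
  rw [← fixSub_first]
  refine le_trans (orbit_le (φ := phi) CS [] pt0 fixS fun m hm => CS_maps hm.1 mem_pt0_S) ?_
  rw [fix_lengths.1, show ([] : List ℕ) ++ [pt0.val] = [0] from rfl]
  exact le_trans (Nat.mul_le_mul_left _ CS_stab_le) (by norm_num)

theorem card_CS_eq : Nat.card CS = 6 * Nat.card K0 := by
  rw [← Subgroup.card_mul_index K0, Subgroup.index_ker, MonoidHom.range_eq_top.2 cls_surjective,
    Subgroup.card_top, Nat.card_perm, Nat.card_fin, mul_comm]
  rfl

theorem rho120_facts : rho120.range = OEight.H8 ∧ Function.Injective rho120 ∧ Nat.card K0 = 174182400 := by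
  have h1 : Nat.card OEight.H8 ≤ Nat.card rho120.range :=
    Nat.card_le_card_of_injective _ (Subgroup.inclusion_injective H8_le)
  have h2 : Nat.card rho120.range ≤ Nat.card K0 :=
    Nat.card_le_card_of_surjective rho120.rangeRestrict rho120.rangeRestrict_surjective
  have h3 := card_CS_eq
  have h4 := card_CS_le
  rw [OEight.card_H8] at h1
  have hK : Nat.card K0 = 174182400 := by omega
  refine ⟨(Subgroup.eq_of_le_of_card_ge H8_le (by rw [OEight.card_H8]; omega)).symm, ?_, hK⟩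
  have hbij : Function.Bijective rho120.rangeRestrict :=
    (Nat.bijective_iff_surjective_and_card _).2 ⟨rho120.rangeRestrict_surjective, by omega⟩
  exact fun a b e => hbij.1 (Subtype.ext e)

theorem card_CS : Nat.card CS = 1045094400 := by rw [card_CS_eq, rho120_facts.2.2]

/-- The kernel on the classes is the simple orthogonal group. -/
noncomputable def k0Equiv : K0 ≃* OEight.H8 :=
  (MonoidHom.ofInjective rho120_facts.2.1).trans (MulEquiv.subgroupCongr rho120_facts.1)

theorem H8_center : Subgroup.center ↥OEight.H8 = ⊥ := by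
  have hs := OEight.H8_simple.1
  refine (IsSimpleGroup.eq_bot_or_eq_top_of_normal _ inferInstance).resolve_right fun h => ?_
  have hc := OEight.H8_simple.2
  rw [(commutator_eq_bot_iff_center_eq_top _).2 h] at hc
  exact bot_ne_top hc

theorem K0_center : Subgroup.center ↥K0 = ⊥ := by
  rw [eq_bot_iff]
  intro x hx
  have : k0Equiv x ∈ Subgroup.center ↥OEight.H8 := Subgroup.mem_center_iff.2 fun y => by
    obtain ⟨z, rfl⟩ := k0Equiv.surjective y
    rw [← map_mul, ← map_mul, Subgroup.mem_center_iff.1 hx z]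
  rw [H8_center, Subgroup.mem_bot] at this
  exact Subgroup.mem_bot.2 (k0Equiv.injective (this.trans (map_one _).symm))

/-- An element commuting with the kernel fixes the class of a root. -/
theorem cls_fix {g : CS} (hg : ∀ k ∈ K0, Commute g k) (j : Fin 3) {prs : List (ℕ × ℕ)}
    (hprs : stabOk j.val prs = true) : clsHom g j = j := by
  by_contra hne
  simp only [stabOk, Bool.and_eq_true, List.all_eq_true, decide_eq_true_eq, Bool.or_eq_true,
    List.any_eq_true, Bool.not_eq_true'] at hprs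
  obtain ⟨hp, hq⟩ := hprs
  have hqS : (phi g.val (rootP j)).val ∈ fixS := CS_maps g.2 (rootN_mem j).1
  rcases hq _ hqS with h | ⟨p, hpm, hmv⟩
  · exact hne (Fin.ext ((clsHom_apply g j).trans (Nat.eq_of_beq_eq_true h)))
  obtain ⟨⟨⟨⟨y1, h1, e1⟩, ⟨y2, h2, e2⟩⟩, hl⟩, hfix⟩ := hp p hpm
  have ha : p.1 ∈ fixS := Nat.eq_of_beq_eq_true e1 ▸ h1
  have hb : p.2 ∈ fixS := Nat.eq_of_beq_eq_true e2 ▸ h2
  set a : X := ⟨p.1, lt_pt (fixS_lt ha)⟩
  set b : X := ⟨p.2, lt_pt (fixS_lt hb)⟩
  have hc : g.val * (mem a * mem b) = mem a * mem b * g.val :=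
    congrArg Subtype.val (hg _ (pair_mem_K0 (a := a) (b := b) ha hb hl)).eq
  have hroot : phi (mem a * mem b) (rootP j) = rootP j := Fin.ext (by
    rw [map_mul, Equiv.Perm.mul_apply, mem_S_val ha, mem_S_val hb]
    exact Nat.eq_of_beq_eq_true hfix)
  have e : phi (mem a * mem b) (phi g.val (rootP j)) = phi g.val (rootP j) := by
    rw [← Equiv.Perm.mul_apply, ← map_mul, ← hc, map_mul, Equiv.Perm.mul_apply, hroot]
  have e' := congrArg Fin.val e
  rw [map_mul, Equiv.Perm.mul_apply, mem_S_val ha, mem_S_val hb] at e'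
  exact Nat.ne_of_beq_eq_false hmv e'

theorem card_mulAut_pomega :
    Nat.card (MulAut (Cfsg.POmega (ZMod 2) (Cfsg.quadFormPlus 4 (ZMod 2)))) = 6 * 174182400 := by
  haveI : Fact (Nat.Prime 2) := ⟨Nat.prime_two⟩
  obtain ⟨e1⟩ := CfsgLib.POAut.out_plus_equiv (F := ZMod 2) (m := 4) le_rfl
  obtain ⟨e2⟩ := (CfsgLib.POAut.out_D4 (F := ZMod 2) (p := 2) (f := 1) (by simp) le_rfl).1
    (ringChar.eq (ZMod 2) 2)
  obtain ⟨e⟩ := OEight.pomega_equiv (F := ZMod 2) (ZMod.card 2)
  have hc : Subgroup.center (Cfsg.POmega (ZMod 2) (Cfsg.quadFormPlus 4 (ZMod 2))) = ⊥ := by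
    rw [eq_bot_iff]
    intro x hx
    have : e.symm x ∈ Subgroup.center ↥OEight.H8 := Subgroup.mem_center_iff.2 fun y => by
      obtain ⟨z, rfl⟩ := e.symm.surjective y
      rw [← map_mul, ← map_mul, Subgroup.mem_center_iff.1 hx z]
    rw [H8_center, Subgroup.mem_bot] at this
    exact Subgroup.mem_bot.2 (e.symm.injective (this.trans (map_one _).symm))
  rw [CfsgLib.Classical.AutOrder.card_mulAut_of_center_bot hc, Nat.card_congr (e1.trans e2).toEquiv,
    ← Nat.card_congr e.toEquiv, OEight.card_H8, Nat.card_prod, Nat.card_perm, Nat.card_fin,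
    Nat.card_congr Multiplicative.toAdd, Nat.card_zmod]
  norm_num [Nat.factorial]

theorem omega_equiv_pomega : Nonempty (Cfsg.Omega (ZMod 2) (Cfsg.quadFormPlus 4 (ZMod 2)) ≃*
    Cfsg.POmega (ZMod 2) (Cfsg.quadFormPlus 4 (ZMod 2))) := by
  rw [← CfsgLib.Classical.coe_qPlus]
  have hc : Subgroup.center (Cfsg.Omega (ZMod 2) ⇑(CfsgLib.Classical.qPlus 4 (ZMod 2))) = ⊥ :=
    Subgroup.card_eq_one.1 (CfsgLib.Classical.card_center_Omega_one _ (CfsgLib.Classical.polarNondeg_qPlus 4)
      (by simp) fun _ => by decide)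
  exact ⟨QuotientGroup.quotientBot.symm.trans (QuotientGroup.quotientMulEquivOfEq hc.symm)⟩

/-- The centraliser of the first involution is the automorphism group of `Ω⁺(8, 2)`. -/
theorem CS_iso : Nonempty (↥CS ≃* MulAut (Cfsg.Omega (ZMod 2) (Cfsg.quadFormPlus 4 (ZMod 2)))) := by
  obtain ⟨e⟩ := OEight.pomega_equiv (F := ZMod 2) (ZMod.card 2)
  obtain ⟨e'⟩ := omega_equiv_pomega
  let E : ↥K0 ≃* Cfsg.Omega (ZMod 2) (Cfsg.quadFormPlus 4 (ZMod 2)) := (k0Equiv.trans e).trans e'.symm
  let θ : ↥CS →* MulAut ↥K0 := MulAut.conjNormal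
  have hinj : Function.Injective θ := by
    rw [← MonoidHom.ker_eq_bot_iff, eq_bot_iff]
    intro g hg
    have hcomm : ∀ k ∈ K0, Commute g k := fun k hk => by
      have h := congrArg Subtype.val (DFunLike.congr_fun (show θ g = 1 from hg) ⟨k, hk⟩)
      rw [show ((θ g ⟨k, hk⟩ : ↥K0) : CS) = g * k * g⁻¹ from MulAut.conjNormal_apply _ _] at h
      exact mul_inv_eq_iff_eq_mul.1 h
    have f0 := cls_fix hcomm 0 stab_ok.1
    have f1 := cls_fix hcomm 1 stab_ok.2
    have hgK : g ∈ K0 := MonoidHom.mem_ker.2 (by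
      have key : ∀ π : Equiv.Perm (Fin 3), π 0 = 0 → π 1 = 1 → π = 1 := by decide +kernel
      exact key _ f0 f1)
    have : (⟨g, hgK⟩ : K0) ∈ Subgroup.center ↥K0 :=
      Subgroup.mem_center_iff.2 fun k => Subtype.ext (hcomm k.val k.2).eq.symm
    rw [K0_center, Subgroup.mem_bot] at this
    exact Subgroup.mem_bot.2 (congrArg Subtype.val this)
  have hcard : Nat.card CS = Nat.card (MulAut ↥K0) := by
    rw [card_CS, Nat.card_congr (MulAut.congr (k0Equiv.trans e)).toEquiv, card_mulAut_pomega]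
  haveI : Finite (MulAut ↥K0) := Finite.of_injective (fun f => (f : ↥K0 → ↥K0)) DFunLike.coe_injective
  exact ⟨(MulEquiv.ofBijective θ ((Nat.bijective_iff_injective_and_card θ).2 ⟨hinj, hcard⟩)).trans
    (MulAut.congr E)⟩

end CfsgLib.Fi22P.OutInvol
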