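import Cfsg.Agent.Lib.PresCert.Table

/-!
Generated data: the classification of the outer involutions of the Fischer group.
-/

set_option autoImplicit false
set_option maxRecDepth 100000

namespace CfsgLib.Fi22P.OutInvol

open CfsgLib.PresCert

/-- Elements fixing the two points and carrying the base to each base through them. -/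
def basesWords : List (List ℕ) :=
  [[], [8], [8, 3, 1, 2, 3, 4, 5, 7, 3, 2, 1, 4, 3, 2, 7, 3, 4, 5, 8, 7, 3, 4, 2, 3, 7, 8, 1, 2, 3, 7,
  5, 6, 7, 3, 2, 1, 4, 3, 5, 4, 8, 7, 3, 2, 1, 4, 3, 2, 5, 4, 3, 7, 3, 2, 8, 7, 3, 4, 2, 3, 7, 8, 4, 2,
  3, 7, 4, 5, 2, 3, 4, 1, 2, 3, 7, 8, 5, 2, 3, 4, 1, 2, 3, 7, 6, 5, 4, 3, 2, 1, 3, 8, 1, 2, 3, 4, 5, 6,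
  7, 3, 2, 1, 4, 3, 2, 5, 8, 7, 3, 2, 1, 4, 3, 2, 5, 7, 3, 4, 8, 7, 3, 2, 1, 0, 2, 3, 7, 8, 5, 4, 3, 7,
  6, 5, 2, 3, 4, 1, 2, 3, 7, 8, 5, 2, 3, 4, 1, 2, 3, 7, 6, 5, 4, 3, 2, 1], [5], [8, 3, 1, 2, 3, 4, 5,
  7, 3, 2, 1, 4, 3, 2, 7, 3, 4, 5, 8, 7, 3, 4, 2, 3, 7, 8, 1, 2, 3, 7, 5, 6, 7, 3, 2, 1, 4, 3, 5, 4, 8,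
  7, 3, 2, 1, 4, 3, 2, 5, 4, 3, 7, 3, 2, 8, 7, 3, 4, 2, 3, 7, 8, 4, 2, 3, 7, 4, 5, 2, 3, 4, 1, 2, 3, 7,
  8, 5, 2, 3, 4, 1, 2, 3, 7, 6, 5, 4, 3, 2, 1, 3, 8, 1, 2, 3, 4, 5, 6, 7, 3, 2, 1, 4, 3, 2, 5, 8, 7, 3,
  2, 1, 0, 4, 3, 2, 5, 6, 7, 3, 4, 5, 8, 7, 3, 1, 2, 3, 7, 8, 4, 3, 7, 5, 2, 3, 4, 1, 2, 3, 7, 8, 4, 5,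
  2, 3, 4, 1, 2, 3, 7, 6, 5, 4, 3, 2, 1, 3, 1, 2, 3, 4, 5, 6, 7, 3, 2, 1, 4, 3, 2, 5, 8, 7, 3, 2, 1, 0,
  4, 3, 2, 1, 5, 4, 3, 7, 3, 2, 4, 3, 7, 4, 5, 1, 2, 3, 4, 0, 1, 2, 3, 7, 8, 4, 5, 2, 3, 4, 1, 2, 3, 7,
  6, 5, 4, 3, 2, 1, 3], [8, 3, 1, 2, 3, 4, 5, 7, 3, 2, 1, 4, 3, 2, 7, 3, 4, 5, 8, 7, 3, 4, 2, 3, 7, 8,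
  1, 2, 3, 7, 5, 6, 7, 3, 2, 1, 4, 3, 5, 4, 8, 7, 3, 2, 1, 4, 3, 2, 5, 4, 3, 7, 3, 2, 8, 7, 3, 4, 2, 3,
  7, 8, 4, 2, 3, 7, 4, 5, 2, 3, 4, 1, 2, 3, 7, 8, 5, 2, 3, 4, 1, 2, 3, 7, 6, 5, 4, 3, 2, 1, 3, 8], [1,
  2, 3, 4, 5, 6, 7, 3, 2, 1, 4, 3, 2, 5, 8, 7, 3, 2, 1, 4, 3, 2, 5, 7, 3, 4, 8, 7, 3, 2, 1, 0, 2, 3, 7,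
  8, 5, 4, 3, 7, 6, 5, 2, 3, 4, 1, 2, 3, 7, 8, 5, 2, 3, 4, 1, 2, 3, 7, 6, 5, 4, 3, 2, 1, 8, 1, 2, 3, 4,
  5, 6, 7, 3, 2, 1, 4, 3, 2, 5, 8, 7, 3, 2, 1, 4, 3, 2, 5, 6, 7, 3, 4, 5, 8, 7, 3, 2, 0, 1, 2, 3, 7, 8,
  4, 3, 7, 5, 2, 3, 4, 1, 2, 3, 7, 8, 5, 2, 3, 4, 1, 2, 3, 7, 6, 5, 4, 3, 2, 1], [8, 3, 1, 2, 3, 4, 5,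
  7, 3, 2, 1, 4, 3, 2, 7, 3, 4, 5, 8, 7, 3, 4, 2, 3, 7, 8, 1, 2, 3, 7, 5, 6, 7, 3, 2, 1, 4, 3, 5, 4, 8,
  7, 3, 2, 1, 4, 3, 2, 5, 4, 3, 7, 3, 2, 8, 7, 3, 4, 2, 3, 7, 8, 4, 2, 3, 7, 4, 5, 2, 3, 4, 1, 2, 3, 7,
  8, 5, 2, 3, 4, 1, 2, 3, 7, 6, 5, 4, 3, 2, 1, 3, 8, 1, 2, 3, 4, 5, 6, 7, 3, 2, 1, 4, 3, 2, 5, 8, 7, 3,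
  2, 1, 0, 4, 3, 2, 5, 6, 7, 3, 4, 5, 8, 7, 3, 1, 2, 3, 7, 8, 4, 3, 7, 5, 2, 3, 4, 1, 2, 3, 7, 8, 4, 5,
  2, 3, 4, 1, 2, 3, 7, 6, 5, 4, 3, 2, 1], [1, 2, 3, 4, 5, 6, 7, 3, 2, 1, 4, 3, 2, 5, 8, 7, 3, 2, 1, 4,
  3, 2, 5, 7, 3, 4, 8, 7, 3, 2, 1, 0, 2, 3, 7, 8, 5, 4, 3, 7, 6, 5, 2, 3, 4, 1, 2, 3, 7, 8, 5, 2, 3, 4,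
  1, 2, 3, 7, 6, 5, 4, 3, 2, 1, 8, 1, 2, 3, 4, 5, 6, 7, 3, 2, 1, 4, 3, 2, 5, 8, 7, 3, 2, 1, 4, 3, 2, 5,
  6, 7, 3, 4, 5, 8, 7, 3, 2, 0, 1, 2, 3, 7, 8, 4, 3, 7, 5, 2, 3, 4, 0, 4, 3, 2, 5, 6, 7, 3, 4, 5, 8, 7,
  3, 1, 2, 3, 7, 8, 4, 3, 7, 5, 2, 3, 4, 1, 2, 3, 7, 8, 4, 5, 2, 3, 4, 1, 2, 3, 7, 6, 5, 4, 3, 2, 1],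
  [5, 8], [8, 3, 1, 2, 3, 4, 5, 6, 7, 3, 2, 1, 4, 3, 2, 5, 8, 7, 3, 2, 1, 0, 4, 3, 2, 1, 5, 4, 3, 7, 3,
  2, 4, 3, 7, 4, 5, 1, 2, 3, 4, 0, 1, 2, 3, 7, 8, 4, 5, 2, 3, 4, 1, 2, 3, 7, 6, 5, 4, 3, 2, 1, 3], [1,
  2, 3, 4, 5, 6, 7, 3, 2, 1, 4, 3, 2, 5, 8, 7, 3, 2, 1, 4, 3, 2, 5, 7, 3, 4, 8, 7, 3, 2, 1, 0, 2, 3, 7,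
  8, 5, 4, 3, 7, 6, 5, 2, 3, 4, 1, 2, 3, 7, 8, 5, 2, 3, 4, 1, 2, 3, 7, 6, 5, 4, 3, 2, 1, 8, 1, 2, 3, 4,
  5, 6, 7, 3, 2, 1, 4, 3, 2, 5, 8, 7, 3, 2, 1, 4, 3, 2, 5, 6, 7, 3, 4, 5, 8, 7, 3, 2, 0, 1, 2, 3, 7, 8,
  4, 3, 7, 5, 2, 3, 4, 0, 4, 3, 2, 5, 6, 7, 3, 4, 5, 8, 7, 3, 1, 2, 3, 7, 8, 4, 3, 7, 5, 2, 3, 4, 1, 2,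
  3, 7, 8, 4, 5, 2, 3, 4, 1, 2, 3, 7, 6, 5, 4, 3, 2, 1, 3, 1, 2, 3, 4, 5, 6, 7, 3, 2, 1, 4, 3, 2, 5, 8,
  7, 3, 2, 1, 0, 4, 3, 2, 1, 5, 4, 3, 7, 3, 2, 4, 3, 7, 4, 5, 1, 2, 3, 4, 0, 1, 2, 3, 7, 8, 4, 5, 2, 3,
  4, 1, 2, 3, 7, 6, 5, 4, 3, 2, 1, 3], [8, 3, 1, 2, 3, 4, 5, 7, 3, 2, 1, 4, 3, 2, 7, 3, 4, 5, 8, 7, 3,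
  4, 2, 3, 7, 8, 1, 2, 3, 7, 5, 6, 7, 3, 2, 1, 4, 3, 5, 4, 8, 7, 3, 2, 1, 4, 3, 2, 5, 4, 3, 7, 3, 2, 8,
  7, 3, 4, 2, 3, 7, 8, 4, 2, 3, 7, 4, 5, 2, 3, 4, 1, 2, 3, 7, 8, 5, 2, 3, 4, 1, 2, 3, 7, 6, 5, 4, 3, 2,
  1, 3, 8, 5], [1, 2, 3, 4, 5, 6, 7, 3, 2, 1, 4, 3, 2, 5, 8, 7, 3, 2, 1, 4, 3, 2, 5, 7, 3, 4, 8, 7, 3,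
  2, 1, 0, 2, 3, 7, 8, 5, 4, 3, 7, 6, 5, 2, 3, 4, 1, 2, 3, 7, 8, 5, 2, 3, 4, 1, 2, 3, 7, 6, 5, 4, 3, 2,
  1, 8, 1, 2, 3, 4, 5, 6, 7, 3, 2, 1, 4, 3, 2, 5, 8, 7, 3, 2, 1, 4, 3, 2, 5, 6, 7, 3, 4, 5, 8, 7, 3, 2,
  0, 1, 2, 3, 7, 8, 4, 3, 7, 5, 2, 3, 4, 1, 2, 3, 7, 8, 5, 2, 3, 4, 1, 2, 3, 7, 6, 5, 4, 3, 2, 1, 5],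
  [1, 2, 3, 4, 5, 6, 7, 3, 2, 1, 4, 3, 2, 5, 8, 7, 3, 2, 1, 4, 3, 2, 5, 7, 3, 4, 8, 7, 3, 2, 1, 0, 2,
  3, 7, 8, 5, 4, 3, 7, 6, 5, 2, 3, 4, 1, 2, 3, 7, 8, 5, 2, 3, 4, 1, 2, 3, 7, 6, 5, 4, 3, 2, 1, 8, 1, 2,
  3, 4, 5, 6, 7, 3, 2, 1, 4, 3, 2, 5, 8, 7, 3, 2, 1, 4, 3, 2, 5, 6, 7, 3, 4, 5, 8, 7, 3, 2, 0, 1, 2, 3,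
  7, 8, 4, 3, 7, 5, 2, 3, 4, 1, 2, 3, 7, 8, 5, 2, 3, 4, 1, 2, 3, 7, 6, 5, 4, 3, 2, 1, 8], [5, 3, 1, 2,
  3, 4, 5, 6, 7, 3, 2, 1, 4, 3, 2, 5, 8, 7, 3, 2, 1, 0, 4, 3, 2, 1, 5, 4, 3, 7, 3, 2, 4, 3, 7, 4, 5, 1,
  2, 3, 4, 0, 1, 2, 3, 7, 8, 4, 5, 2, 3, 4, 1, 2, 3, 7, 6, 5, 4, 3, 2, 1, 3], [1, 2, 3, 4, 5, 6, 7, 3,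
  2, 1, 4, 3, 2, 5, 8, 7, 3, 2, 1, 4, 3, 2, 5, 7, 3, 4, 8, 7, 3, 2, 1, 0, 2, 3, 7, 8, 5, 4, 3, 7, 6, 5,
  2, 3, 4, 1, 2, 3, 7, 8, 5, 2, 3, 4, 1, 2, 3, 7, 6, 5, 4, 3, 2, 1, 8, 1, 2, 3, 4, 5, 6, 7, 3, 2, 1, 4,
  3, 2, 5, 8, 7, 3, 2, 1, 4, 3, 2, 5, 6, 7, 3, 4, 5, 8, 7, 3, 2, 0, 1, 2, 3, 7, 8, 4, 3, 7, 5, 2, 3, 4,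
  1, 2, 3, 7, 8, 5, 2, 3, 4, 1, 2, 3, 7, 6, 5, 4, 3, 2, 1, 5, 1, 2, 3, 4, 5, 6, 7, 3, 2, 1, 4, 3, 2, 5,
  8, 7, 3, 2, 1, 0, 4, 3, 2, 5, 6, 7, 3, 4, 5, 8, 7, 3, 1, 2, 3, 7, 8, 4, 3, 7, 5, 2, 3, 4, 1, 2, 3, 7,
  8, 4, 5, 2, 3, 4, 1, 2, 3, 7, 6, 5, 4, 3, 2, 1], [1, 2, 3, 4, 5, 6, 7, 3, 2, 1, 4, 3, 2, 5, 8, 7, 3,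
  2, 1, 4, 3, 2, 5, 7, 3, 4, 8, 7, 3, 2, 1, 0, 2, 3, 7, 8, 5, 4, 3, 7, 6, 5, 2, 3, 4, 1, 2, 3, 7, 8, 5,
  2, 3, 4, 1, 2, 3, 7, 6, 5, 4, 3, 2, 1, 8, 1, 2, 3, 4, 5, 6, 7, 3, 2, 1, 4, 3, 2, 5, 8, 7, 3, 2, 1, 4,
  3, 2, 5, 6, 7, 3, 4, 5, 8, 7, 3, 2, 0, 1, 2, 3, 7, 8, 4, 3, 7, 5, 2, 3, 4, 0, 4, 3, 2, 5, 6, 7, 3, 4,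
  5, 8, 7, 3, 1, 2, 3, 7, 8, 4, 3, 7, 5, 2, 3, 4, 1, 2, 3, 7, 8, 4, 5, 2, 3, 4, 1, 2, 3, 7, 6, 5, 4, 3,
  2, 1, 8], [3, 1, 2, 3, 4, 5, 6, 7, 3, 2, 1, 4, 3, 2, 5, 8, 7, 3, 2, 1, 0, 4, 3, 2, 1, 5, 4, 3, 7, 3,
  2, 4, 3, 7, 4, 5, 1, 2, 3, 4, 0, 1, 2, 3, 7, 8, 4, 5, 2, 3, 4, 1, 2, 3, 7, 6, 5, 4, 3, 2, 1, 3], [1,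
  2, 3, 4, 5, 6, 7, 3, 2, 1, 4, 3, 2, 5, 8, 7, 3, 2, 1, 4, 3, 2, 5, 7, 3, 4, 8, 7, 3, 2, 1, 0, 2, 3, 7,
  8, 5, 4, 3, 7, 6, 5, 2, 3, 4, 1, 2, 3, 7, 8, 5, 2, 3, 4, 1, 2, 3, 7, 6, 5, 4, 3, 2, 1, 8, 1, 2, 3, 4,
  5, 6, 7, 3, 2, 1, 4, 3, 2, 5, 8, 7, 3, 2, 1, 4, 3, 2, 5, 6, 7, 3, 4, 5, 8, 7, 3, 2, 0, 1, 2, 3, 7, 8,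
  4, 3, 7, 5, 2, 3, 4, 1, 2, 3, 7, 8, 5, 2, 3, 4, 1, 2, 3, 7, 6, 5, 4, 3, 2, 1, 5, 8], [1, 2, 3, 4, 5,
  6, 7, 3, 2, 1, 4, 3, 2, 5, 8, 7, 3, 2, 1, 4, 3, 2, 5, 7, 3, 4, 8, 7, 3, 2, 1, 0, 2, 3, 7, 8, 5, 4, 3,
  7, 6, 5, 2, 3, 4, 1, 2, 3, 7, 8, 5, 2, 3, 4, 1, 2, 3, 7, 6, 5, 4, 3, 2, 1, 8, 1, 2, 3, 4, 5, 6, 7, 3,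
  2, 1, 4, 3, 2, 5, 8, 7, 3, 2, 1, 4, 3, 2, 5, 6, 7, 3, 4, 5, 8, 7, 3, 2, 0, 1, 2, 3, 7, 8, 4, 3, 7, 5,
  2, 3, 4, 1, 2, 3, 7, 8, 5, 2, 3, 4, 1, 2, 3, 7, 6, 5, 4, 3, 2, 1, 5, 1, 2, 3, 4, 5, 6, 7, 3, 2, 1, 4,
  3, 2, 5, 8, 7, 3, 2, 1, 0, 4, 3, 2, 5, 6, 7, 3, 4, 5, 8, 7, 3, 1, 2, 3, 7, 8, 4, 3, 7, 5, 2, 3, 4, 1,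
  2, 3, 7, 8, 4, 5, 2, 3, 4, 1, 2, 3, 7, 6, 5, 4, 3, 2, 1, 8], [1, 2, 3, 4, 5, 6, 7, 3, 2, 1, 4, 3, 2,
  5, 8, 7, 3, 2, 1, 4, 3, 2, 5, 7, 3, 4, 8, 7, 3, 2, 1, 0, 2, 3, 7, 8, 5, 4, 3, 7, 6, 5, 2, 3, 4, 1, 2,
  3, 7, 8, 5, 2, 3, 4, 1, 2, 3, 7, 6, 5, 4, 3, 2, 1, 8, 1, 2, 3, 4, 5, 6, 7, 3, 2, 1, 4, 3, 2, 5, 8, 7,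
  3, 2, 1, 4, 3, 2, 5, 6, 7, 3, 4, 5, 8, 7, 3, 2, 0, 1, 2, 3, 7, 8, 4, 3, 7, 5, 2, 3, 4, 1, 2, 3, 7, 8,
  5, 2, 3, 4, 1, 2, 3, 7, 6, 5, 4, 3, 2, 1, 5, 3, 1, 2, 3, 4, 5, 6, 7, 3, 2, 1, 4, 3, 2, 5, 8, 7, 3, 2,
  1, 0, 4, 3, 2, 1, 5, 4, 3, 7, 3, 2, 4, 3, 7, 4, 5, 1, 2, 3, 4, 0, 1, 2, 3, 7, 8, 4, 5, 2, 3, 4, 1, 2,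
  3, 7, 6, 5, 4, 3, 2, 1, 3], [1, 2, 3, 4, 5, 6, 7, 3, 2, 1, 4, 3, 2, 5, 8, 7, 3, 2, 1, 4, 3, 2, 5, 7,
  3, 4, 8, 7, 3, 2, 1, 0, 2, 3, 7, 8, 5, 4, 3, 7, 6, 5, 2, 3, 4, 1, 2, 3, 7, 8, 5, 2, 3, 4, 1, 2, 3, 7,
  6, 5, 4, 3, 2, 1, 8, 1, 2, 3, 4, 5, 6, 7, 3, 2, 1, 4, 3, 2, 5, 8, 7, 3, 2, 1, 4, 3, 2, 5, 6, 7, 3, 4,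
  5, 8, 7, 3, 2, 0, 1, 2, 3, 7, 8, 4, 3, 7, 5, 2, 3, 4, 1, 2, 3, 7, 8, 5, 2, 3, 4, 1, 2, 3, 7, 6, 5, 4,
  3, 2, 1, 5, 8, 1, 2, 3, 4, 5, 6, 7, 3, 2, 1, 4, 3, 2, 5, 8, 7, 3, 2, 1, 0, 4, 3, 2, 5, 6, 7, 3, 4, 5,
  8, 7, 3, 1, 2, 3, 7, 8, 4, 3, 7, 5, 2, 3, 4, 1, 2, 3, 7, 8, 4, 5, 2, 3, 4, 1, 2, 3, 7, 6, 5, 4, 3, 2,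
  1], [1, 2, 3, 4, 5, 6, 7, 3, 2, 1, 4, 3, 2, 5, 8, 7, 3, 2, 1, 4, 3, 2, 5, 7, 3, 4, 8, 7, 3, 2, 1, 0,
  2, 3, 7, 8, 5, 4, 3, 7, 6, 5, 2, 3, 4, 1, 2, 3, 7, 8, 5, 2, 3, 4, 1, 2, 3, 7, 6, 5, 4, 3, 2, 1, 8, 1,
  2, 3, 4, 5, 6, 7, 3, 2, 1, 4, 3, 2, 5, 8, 7, 3, 2, 1, 4, 3, 2, 5, 6, 7, 3, 4, 5, 8, 7, 3, 2, 0, 1, 2,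
  3, 7, 8, 4, 3, 7, 5, 2, 3, 4, 1, 2, 3, 7, 8, 5, 2, 3, 4, 1, 2, 3, 7, 6, 5, 4, 3, 2, 1, 5, 8, 3, 1, 2,
  3, 4, 5, 6, 7, 3, 2, 1, 4, 3, 2, 5, 8, 7, 3, 2, 1, 0, 4, 3, 2, 1, 5, 4, 3, 7, 3, 2, 4, 3, 7, 4, 5, 1,
  2, 3, 4, 0, 1, 2, 3, 7, 8, 4, 5, 2, 3, 4, 1, 2, 3, 7, 6, 5, 4, 3, 2, 1, 3], [1, 2, 3, 4, 5, 6, 7, 3,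
  2, 1, 4, 3, 2, 5, 8, 7, 3, 2, 1, 4, 3, 2, 5, 7, 3, 4, 8, 7, 3, 2, 1, 0, 2, 3, 7, 8, 5, 4, 3, 7, 6, 5,
  2, 3, 4, 1, 2, 3, 7, 8, 5, 2, 3, 4, 1, 2, 3, 7, 6, 5, 4, 3, 2, 1, 8, 1, 2, 3, 4, 5, 6, 7, 3, 2, 1, 4,
  3, 2, 5, 8, 7, 3, 2, 1, 4, 3, 2, 5, 6, 7, 3, 4, 5, 8, 7, 3, 2, 0, 1, 2, 3, 7, 8, 4, 3, 7, 5, 2, 3, 4,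
  1, 2, 3, 7, 8, 5, 2, 3, 4, 1, 2, 3, 7, 6, 5, 4, 3, 2, 1, 5, 1, 0, 2, 3, 4, 5, 6, 7, 3, 4, 5, 8, 7, 3,
  2, 1, 4, 3, 2, 3, 7, 8, 3, 7, 4, 5, 3, 4, 2, 3, 7, 6, 5, 4, 3, 2, 0, 1, 3, 1, 2, 3, 4, 5, 6, 7, 3, 2,
  4, 3, 5, 7, 8, 7, 3, 2, 4, 3, 5, 4, 7, 6, 5, 3, 4, 2, 3, 7, 8, 7, 4, 5, 3, 4, 2, 3, 7, 6, 5, 4, 3, 2,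
  1, 3, 1, 0, 2, 3, 4, 5, 7, 3, 2, 4, 3, 7, 8, 7, 3, 2, 4, 5, 3, 4, 1, 2, 3, 7, 8, 3, 4, 2, 3, 7, 5, 4,
  3, 2, 0, 1], [1, 2, 3, 4, 5, 6, 7, 3, 2, 1, 4, 3, 2, 5, 8, 7, 3, 2, 1, 4, 3, 2, 5, 7, 3, 4, 8, 7, 3,
  2, 1, 0, 2, 3, 7, 8, 5, 4, 3, 7, 6, 5, 2, 3, 4, 1, 2, 3, 7, 8, 5, 2, 3, 4, 1, 2, 3, 7, 6, 5, 4, 3, 2,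
  1, 8, 1, 2, 3, 4, 5, 6, 7, 3, 2, 1, 4, 3, 2, 5, 8, 7, 3, 2, 1, 4, 3, 2, 5, 6, 7, 3, 4, 5, 8, 7, 3, 2,
  0, 1, 2, 3, 7, 8, 4, 3, 7, 5, 2, 3, 4, 1, 2, 3, 7, 8, 5, 2, 3, 4, 1, 2, 3, 7, 6, 5, 4, 3, 2, 1, 5, 8,
  3, 1, 2, 3, 4, 5, 6, 7, 3, 2, 1, 4, 3, 2, 5, 8, 7, 3, 2, 1, 0, 4, 3, 2, 1, 5, 4, 3, 7, 3, 2, 4, 3, 7,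
  4, 5, 1, 2, 3, 4, 0, 1, 2, 3, 7, 8, 4, 5, 2, 3, 4, 1, 2, 3, 7, 6, 5, 4, 3, 2, 1, 3, 5], [1, 2, 3, 4,
  5, 6, 7, 3, 2, 1, 4, 3, 2, 5, 8, 7, 3, 2, 1, 4, 3, 2, 5, 7, 3, 4, 8, 7, 3, 2, 1, 0, 2, 3, 7, 8, 5, 4,
  3, 7, 6, 5, 2, 3, 4, 1, 2, 3, 7, 8, 5, 2, 3, 4, 1, 2, 3, 7, 6, 5, 4, 3, 2, 1, 8, 1, 2, 3, 4, 5, 6, 7,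
  3, 2, 1, 4, 3, 2, 5, 8, 7, 3, 2, 1, 4, 3, 2, 5, 6, 7, 3, 4, 5, 8, 7, 3, 2, 0, 1, 2, 3, 7, 8, 4, 3, 7,
  5, 2, 3, 4, 1, 2, 3, 7, 8, 5, 2, 3, 4, 1, 2, 3, 7, 6, 5, 4, 3, 2, 1, 5, 8, 3, 1, 2, 3, 4, 5, 6, 7, 3,
  2, 1, 4, 3, 2, 5, 8, 7, 3, 2, 1, 0, 4, 3, 2, 1, 5, 4, 3, 7, 3, 2, 4, 3, 7, 4, 5, 1, 2, 3, 4, 0, 1, 2,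
  3, 7, 8, 4, 5, 2, 3, 4, 1, 2, 3, 7, 6, 5, 4, 3, 2, 1, 3, 5, 3, 1, 2, 3, 4, 5, 6, 7, 3, 2, 1, 4, 3, 2,
  5, 8, 7, 3, 2, 1, 0, 4, 3, 2, 1, 5, 4, 3, 7, 3, 2, 4, 3, 7, 4, 5, 1, 2, 3, 4, 0, 1, 2, 3, 7, 8, 4, 5,
  2, 3, 4, 1, 2, 3, 7, 6, 5, 4, 3, 2, 1, 3, 5]]

/-- Elements of the base stabiliser moving one base point. -/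
def moveTab2 : List (ℕ × List ℕ) :=
  [(40, [1, 2, 3, 4, 5, 6, 7, 3, 2, 1, 4, 3, 2, 5, 8, 7, 3, 2, 1, 4, 3, 2, 5, 7, 3, 4, 8, 7, 3, 2, 1,
  0, 2, 3, 7, 8, 5, 4, 3, 7, 6, 5, 2, 3, 4, 1, 2, 3, 7, 8, 5, 2, 3, 4, 1, 2, 3, 7, 6, 5, 4, 3, 2, 1]),
  (43, [1, 2, 3, 4, 5, 6, 7, 3, 2, 1, 4, 3, 2, 5, 8, 7, 3, 2, 1, 4, 3, 2, 5, 6, 7, 3, 4, 5, 8, 7, 3, 2,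
  4, 3, 7, 8, 5, 4, 1, 2, 3, 7, 4, 5, 2, 3, 4, 1, 2, 3, 7, 8, 5, 4, 1, 2, 3, 7, 6, 5, 4, 3, 2, 1]),
  (47, []), (59, [1, 2, 3, 4, 5, 6, 7, 3, 2, 1, 4, 5, 8, 7, 3, 2, 1, 4, 3, 2, 5, 4, 7, 3, 2, 1, 4, 5,
  8, 7, 3, 2, 4, 3, 7, 8, 5, 4, 3, 7, 6, 7, 3, 4, 8, 7, 3, 2, 1, 0, 2, 3, 7, 8, 5, 4, 3, 7, 6, 5, 2, 3,
  4, 1, 2, 3, 7, 8, 5, 2, 3, 4, 1, 2, 3, 7, 6, 5, 4, 3, 2, 1]), (154, [1, 2, 3, 4, 5, 6, 7, 3, 2, 1, 4,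
  5, 8, 7, 3, 2, 1, 4, 3, 2, 5, 4, 7, 3, 2, 1, 4, 5, 8, 7, 3, 2, 4, 3, 7, 8, 5, 4, 3, 7, 6, 5, 2, 3, 4,
  1, 2, 3, 7, 8, 5, 2, 3, 4, 1, 2, 3, 7, 6, 5, 4, 3, 2, 1]), (155, [1, 2, 3, 4, 5, 6, 7, 3, 2, 1, 4, 3,
  2, 5, 8, 7, 3, 2, 1, 4, 3, 2, 5, 7, 3, 4, 8, 7, 3, 2, 1, 0, 4, 3, 7, 8, 5, 4, 1, 2, 3, 7, 4, 5, 2, 3,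
  4, 1, 2, 3, 7, 8, 5, 4, 1, 2, 3, 7, 6, 5, 4, 3, 2, 1]), (172, [1, 2, 3, 4, 7, 3, 2, 1, 8, 7, 3, 2, 4,
  3, 5, 4, 7, 8, 3, 7, 2, 3, 4, 1, 2, 3, 7, 6, 7, 3, 4, 5, 8, 7, 3, 2, 1, 4, 3, 2, 7, 3, 4, 5, 6, 0, 1,
  2, 3, 7, 4, 5, 3, 4, 2, 3, 7, 8, 1, 2, 3, 7, 6, 5, 4, 3, 2, 1]), (424, [1, 2, 3, 4, 5, 6, 7, 3, 2, 1,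
  8, 7, 3, 2, 4, 3, 5, 4, 7, 3, 2, 1, 0, 6, 5, 4, 3, 7, 2, 3, 4, 1, 2, 3, 7, 8, 5, 4, 3, 7, 6, 7, 3, 2,
  1, 4, 3, 2, 7, 3, 8, 7, 4, 5, 3, 4, 2, 3, 7, 8, 1, 2, 3, 7, 4, 3, 2, 1]), (427, [5, 3, 1, 2, 3, 4, 5,
  6, 7, 3, 2, 1, 4, 3, 2, 5, 8, 7, 3, 2, 1, 0, 4, 3, 2, 1, 5, 4, 3, 7, 3, 2, 4, 3, 7, 4, 5, 1, 2, 3, 4,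
  0, 1, 2, 3, 7, 8, 4, 5, 2, 3, 4, 1, 2, 3, 7, 6, 5, 4, 3, 2, 1, 3, 5, 8, 3, 1, 2, 3, 4, 5, 6, 7, 3, 2,
  1, 4, 3, 2, 5, 8, 7, 3, 2, 1, 0, 4, 3, 2, 1, 5, 4, 3, 7, 3, 2, 4, 3, 7, 4, 5, 1, 2, 3, 4, 0, 1, 2, 3,
  7, 8, 4, 5, 2, 3, 4, 1, 2, 3, 7, 6, 5, 4, 3, 2, 1, 3, 5]), (434, [8, 3, 1, 2, 3, 4, 5, 7, 3, 2, 1, 4,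
  3, 2, 7, 3, 4, 5, 8, 7, 3, 4, 2, 3, 7, 8, 1, 2, 3, 7, 5, 6, 7, 3, 2, 1, 4, 3, 5, 4, 8, 7, 3, 2, 1, 4,
  3, 2, 5, 4, 3, 7, 3, 2, 8, 7, 3, 4, 2, 3, 7, 8, 4, 2, 3, 7, 4, 5, 2, 3, 4, 1, 2, 3, 7, 8, 5, 2, 3, 4,
  1, 2, 3, 7, 6, 5, 4, 3, 2, 1, 3, 8, 3, 1, 2, 3, 4, 7, 3, 2, 1, 8, 7, 3, 2, 4, 3, 5, 4, 7, 8, 3, 7, 2,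
  3, 4, 1, 2, 3, 7, 5, 4, 3, 2, 0, 2, 3, 4, 5, 6, 7, 3, 4, 5, 8, 7, 3, 2, 1, 4, 3, 2, 3, 7, 8, 3, 7, 4,
  5, 3, 4, 2, 3, 7, 6, 5, 4, 3, 2, 0, 1, 3, 1, 2, 3, 4, 5, 6, 7, 3, 2, 4, 3, 5, 7, 8, 7, 3, 2, 4, 3, 5,
  4, 7, 6, 5, 3, 4, 2, 3, 7, 8, 7, 4, 5, 3, 4, 2, 3, 7, 6, 5, 4, 3, 2, 1, 3, 1, 2, 3, 4, 5, 6, 7, 3, 2,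
  4, 3, 5, 7, 8, 7, 3, 2, 4, 3, 5, 4, 7, 6, 5, 3, 4, 2, 3, 7, 8, 7, 4, 5, 3, 4, 1, 4, 3, 2, 5, 4, 3, 8,
  7, 3, 2, 4, 3, 5, 4, 6, 7, 3, 2, 1, 0, 5, 4, 3, 7, 2, 3, 4, 1, 2, 3, 7, 8, 3, 7, 5, 2, 3, 4, 1, 2, 3,
  7, 6, 5, 4, 3, 2, 1, 3]), (472, [8, 3, 1, 2, 3, 4, 5, 7, 3, 2, 1, 4, 3, 2, 7, 3, 4, 5, 8, 7, 3, 4, 2,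
  3, 7, 8, 1, 2, 3, 7, 5, 6, 7, 3, 2, 1, 4, 3, 5, 4, 8, 7, 3, 2, 1, 4, 3, 2, 5, 4, 3, 7, 3, 2, 8, 7, 3,
  4, 2, 3, 7, 8, 4, 2, 3, 7, 4, 5, 2, 3, 4, 1, 2, 3, 7, 8, 5, 2, 3, 4, 1, 2, 3, 7, 6, 5, 4, 3, 2, 1, 3,
  8, 5, 8, 3, 1, 2, 3, 4, 5, 6, 7, 3, 2, 1, 4, 3, 2, 5, 8, 7, 3, 2, 1, 0, 4, 3, 2, 1, 5, 4, 3, 7, 3, 2,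
  4, 3, 7, 4, 5, 1, 2, 3, 4, 0, 1, 2, 3, 7, 8, 4, 5, 2, 3, 4, 1, 2, 3, 7, 6, 5, 4, 3, 2, 1, 3, 5, 1, 2,
  3, 4, 5, 6, 7, 3, 2, 1, 4, 3, 2, 5, 8, 7, 3, 2, 1, 0, 4, 3, 2, 5, 6, 7, 3, 4, 5, 8, 7, 3, 1, 2, 3, 7,
  8, 4, 3, 7, 5, 2, 3, 4, 1, 2, 3, 7, 8, 4, 5, 2, 3, 4, 1, 2, 3, 7, 6, 5, 4, 3, 2, 1, 3, 1, 2, 3, 4, 5,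
  6, 7, 3, 2, 1, 4, 3, 2, 5, 8, 7, 3, 2, 1, 0, 4, 3, 2, 1, 5, 4, 3, 7, 3, 2, 4, 3, 7, 4, 5, 1, 2, 3, 4,
  0, 1, 2, 3, 7, 8, 4, 5, 2, 3, 4, 1, 2, 3, 7, 6, 5, 4, 3, 2, 1, 3, 5]), (637, [1, 2, 3, 4, 5, 6, 7, 3,
  2, 1, 4, 3, 2, 5, 8, 7, 3, 2, 1, 4, 3, 2, 5, 7, 3, 4, 8, 7, 3, 2, 1, 0, 2, 3, 7, 8, 5, 4, 3, 7, 6, 5,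
  2, 3, 4, 1, 2, 3, 7, 8, 5, 2, 3, 5, 8, 7, 3, 2, 1, 4, 3, 2, 5, 4, 7, 3, 2, 1, 4, 5, 8, 7, 3, 2, 4, 3,
  7, 8, 5, 4, 3, 7, 6, 5, 2, 3, 4, 1, 2, 3, 7, 8, 5, 2, 3, 4, 1, 2, 3, 7, 6, 5, 4, 3, 2, 1]), (1062,
  [1, 2, 3, 4, 5, 6, 7, 3, 4, 5, 8, 7, 3, 2, 1, 4, 3, 2, 7, 3, 4, 5, 6, 0, 1, 2, 3, 7, 4, 5, 3, 4, 2,
  3, 7, 8, 4, 3, 5, 4, 7, 3, 8, 7, 3, 2, 4, 3, 5, 4, 6, 5, 1, 2, 3, 4, 0, 1, 2, 3, 7, 8, 3, 7, 5, 2, 3,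
  4, 1, 2, 3, 7, 6, 5, 4, 3, 2, 1]), (1710, [8, 3, 1, 2, 3, 4, 5, 7, 3, 2, 1, 4, 3, 2, 7, 3, 4, 5, 8,
  7, 3, 4, 2, 3, 7, 8, 1, 2, 3, 7, 5, 6, 7, 3, 2, 1, 4, 3, 5, 4, 8, 7, 3, 2, 1, 4, 3, 2, 5, 4, 3, 7, 3,
  2, 8, 7, 3, 4, 2, 3, 7, 8, 4, 2, 3, 7, 4, 5, 2, 3, 4, 1, 2, 3, 7, 8, 5, 2, 3, 4, 1, 2, 3, 7, 6, 5, 4,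
  3, 2, 1, 3, 8, 5, 8, 1, 2, 3, 4, 5, 6, 7, 3, 2, 1, 4, 3, 2, 5, 8, 7, 3, 2, 1, 0, 4, 3, 2, 5, 6, 7, 3,
  4, 5, 8, 7, 3, 1, 2, 3, 7, 8, 4, 3, 7, 5, 2, 3, 4, 1, 2, 3, 7, 8, 4, 5, 2, 3, 4, 1, 2, 3, 7, 6, 5, 4,
  3, 2, 1, 8, 1, 2, 3, 4, 5, 6, 7, 3, 2, 1, 4, 3, 2, 5, 8, 7, 3, 2, 1, 0, 4, 3, 2, 5, 6, 7, 3, 4, 5, 8,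
  7, 3, 1, 2, 3, 7, 8, 4, 3, 7, 5, 2, 3, 4, 1, 2, 3, 7, 8, 4, 5, 2, 3, 4, 1, 2, 3, 7, 6, 5, 4, 3, 2, 1,
  3, 1, 2, 3, 4, 5, 6, 7, 3, 2, 1, 4, 3, 2, 5, 8, 7, 3, 2, 1, 0, 4, 3, 2, 1, 5, 4, 3, 7, 3, 2, 4, 3, 7,
  4, 5, 1, 2, 3, 4, 0, 1, 2, 3, 7, 8, 4, 5, 2, 3, 4, 1, 2, 3, 7, 6, 5, 4, 3, 2, 1, 3, 8]), (1734, [3,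
  1, 2, 3, 4, 5, 6, 7, 3, 2, 1, 4, 3, 2, 5, 8, 7, 3, 2, 1, 0, 4, 3, 2, 1, 5, 4, 3, 7, 3, 2, 4, 3, 7, 4,
  5, 1, 2, 3, 4, 0, 1, 2, 3, 7, 8, 4, 5, 2, 3, 4, 1, 2, 3, 7, 6, 5, 4, 3, 2, 1, 3, 1, 2, 3, 4, 5, 6, 7,
  3, 2, 1, 4, 3, 2, 5, 8, 7, 3, 2, 1, 4, 3, 2, 5, 7, 3, 4, 8, 7, 3, 2, 1, 0, 4, 3, 7, 8, 5, 4, 1, 2, 3,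
  7, 4, 5, 2, 3, 4, 1, 2, 3, 7, 8, 5, 4, 1, 2, 3, 7, 6, 5, 4, 3, 2, 1, 3, 1, 2, 3, 4, 5, 6, 7, 3, 2, 1,
  4, 3, 2, 5, 8, 7, 3, 2, 1, 0, 4, 3, 2, 1, 5, 4, 3, 7, 3, 2, 4, 3, 7, 4, 5, 1, 2, 3, 4, 0, 1, 2, 3, 7,
  8, 4, 5, 2, 3, 4, 1, 2, 3, 7, 6, 5, 4, 3, 2, 1, 3]), (1779, [1, 2, 3, 4, 5, 6, 7, 3, 2, 1, 4, 3, 2,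
  5, 8, 7, 3, 2, 1, 0, 4, 3, 2, 5, 6, 7, 3, 4, 5, 8, 7, 3, 1, 2, 3, 7, 8, 4, 3, 7, 5, 2, 3, 4, 1, 2, 3,
  7, 8, 4, 5, 2, 3, 4, 1, 2, 3, 7, 6, 5, 4, 3, 2, 1]), (2609, [8, 3, 1, 2, 3, 4, 5, 7, 3, 2, 1, 4, 3,
  2, 7, 3, 4, 5, 8, 7, 3, 4, 2, 3, 7, 8, 1, 2, 3, 7, 5, 6, 7, 3, 2, 1, 4, 3, 5, 4, 8, 7, 3, 2, 1, 4, 3,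
  2, 5, 4, 3, 7, 3, 2, 8, 7, 3, 4, 2, 3, 7, 8, 4, 2, 3, 7, 4, 5, 2, 3, 4, 1, 2, 3, 7, 8, 5, 2, 3, 4, 1,
  2, 3, 7, 6, 5, 4, 3, 2, 1, 3, 8, 5, 8, 1, 2, 3, 4, 5, 6, 7, 3, 2, 1, 4, 3, 2, 5, 8, 7, 3, 2, 1, 0, 4,
  3, 2, 5, 6, 7, 3, 4, 5, 8, 7, 3, 1, 2, 3, 7, 8, 4, 3, 7, 5, 2, 3, 4, 1, 2, 3, 7, 8, 4, 5, 2, 3, 4, 1,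
  2, 3, 7, 6, 5, 4, 3, 2, 1, 8, 3, 1, 2, 3, 4, 5, 6, 7, 3, 2, 1, 4, 3, 2, 5, 8, 7, 3, 2, 1, 0, 4, 3, 2,
  1, 5, 4, 3, 7, 3, 2, 4, 3, 7, 4, 5, 1, 2, 3, 4, 0, 1, 2, 3, 7, 8, 4, 5, 2, 3, 4, 1, 2, 3, 7, 6, 5, 4,
  3, 2, 1, 3, 5]), (2692, [8, 3, 1, 2, 3, 4, 5, 7, 3, 2, 1, 4, 3, 2, 7, 3, 4, 5, 8, 7, 3, 4, 2, 3, 7,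
  8, 1, 2, 3, 7, 5, 6, 7, 3, 2, 1, 4, 3, 5, 4, 8, 7, 3, 2, 1, 4, 3, 2, 5, 4, 3, 7, 3, 2, 8, 7, 3, 4, 2,
  3, 7, 8, 4, 2, 3, 7, 4, 5, 2, 3, 4, 1, 2, 3, 7, 8, 5, 2, 3, 4, 1, 2, 3, 7, 6, 5, 4, 3, 2, 1, 3, 8, 3,
  1, 2, 3, 4, 5, 7, 3, 2, 1, 4, 3, 2, 7, 3, 4, 5, 8, 7, 3, 4, 2, 3, 7, 8, 1, 2, 3, 7, 4, 3, 2, 0, 2, 3,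
  4, 5, 6, 7, 3, 2, 4, 3, 5, 4, 7, 3, 2, 1, 8, 7, 3, 4, 2, 3, 7, 8, 5, 4, 3, 7, 6, 5, 4, 3, 1, 2, 0, 1,
  3, 1, 2, 3, 4, 5, 7, 3, 2, 1, 4, 3, 2, 7, 8, 7, 3, 2, 1, 4, 3, 2, 7, 3, 4, 0, 1, 2, 3, 7, 8, 7, 3, 4,
  1, 2, 3, 7, 5, 4, 3, 2, 1, 3, 8]), (3399, [8, 3, 1, 2, 3, 4, 5, 7, 3, 2, 1, 4, 3, 2, 7, 3, 4, 5, 8,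
  7, 3, 4, 2, 3, 7, 8, 1, 2, 3, 7, 5, 6, 7, 3, 2, 1, 4, 3, 5, 4, 8, 7, 3, 2, 1, 4, 3, 2, 5, 4, 3, 7, 3,
  2, 8, 7, 3, 4, 2, 3, 7, 8, 4, 2, 3, 7, 4, 5, 2, 3, 4, 1, 2, 3, 7, 8, 5, 2, 3, 4, 1, 2, 3, 7, 6, 5, 4,
  3, 2, 1, 3, 8, 1, 2, 3, 4, 5, 6, 7, 3, 2, 1, 4, 3, 2, 5, 8, 7, 3, 2, 1, 0, 4, 3, 2, 5, 6, 7, 3, 4, 5,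
  8, 7, 3, 1, 2, 3, 7, 8, 4, 3, 7, 5, 2, 3, 4, 1, 2, 3, 7, 8, 4, 5, 2, 3, 4, 1, 2, 3, 7, 6, 5, 4, 3, 2,
  1, 8, 3, 1, 2, 3, 4, 5, 6, 7, 3, 2, 1, 4, 3, 2, 5, 8, 7, 3, 2, 1, 0, 4, 3, 2, 1, 5, 4, 3, 7, 3, 2, 4,
  3, 7, 4, 5, 1, 2, 3, 4, 0, 1, 2, 3, 7, 8, 4, 5, 2, 3, 4, 1, 2, 3, 7, 6, 5, 4, 3, 2, 1, 3, 5]), (3400,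
  [1, 2, 3, 4, 5, 6, 7, 3, 2, 1, 4, 3, 2, 5, 4, 7, 8, 7, 3, 2, 1, 4, 3, 5, 4, 7, 3, 2, 8, 7, 3, 4, 1,
  2, 3, 7, 8, 4, 3, 7, 5, 2, 3, 4, 0, 1, 2, 3, 7, 8, 4, 3, 8, 7, 3, 2, 1, 0, 4, 3, 5, 6, 4, 5, 2, 3, 4,
  1, 2, 3, 7, 8, 3, 4, 5, 2, 3, 4, 1, 2, 3, 7, 6, 5, 4, 3, 2, 1])]

/-- Their action on the base. -/
def movePerm2 : List (List ℕ) :=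
  [[0, 1, 17, 9, 2, 14, 5, 21, 7, 13, 15, 11, 10, 3, 6, 12, 20, 4, 18, 16, 19, 8], [0, 1, 7, 6, 3, 8,
  4, 13, 17, 21, 15, 20, 10, 2, 9, 12, 11, 5, 18, 19, 16, 14], [0, 1, 2, 3, 4, 5, 6, 7, 8, 9, 10, 11,
  12, 13, 14, 15, 16, 17, 18, 19, 20, 21], [0, 1, 3, 2, 5, 4, 9, 17, 14, 6, 10, 20, 12, 21, 8, 15, 19,
  7, 18, 16, 11, 13], [0, 1, 13, 4, 6, 17, 3, 2, 5, 14, 12, 16, 15, 7, 21, 10, 20, 8, 18, 19, 11, 9],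
  [0, 1, 5, 21, 7, 9, 8, 14, 13, 2, 12, 20, 15, 6, 4, 10, 16, 3, 18, 11, 19, 17], [0, 1, 6, 7, 8, 3,
  21, 5, 9, 4, 15, 16, 10, 14, 17, 12, 19, 13, 18, 11, 20, 2], [0, 1, 21, 5, 9, 7, 2, 3, 4, 8, 12, 19,
  15, 17, 13, 10, 11, 14, 18, 16, 20, 6], [0, 1, 8, 3, 10, 6, 5, 12, 2, 9, 4, 11, 7, 13, 18, 16, 15,
  20, 14, 21, 17, 19], [0, 1, 5, 6, 11, 18, 17, 13, 15, 2, 4, 21, 14, 20, 3, 7, 9, 12, 16, 10, 8, 19],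
  [0, 1, 5, 3, 12, 2, 8, 10, 6, 9, 7, 11, 4, 13, 15, 14, 18, 21, 16, 20, 19, 17], [0, 1, 8, 14, 13, 21,
  17, 9, 2, 7, 10, 16, 12, 4, 3, 15, 11, 6, 18, 20, 19, 5], [0, 1, 9, 17, 14, 2, 13, 4, 6, 5, 15, 19,
  10, 8, 7, 12, 16, 21, 18, 20, 11, 3], [0, 1, 20, 14, 15, 19, 6, 18, 5, 7, 11, 16, 3, 4, 12, 13, 10,
  17, 9, 8, 21, 2], [0, 1, 9, 19, 16, 6, 13, 7, 2, 8, 18, 17, 12, 5, 4, 10, 14, 20, 15, 21, 11, 3], [0,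
  1, 4, 13, 17, 6, 14, 8, 21, 3, 12, 11, 15, 9, 5, 10, 19, 2, 18, 20, 16, 7], [0, 1, 9, 20, 18, 8, 13,
  10, 5, 6, 16, 21, 4, 2, 12, 7, 15, 19, 14, 17, 11, 3], [0, 1, 2, 18, 19, 7, 6, 5, 14, 15, 11, 10, 13,
  12, 8, 9, 17, 16, 3, 4, 20, 21], [0, 1, 9, 18, 20, 4, 13, 2, 7, 12, 19, 15, 8, 10, 6, 5, 21, 16, 17,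
  14, 11, 3], [0, 1, 14, 8, 21, 13, 7, 6, 3, 17, 10, 19, 12, 5, 2, 15, 20, 9, 18, 11, 16, 4]]

/-- Elements of the base stabiliser moving one base point. -/
def moveTab3 : List (ℕ × List ℕ) :=
  [(40, [1, 2, 3, 4, 7, 3, 2, 1, 8, 7, 3, 2, 4, 3, 5, 4, 7, 8, 3, 7, 2, 3, 4, 1, 2, 3, 7, 6, 7, 3, 4,
  5, 8, 7, 3, 2, 1, 4, 3, 2, 7, 3, 4, 5, 6, 0, 1, 2, 3, 7, 4, 5, 3, 4, 2, 3, 7, 8, 1, 2, 3, 7, 6, 5, 4,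
  3, 2, 1, 5, 8, 3, 1, 2, 3, 4, 5, 6, 7, 3, 2, 1, 4, 3, 2, 5, 8, 7, 3, 2, 1, 0, 4, 3, 2, 1, 5, 4, 3, 7,
  3, 2, 4, 3, 7, 4, 5, 1, 2, 3, 4, 0, 1, 2, 3, 7, 8, 4, 5, 2, 3, 4, 1, 2, 3, 7, 6, 5, 4, 3, 2, 1, 3, 1,
  2, 3, 4, 7, 3, 2, 1, 8, 7, 3, 2, 4, 3, 5, 4, 7, 8, 3, 7, 2, 3, 4, 1, 2, 3, 7, 6, 7, 3, 2, 1, 4, 3, 2,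
  5, 4, 3, 8, 7, 3, 2, 1, 4, 3, 2, 7, 3, 4, 5, 6, 0, 1, 2, 3, 7, 4, 5, 3, 4, 2, 3, 7, 8, 3, 7, 4, 5, 3,
  4, 1, 2, 3, 7, 6, 5, 4, 3, 2, 1, 3, 1, 0, 2, 3, 4, 5, 6, 7, 3, 2, 4, 3, 5, 4, 7, 3, 8, 7, 3, 2, 3, 4,
  1, 2, 3, 7, 8, 5, 4, 3, 7, 6, 5, 4, 3, 2, 0, 1, 5]), (43, [5, 1, 2, 3, 4, 5, 6, 7, 3, 2, 1, 8, 7, 3,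
  2, 4, 3, 5, 4, 7, 3, 2, 1, 0, 6, 5, 4, 3, 7, 2, 3, 4, 1, 2, 3, 7, 8, 5, 4, 3, 7, 6, 7, 3, 2, 1, 4, 3,
  2, 7, 3, 8, 7, 4, 5, 3, 4, 2, 3, 7, 8, 1, 2, 3, 7, 4, 3, 2, 1, 8, 3, 1, 2, 3, 4, 5, 6, 7, 3, 2, 1, 4,
  3, 2, 5, 8, 7, 3, 2, 1, 0, 4, 3, 2, 1, 5, 4, 3, 7, 3, 2, 4, 3, 7, 4, 5, 1, 2, 3, 4, 0, 1, 2, 3, 7, 8,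
  4, 5, 2, 3, 4, 1, 2, 3, 7, 6, 5, 4, 3, 2, 1, 3, 1, 2, 3, 4, 5, 6, 7, 3, 2, 1, 4, 3, 2, 5, 4, 3, 8, 7,
  3, 2, 1, 4, 3, 2, 5, 4, 6, 5, 3, 4, 0, 1, 2, 3, 7, 8, 3, 4, 5, 2, 3, 4, 1, 2, 3, 7, 6, 5, 4, 3, 2, 1,
  3, 1, 0, 2, 1, 3, 4, 5, 6, 7, 3, 4, 5, 8, 7, 3, 2, 4, 3, 7, 8, 1, 2, 3, 7, 4, 5, 3, 4, 2, 3, 7, 6, 5,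
  4, 3, 2, 0, 2, 3, 4, 7, 3, 2, 1, 8, 7, 3, 2, 4, 3, 7, 8, 5, 4, 3, 7, 2, 3, 4, 1, 2, 3, 7, 5, 4, 3, 2,
  1, 8]), (59, []), (154, [5, 3, 1, 0, 2, 3, 4, 5, 6, 7, 3, 4, 5, 8, 7, 3, 2, 1, 4, 3, 2, 3, 7, 8, 3,
  7, 4, 5, 3, 4, 2, 3, 7, 6, 5, 4, 3, 2, 0, 1, 3, 1, 2, 3, 4, 5, 7, 3, 2, 1, 4, 3, 2, 7, 3, 4, 5, 8, 7,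
  3, 4, 2, 3, 7, 8, 1, 2, 3, 7, 4, 3, 2, 0, 2, 3, 4, 5, 6, 7, 3, 2, 4, 3, 5, 4, 8, 7, 3, 2, 1, 4, 3, 5,
  7, 6, 4, 5, 3, 4, 2, 3, 7, 8, 4, 5, 3, 4, 2, 3, 7, 6, 5, 4, 3, 2, 0, 1, 3, 8, 1, 2, 3, 4, 5, 6, 7, 3,
  2, 1, 4, 3, 2, 5, 8, 7, 3, 2, 1, 4, 3, 2, 5, 7, 3, 4, 8, 7, 3, 2, 1, 0, 2, 4, 2, 3, 7, 8, 5, 4, 1, 2,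
  3, 7, 4, 5, 2, 3, 4, 1, 2, 3, 7, 8, 5, 4, 1, 2, 3, 7, 6, 5, 4, 3, 2, 1, 5]), (172, [1, 2, 3, 4, 5, 6,
  7, 3, 2, 1, 8, 7, 3, 2, 4, 3, 5, 4, 7, 3, 2, 1, 0, 6, 5, 4, 3, 7, 2, 3, 4, 1, 2, 3, 7, 8, 5, 4, 3, 7,
  6, 7, 3, 2, 1, 4, 3, 2, 7, 3, 8, 7, 4, 5, 3, 4, 2, 3, 7, 8, 1, 2, 3, 7, 4, 3, 2, 1, 8, 3, 1, 2, 3, 4,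
  5, 6, 7, 3, 2, 1, 4, 3, 2, 5, 8, 7, 3, 2, 1, 0, 4, 3, 2, 1, 5, 4, 3, 7, 3, 2, 4, 3, 7, 4, 5, 1, 2, 3,
  4, 0, 1, 2, 3, 7, 8, 4, 5, 2, 3, 4, 1, 2, 3, 7, 6, 5, 4, 3, 2, 1, 3, 1, 2, 3, 4, 5, 6, 7, 3, 2, 1, 4,
  3, 2, 5, 8, 7, 3, 2, 1, 4, 3, 2, 5, 6, 7, 3, 4, 5, 8, 7, 3, 2, 0, 1, 2, 3, 7, 8, 4, 3, 7, 5, 2, 3, 4,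
  1, 2, 3, 7, 8, 5, 2, 3, 4, 1, 2, 3, 7, 6, 5, 4, 3, 2, 1, 3, 1, 2, 3, 4, 5, 7, 3, 2, 1, 4, 3, 2, 7, 3,
  4, 5, 8, 7, 3, 4, 2, 3, 7, 8, 1, 2, 3, 7, 5, 6, 7, 3, 2, 1, 4, 3, 5, 4, 8, 7, 3, 2, 1, 4, 3, 2, 5, 4,
  3, 7, 3, 2, 8, 7, 3, 4, 2, 3, 7, 8, 4, 2, 3, 7, 4, 5, 2, 3, 4, 1, 2, 3, 7, 8, 5, 2, 3, 4, 1, 2, 3, 7,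
  6, 5, 4, 3, 2, 1, 3, 8]), (424, [5, 1, 2, 3, 4, 5, 6, 7, 3, 4, 5, 8, 7, 3, 2, 1, 4, 3, 2, 7, 3, 4, 5,
  6, 0, 1, 2, 3, 7, 4, 5, 3, 4, 2, 3, 7, 8, 4, 3, 5, 4, 7, 3, 8, 7, 3, 2, 4, 3, 5, 4, 6, 5, 1, 2, 3, 4,
  0, 1, 2, 3, 7, 8, 3, 7, 5, 2, 3, 4, 1, 2, 3, 7, 6, 5, 4, 3, 2, 1, 8, 3, 1, 2, 3, 4, 5, 6, 7, 3, 2, 1,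
  4, 3, 2, 5, 8, 7, 3, 2, 1, 0, 4, 3, 2, 1, 5, 4, 3, 7, 3, 2, 4, 3, 7, 4, 5, 1, 2, 3, 4, 0, 1, 2, 3, 7,
  8, 4, 5, 2, 3, 4, 1, 2, 3, 7, 6, 5, 4, 3, 2, 1, 3, 8, 5]), (427, [5, 3, 1, 2, 3, 4, 5, 6, 7, 3, 2, 1,
  4, 3, 2, 5, 8, 7, 3, 2, 1, 0, 4, 3, 2, 1, 5, 4, 3, 7, 3, 2, 4, 3, 7, 4, 5, 1, 2, 3, 4, 0, 1, 2, 3, 7,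
  8, 4, 5, 2, 3, 4, 1, 2, 3, 7, 6, 5, 4, 3, 2, 1, 3, 1, 2, 3, 4, 5, 6, 7, 3, 2, 1, 8, 7, 3, 2, 4, 3, 5,
  4, 7, 3, 2, 1, 0, 6, 5, 4, 3, 7, 2, 3, 4, 1, 2, 3, 7, 8, 5, 4, 3, 7, 6, 7, 3, 2, 1, 4, 3, 2, 7, 3, 8,
  7, 4, 5, 3, 4, 2, 3, 7, 8, 1, 2, 3, 7, 5, 6, 7, 3, 4, 5, 8, 7, 3, 2, 1, 4, 3, 2, 7, 3, 4, 5, 6, 0, 1,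
  2, 3, 7, 4, 5, 3, 4, 2, 3, 7, 8, 1, 2, 3, 7, 6, 5, 4, 3, 2, 1, 3, 1, 2, 3, 4, 5, 6, 7, 3, 2, 4, 3, 5,
  7, 8, 7, 3, 2, 4, 3, 5, 4, 7, 6, 5, 3, 4, 2, 3, 7, 8, 7, 4, 5, 3, 4, 2, 3, 7, 6, 5, 4, 3, 2, 1, 3, 1,
  2, 3, 4, 5, 7, 3, 2, 1, 4, 3, 2, 7, 8, 7, 3, 2, 1, 4, 3, 2, 7, 3, 4, 0, 1, 2, 3, 7, 8, 7, 3, 4, 1, 2,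
  3, 7, 6, 7, 3, 2, 1, 4, 5, 8, 7, 3, 2, 1, 4, 3, 2, 5, 4, 7, 3, 2, 1, 4, 5, 8, 7, 3, 4, 2, 3, 7, 8, 5,
  4, 3, 7, 6, 5, 2, 3, 4, 1, 2, 3, 7, 8, 5, 2, 3, 4, 1, 2, 3, 7, 6, 5, 4, 3, 2, 1, 8]), (434, [8, 3, 1,
  2, 3, 4, 5, 7, 3, 2, 1, 4, 3, 2, 7, 3, 4, 5, 8, 7, 3, 4, 2, 3, 7, 8, 1, 2, 3, 7, 5, 6, 7, 3, 2, 1, 4,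
  3, 5, 4, 8, 7, 3, 2, 1, 4, 3, 2, 5, 4, 3, 7, 3, 2, 8, 7, 3, 4, 2, 3, 7, 8, 4, 2, 3, 7, 4, 5, 2, 3, 4,
  1, 2, 3, 7, 8, 5, 2, 3, 4, 1, 2, 3, 7, 6, 5, 4, 3, 2, 1, 3, 8, 5, 1, 2, 3, 4, 5, 6, 7, 3, 4, 5, 8, 7,
  3, 2, 1, 4, 3, 2, 7, 3, 4, 5, 6, 0, 1, 2, 3, 7, 4, 5, 3, 4, 2, 3, 7, 8, 1, 2, 3, 7, 6, 5, 4, 3, 2, 1,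
  3, 1, 2, 3, 4, 5, 6, 7, 3, 2, 4, 3, 5, 7, 8, 7, 3, 2, 4, 3, 5, 4, 7, 6, 5, 3, 4, 2, 3, 7, 8, 7, 4, 5,
  3, 4, 2, 3, 7, 6, 5, 4, 3, 2, 1, 3, 1, 2, 3, 4, 5, 7, 3, 2, 1, 4, 3, 2, 7, 8, 7, 3, 2, 1, 4, 3, 2, 7,
  3, 4, 0, 1, 2, 3, 7, 8, 7, 3, 4, 1, 2, 3, 7, 6, 7, 3, 2, 1, 4, 5, 8, 7, 3, 2, 1, 4, 3, 2, 5, 4, 7, 3,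
  2, 1, 4, 5, 8, 7, 3, 4, 2, 3, 7, 8, 5, 4, 3, 7, 6, 5, 2, 3, 4, 1, 2, 3, 7, 8, 5, 2, 3, 4, 1, 2, 3, 7,
  6, 5, 4, 3, 2, 1, 8]), (472, [5, 3, 1, 2, 3, 4, 5, 6, 7, 3, 2, 1, 4, 3, 2, 5, 8, 7, 3, 2, 1, 0, 4, 3,
  2, 1, 5, 4, 3, 7, 3, 2, 4, 3, 7, 4, 5, 1, 2, 3, 4, 0, 1, 2, 3, 7, 8, 4, 5, 2, 3, 4, 1, 2, 3, 7, 6, 5,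
  4, 3, 2, 1, 3, 1, 2, 3, 4, 5, 6, 7, 3, 2, 1, 8, 7, 3, 2, 4, 3, 5, 4, 7, 3, 2, 1, 0, 6, 5, 4, 3, 7, 2,
  3, 4, 1, 2, 3, 7, 8, 5, 4, 3, 7, 6, 7, 3, 2, 1, 4, 3, 2, 7, 3, 8, 7, 4, 5, 3, 4, 2, 3, 7, 8, 1, 2, 3,
  7, 4, 3, 2, 1, 5, 8, 3, 1, 2, 3, 4, 5, 7, 3, 2, 1, 4, 3, 2, 7, 3, 4, 5, 8, 7, 3, 4, 2, 3, 7, 8, 1, 2,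
  3, 7, 5, 6, 7, 3, 2, 1, 4, 3, 5, 4, 8, 7, 3, 2, 1, 4, 3, 2, 5, 4, 3, 7, 3, 2, 8, 7, 3, 4, 2, 3, 7, 8,
  4, 2, 3, 7, 4, 5, 2, 3, 4, 1, 2, 3, 7, 8, 5, 2, 3, 4, 1, 2, 3, 7, 6, 5, 4, 3, 2, 1, 3, 8]), (637, [1,
  2, 3, 4, 7, 3, 2, 1, 8, 7, 3, 2, 4, 3, 5, 4, 7, 8, 3, 7, 2, 3, 4, 1, 2, 3, 7, 6, 7, 3, 4, 5, 8, 7, 3,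
  2, 1, 4, 3, 2, 7, 3, 4, 5, 6, 0, 1, 2, 3, 7, 4, 5, 3, 4, 2, 3, 7, 8, 1, 2, 3, 7, 6, 5, 4, 3, 2, 1, 5,
  3, 1, 2, 3, 4, 5, 6, 7, 3, 2, 1, 4, 3, 2, 5, 8, 7, 3, 2, 1, 0, 4, 3, 2, 1, 5, 4, 3, 7, 3, 2, 4, 3, 7,
  4, 5, 1, 2, 3, 4, 0, 1, 2, 3, 7, 8, 4, 5, 2, 3, 4, 1, 2, 3, 7, 6, 5, 4, 3, 2, 1, 3, 5, 8, 3, 1, 2, 3,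
  4, 5, 6, 7, 3, 2, 1, 4, 3, 2, 5, 8, 7, 3, 2, 1, 0, 4, 3, 2, 1, 5, 4, 3, 7, 3, 2, 4, 3, 7, 4, 5, 1, 2,
  3, 4, 0, 1, 2, 3, 7, 8, 4, 5, 2, 3, 4, 1, 2, 3, 7, 6, 5, 4, 3, 2, 1, 3, 1, 2, 3, 4, 5, 6, 7, 3, 2, 1,
  4, 3, 2, 5, 8, 7, 3, 2, 1, 4, 3, 2, 5, 6, 7, 3, 4, 5, 8, 7, 3, 2, 0, 1, 2, 3, 7, 8, 4, 3, 7, 5, 2, 3,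
  4, 1, 2, 3, 7, 8, 5, 2, 3, 4, 1, 2, 3, 7, 6, 5, 4, 3, 2, 1, 5]), (1710, [8, 3, 1, 2, 3, 4, 5, 7, 3,
  2, 1, 4, 3, 2, 7, 3, 4, 5, 8, 7, 3, 4, 2, 3, 7, 8, 1, 2, 3, 7, 5, 6, 7, 3, 2, 1, 4, 3, 5, 4, 8, 7, 3,
  2, 1, 4, 3, 2, 5, 4, 3, 7, 3, 2, 8, 7, 3, 4, 2, 3, 7, 8, 4, 2, 3, 7, 4, 5, 2, 3, 4, 1, 2, 3, 7, 8, 5,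
  2, 3, 4, 1, 2, 3, 7, 6, 5, 4, 3, 2, 1, 3, 8, 5, 3, 1, 2, 3, 4, 5, 6, 7, 3, 2, 1, 4, 3, 2, 5, 8, 7, 3,
  2, 1, 0, 4, 3, 2, 1, 5, 4, 3, 7, 3, 2, 4, 3, 7, 4, 5, 1, 2, 3, 4, 0, 1, 2, 3, 7, 8, 4, 5, 2, 3, 4, 1,
  2, 3, 7, 6, 5, 4, 3, 2, 1, 3, 1, 2, 3, 4, 5, 6, 7, 3, 2, 1, 8, 7, 3, 2, 4, 3, 5, 4, 7, 3, 2, 1, 0, 6,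
  5, 4, 3, 7, 2, 3, 4, 1, 2, 3, 7, 8, 5, 4, 3, 7, 6, 7, 3, 2, 1, 4, 3, 2, 7, 3, 8, 7, 4, 5, 3, 4, 2, 3,
  7, 8, 1, 2, 3, 7, 4, 3, 2, 1, 5]), (1779, [5, 3, 1, 2, 3, 4, 5, 6, 7, 3, 2, 1, 4, 3, 5, 4, 7, 3, 8,
  7, 3, 2, 4, 3, 5, 4, 7, 3, 2, 1, 0, 6, 5, 4, 3, 7, 2, 3, 4, 1, 2, 3, 7, 8, 3, 4, 5, 2, 3, 4, 1, 2, 3,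
  7, 6, 5, 4, 3, 2, 1, 3, 1, 0, 2, 3, 4, 5, 7, 3, 2, 4, 3, 8, 7, 3, 2, 1, 4, 3, 5, 4, 2, 3, 7, 8, 7, 3,
  4, 2, 3, 7, 5, 4, 3, 2, 0, 1, 3, 1, 2, 3, 4, 5, 6, 7, 3, 2, 1, 4, 3, 2, 5, 4, 3, 8, 7, 3, 2, 1, 4, 3,
  2, 7, 3, 4, 5, 6, 0, 1, 2, 3, 7, 4, 5, 3, 4, 2, 3, 7, 8, 3, 7, 4, 5, 3, 4, 1, 2, 3, 7, 6, 5, 4, 3, 2,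
  1, 3, 5]), (2609, [3, 1, 2, 3, 4, 5, 6, 7, 3, 2, 1, 4, 3, 5, 4, 7, 8, 7, 3, 2, 1, 4, 3, 2, 5, 4, 3,
  7, 3, 2, 4, 3, 7, 5, 6, 4, 5, 2, 3, 4, 1, 2, 3, 7, 8, 5, 2, 3, 4, 1, 2, 3, 7, 6, 5, 4, 3, 2, 1, 3, 1,
  0, 2, 3, 4, 5, 6, 7, 3, 4, 5, 8, 7, 3, 2, 1, 4, 3, 2, 3, 7, 8, 3, 7, 4, 5, 3, 4, 2, 3, 7, 6, 5, 4, 3,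
  2, 0, 1, 3, 1, 2, 3, 4, 5, 6, 7, 3, 2, 1, 4, 3, 2, 5, 8, 7, 3, 2, 1, 4, 3, 2, 5, 4, 6, 5, 7, 3, 4, 2,
  3, 7, 3, 4, 5, 2, 3, 4, 1, 2, 3, 7, 8, 7, 4, 5, 3, 4, 1, 2, 3, 7, 6, 5, 4, 3, 2, 1, 3, 1, 2, 3, 4, 5,
  6, 7, 3, 2, 1, 4, 3, 2, 5, 7, 3, 8, 7, 3, 2, 1, 0, 4, 3, 2, 1, 5, 6, 4, 5, 3, 4, 2, 3, 7, 8, 3, 7, 4,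
  5, 2, 5, 4, 3, 8, 7, 3, 2, 1, 4, 3, 2, 5, 4, 6, 5, 3, 4, 0, 1, 2, 3, 7, 8, 3, 4, 8, 7, 3, 2, 1, 0, 4,
  3, 2, 5, 7, 3, 4, 8, 7, 3, 2, 1, 4, 3, 7, 8, 2, 3, 7, 4, 5, 3, 4, 1, 2, 3, 7, 8, 7, 4, 5, 2, 3, 4, 1,
  2, 3, 7, 6, 5, 4, 3, 2, 1]), (2692, [8, 3, 1, 2, 3, 4, 5, 7, 3, 2, 1, 4, 3, 2, 7, 3, 4, 5, 8, 7, 3,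
  4, 2, 3, 7, 8, 1, 2, 3, 7, 5, 6, 7, 3, 2, 1, 4, 3, 2, 5, 8, 7, 3, 2, 1, 0, 4, 3, 2, 1, 5, 4, 3, 7, 3,
  2, 4, 3, 7, 4, 5, 1, 2, 3, 4, 0, 1, 2, 3, 7, 8, 4, 5, 2, 3, 4, 1, 2, 3, 7, 6, 5, 4, 3, 2, 1, 3, 1, 0,
  2, 3, 4, 5, 6, 7, 3, 2, 4, 3, 5, 4, 7, 3, 2, 1, 8, 7, 3, 4, 2, 3, 7, 8, 5, 4, 3, 7, 6, 5, 4, 3, 1, 2,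
  0, 1, 3, 1, 2, 3, 4, 5, 6, 7, 3, 2, 1, 4, 3, 2, 5, 8, 7, 3, 2, 1, 0, 4, 3, 2, 1, 5, 4, 7, 3, 2, 8, 7,
  3, 4, 3, 7, 8, 5, 4, 3, 7, 3, 4, 5, 2, 3, 4, 1, 2, 3, 7, 8, 4, 5, 2, 3, 4, 1, 2, 3, 7, 6, 5, 4, 3, 2,
  1, 3, 8, 5, 8, 3, 1, 2, 3, 4, 5, 7, 3, 2, 1, 4, 3, 2, 7, 3, 4, 5, 8, 7, 3, 4, 2, 3, 7, 8, 1, 2, 3, 7,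
  5, 6, 7, 3, 2, 1, 4, 3, 5, 4, 8, 7, 3, 2, 1, 4, 3, 2, 5, 4, 3, 7, 3, 2, 8, 7, 3, 4, 2, 3, 7, 8, 4, 2,
  3, 7, 4, 5, 2, 3, 4, 1, 2, 3, 7, 8, 5, 2, 3, 4, 1, 2, 3, 7, 6, 5, 4, 3, 2, 1, 3, 8]), (3399, [1, 2,
  3, 4, 5, 6, 7, 3, 2, 1, 4, 3, 2, 5, 7, 3, 8, 7, 3, 2, 1, 4, 3, 2, 7, 3, 4, 5, 0, 1, 2, 3, 7, 6, 4, 5,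
  3, 4, 2, 3, 7, 8, 3, 4, 5, 2, 3, 4, 1, 2, 3, 7, 6, 5, 4, 3, 2, 1, 3, 1, 2, 3, 4, 5, 6, 7, 3, 2, 1, 4,
  3, 5, 4, 7, 8, 7, 3, 2, 1, 4, 3, 2, 5, 4, 3, 7, 3, 2, 4, 3, 7, 5, 6, 4, 5, 2, 3, 4, 1, 2, 3, 7, 8, 5,
  2, 3, 4, 1, 2, 3, 7, 6, 5, 4, 3, 2, 1, 3, 1, 2, 3, 4, 5, 6, 7, 3, 2, 4, 3, 5, 4, 7, 8, 7, 3, 2, 4, 3,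
  5, 6, 7, 4, 5, 3, 4, 2, 3, 7, 8, 7, 5, 3, 4, 1, 4, 3, 2, 5, 7, 3, 8, 7, 3, 2, 1, 4, 3, 2, 7, 3, 4, 5,
  0, 1, 2, 3, 7, 6, 4, 5, 3, 4, 2, 3, 7, 8, 3, 4, 5, 2, 3, 4, 1, 2, 3, 7, 6, 5, 4, 3, 2, 1, 3, 1, 2, 3,
  4, 5, 6, 7, 3, 2, 1, 4, 3, 5, 4, 7, 8, 7, 3, 2, 1, 4, 3, 2, 5, 4, 3, 7, 3, 2, 4, 3, 7, 5, 6, 4, 5, 2,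
  3, 4, 1, 2, 3, 7, 8, 5, 2, 3, 4, 1, 2, 3, 7, 6, 5, 4, 3, 2, 1, 3, 1, 2, 3, 4, 5, 6, 7, 3, 2, 4, 3, 5,
  4, 7, 8, 7, 3, 2, 4, 3, 5, 6, 7, 4, 5, 3, 4, 2, 3, 7, 8, 7, 5, 3, 4, 2, 3, 7, 6, 5, 4, 3, 2, 1, 5]),
  (3400, [5, 3, 1, 2, 3, 4, 5, 6, 7, 3, 2, 1, 4, 3, 2, 5, 8, 7, 3, 2, 1, 0, 4, 3, 2, 1, 5, 4, 3, 7, 3,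
  2, 4, 3, 7, 4, 5, 1, 2, 3, 4, 0, 1, 2, 3, 7, 8, 4, 5, 2, 3, 4, 1, 2, 3, 7, 6, 5, 4, 3, 2, 1, 3, 5, 1,
  2, 3, 4, 5, 6, 7, 3, 2, 1, 4, 5, 8, 7, 3, 2, 1, 4, 3, 2, 5, 4, 7, 3, 2, 1, 4, 5, 8, 7, 3, 2, 4, 3, 7,
  8, 5, 4, 3, 7, 6, 5, 2, 3, 4, 1, 2, 3, 7, 8, 5, 2, 5, 4, 8, 7, 3, 2, 1, 0, 4, 3, 2, 1, 5, 4, 7, 3, 2,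
  4, 3, 7, 3, 4, 5, 2, 3, 4, 1, 2, 3, 7, 8, 7, 5, 2, 3, 4, 1, 2, 3, 7, 6, 5, 4, 3, 2, 1, 3, 1, 2, 3, 4,
  5, 6, 7, 3, 2, 1, 4, 3, 2, 5, 8, 7, 3, 2, 1, 0, 4, 3, 2, 1, 5, 4, 7, 3, 2, 8, 7, 3, 4, 3, 7, 8, 5, 4,
  3, 7, 3, 4, 5, 2, 3, 4, 1, 2, 3, 7, 8, 4, 5, 2, 3, 4, 1, 2, 3, 7, 6, 5, 4, 3, 2, 1, 3, 1, 0, 2, 3, 4,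
  5, 6, 7, 3, 2, 4, 3, 5, 4, 7, 3, 8, 7, 3, 2, 3, 4, 1, 2, 3, 7, 8, 5, 4, 3, 7, 6, 5, 4, 3, 2, 0, 1])]

/-- Their action on the base. -/
def movePerm3 : List (List ℕ) :=
  [[0, 1, 3, 5, 4, 2, 11, 14, 6, 17, 18, 8, 12, 19, 16, 10, 7, 21, 15, 20, 13, 9], [0, 1, 5, 2, 4, 3,
  8, 16, 11, 21, 15, 6, 12, 20, 7, 18, 14, 9, 10, 13, 19, 17], [0, 1, 2, 3, 4, 5, 6, 7, 8, 9, 10, 11,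
  12, 13, 14, 15, 16, 17, 18, 19, 20, 21], [0, 1, 13, 17, 4, 6, 9, 14, 2, 5, 10, 19, 15, 8, 16, 18, 7,
  20, 12, 21, 3, 11], [0, 1, 20, 9, 4, 8, 21, 7, 5, 3, 15, 13, 18, 11, 14, 10, 16, 19, 12, 17, 2, 6],
  [0, 1, 8, 20, 4, 9, 5, 16, 13, 6, 10, 21, 18, 2, 7, 12, 14, 3, 15, 11, 17, 19], [0, 1, 21, 19, 4, 10,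
  6, 16, 12, 5, 9, 8, 11, 17, 7, 13, 14, 15, 3, 18, 2, 20], [0, 1, 19, 21, 4, 11, 17, 16, 3, 2, 18, 20,
  10, 6, 7, 15, 14, 13, 12, 9, 5, 8], [0, 1, 3, 2, 4, 12, 13, 7, 18, 20, 19, 21, 5, 6, 14, 17, 16, 15,
  8, 10, 9, 11], [0, 1, 6, 15, 4, 13, 20, 14, 3, 12, 19, 10, 17, 18, 16, 8, 7, 9, 5, 11, 2, 21], [0, 1,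
  13, 6, 4, 15, 3, 7, 10, 21, 8, 20, 17, 2, 14, 5, 16, 12, 19, 18, 11, 9], [0, 1, 6, 13, 4, 17, 2, 7,
  19, 11, 18, 9, 15, 3, 14, 12, 16, 5, 10, 8, 21, 20], [0, 1, 8, 9, 4, 18, 17, 14, 10, 11, 2, 3, 20,
  13, 16, 6, 7, 15, 21, 12, 19, 5], [0, 1, 11, 10, 4, 19, 13, 16, 5, 12, 20, 18, 21, 15, 7, 6, 14, 17,
  2, 8, 3, 9], [0, 1, 18, 9, 4, 20, 12, 16, 6, 13, 19, 11, 8, 3, 7, 5, 14, 2, 17, 21, 15, 10], [0, 1,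
  10, 11, 4, 21, 15, 16, 2, 3, 8, 9, 19, 13, 7, 17, 14, 6, 5, 20, 12, 18]]

/-- Elements of the base stabiliser moving one base point. -/
def moveTab4 : List (ℕ × List ℕ) :=
  [(40, []), (43, [3, 1, 2, 3, 4, 5, 7, 3, 2, 1, 4, 3, 2, 7, 3, 4, 5, 8, 7, 3, 4, 2, 3, 7, 8, 1, 2, 3,
  7, 4, 3, 2, 0, 2, 3, 4, 5, 6, 7, 3, 2, 4, 3, 5, 4, 7, 3, 2, 1, 8, 7, 3, 4, 2, 3, 7, 8, 5, 4, 3, 7, 6,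
  5, 4, 3, 1, 2, 0, 1, 3, 1, 2, 3, 4, 5, 7, 3, 2, 1, 4, 3, 2, 7, 8, 7, 3, 2, 1, 4, 3, 2, 7, 3, 4, 0, 1,
  2, 3, 7, 8, 7, 3, 4, 1, 2, 3, 7, 5, 4, 3, 2, 1, 3, 8, 1, 2, 3, 4, 5, 6, 7, 3, 2, 1, 4, 5, 8, 7, 3, 2,
  1, 4, 3, 2, 5, 4, 7, 3, 2, 1, 4, 5, 8, 7, 3, 2, 4, 3, 7, 8, 5, 4, 3, 7, 6, 5, 2, 3, 4, 1, 2, 3, 7, 8,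
  5, 2, 3, 4, 1, 2, 3, 7, 6, 5, 4, 3, 2, 1, 8, 3, 1, 2, 3, 4, 5, 7, 3, 2, 1, 4, 3, 7, 8, 7, 3, 2, 1, 0,
  4, 3, 7, 2, 3, 4, 1, 2, 3, 7, 8, 7, 2, 3, 4, 1, 2, 3, 7, 5, 4, 3, 2, 1, 3, 1, 0, 2, 1, 3, 4, 5, 6, 7,
  3, 4, 5, 8, 7, 3, 2, 4, 3, 7, 8, 1, 2, 3, 7, 4, 5, 3, 4, 2, 3, 7, 6, 5, 4, 3, 2, 0, 2, 3, 4, 7, 3, 2,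
  1, 8, 7, 3, 2, 4, 3, 7, 8, 5, 4, 3, 7, 2, 3, 4, 1, 2, 3, 7, 5, 4, 3, 2, 1, 3]), (472, [3, 1, 2, 3, 4,
  5, 7, 3, 2, 1, 4, 3, 2, 7, 3, 4, 5, 8, 7, 3, 4, 2, 3, 7, 8, 1, 2, 3, 7, 4, 3, 2, 0, 2, 3, 4, 5, 6, 7,
  3, 2, 4, 3, 5, 4, 7, 3, 2, 1, 8, 7, 3, 4, 2, 3, 7, 8, 5, 4, 3, 7, 6, 5, 4, 3, 1, 2, 0, 1, 3, 1, 2, 3,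
  4, 5, 7, 3, 2, 1, 4, 3, 2, 7, 8, 7, 3, 2, 1, 4, 3, 2, 7, 3, 4, 0, 1, 2, 3, 7, 8, 7, 3, 4, 1, 2, 3, 7,
  5, 4, 3, 2, 1, 3, 5, 8, 1, 2, 3, 4, 5, 6, 7, 3, 2, 1, 4, 3, 2, 5, 8, 7, 3, 2, 1, 4, 3, 2, 5, 6, 7, 3,
  4, 5, 8, 7, 3, 4, 2, 3, 7, 8, 5, 4, 1, 2, 3, 7, 4, 5, 2, 3, 4, 1, 2, 3, 7, 8, 5, 4, 1, 2, 3, 7, 6, 5,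
  4, 3, 2, 1, 3, 1, 2, 3, 4, 5, 7, 3, 2, 1, 4, 3, 7, 8, 7, 3, 2, 1, 0, 4, 3, 7, 2, 3, 4, 1, 2, 3, 7, 8,
  7, 2, 3, 4, 1, 2, 3, 7, 5, 4, 3, 2, 1, 3, 1, 0, 2, 1, 3, 4, 5, 6, 7, 3, 4, 5, 8, 7, 3, 2, 4, 3, 7, 8,
  1, 2, 3, 7, 4, 5, 3, 4, 2, 3, 7, 6, 5, 4, 3, 2, 0, 2, 3, 4, 7, 3, 2, 1, 8, 7, 3, 2, 4, 3, 7, 8, 5, 4,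
  3, 7, 2, 3, 4, 1, 2, 3, 7, 5, 4, 3, 2, 1, 3])]

/-- Their action on the base. -/
def movePerm4 : List (List ℕ) :=
  [[0, 1, 2, 3, 4, 5, 6, 7, 8, 9, 10, 11, 12, 13, 14, 15, 16, 17, 18, 19, 20, 21], [0, 1, 3, 12, 4, 5,
  9, 16, 19, 10, 6, 15, 2, 18, 7, 20, 14, 8, 21, 17, 11, 13], [0, 1, 12, 2, 4, 5, 10, 14, 17, 6, 9, 20,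
  3, 21, 16, 11, 7, 19, 13, 8, 15, 18]]

/-- The involution on the base. -/
def piPerm : List ℕ :=
  [0, 1, 9, 6, 4, 5, 3, 14, 17, 2, 12, 20, 10, 21, 7, 15, 16, 8, 18, 19, 11, 13]

/-- Certificates on the base. -/
def stageCert : List (ℕ × ℕ) :=
  [(0, 0), (54, 2), (102, 102), (103, 103), (104, 104), (109, 109), (117, 99), (125, 98), (126, 101),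
  (131, 110), (133, 97), (137, 108), (139, 100), (142, 96), (150, 3), (198, 13), (241, 241), (246,
  245), (250, 250), (273, 263), (291, 17), (351, 12), (430, 14), (434, 11), (523, 1), (574, 19), (581,
  251), (582, 261), (588, 243), (593, 242), (638, 10), (675, 249), (697, 262), (701, 240), (703, 244),
  (729, 15), (780, 18), (851, 16), (895, 9), (941, 20)]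

/-- Moved members, one from each of three pairs. -/
def pairMove : List ℕ :=
  [40, 43, 155]

/-- The members spanning the representatives. -/
def repMem : List ℕ :=
  [0, 6, 47, 59, 40, 43, 155]

/-- Certificates for the representatives. -/
def repCert : List (ℕ × ℕ × List ℕ) :=
  [(0, 0, []), (1, 1, []), (2, 1, [8, 7, 1, 2, 3, 4, 0, 1, 2, 3, 7, 8, 3, 4, 5, 2, 3, 4, 1, 2, 3, 7, 6,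
  5, 4, 3, 2, 1, 3, 1, 0, 2, 1, 3, 4, 5, 6, 7, 3, 4, 5, 8, 7, 3, 2, 4, 3, 7, 8, 1, 2, 3, 7, 4, 5, 3, 4,
  2, 3, 7, 6, 5, 4, 3, 2, 0, 2, 3, 4, 5, 7, 3, 2, 1, 4, 3, 2, 7, 3, 8, 7, 4, 5, 3, 4, 2, 3, 7, 8, 1, 2,
  3, 7, 4, 3, 2, 0, 2, 3, 4, 5, 7, 3, 2, 4, 3, 7, 8, 7, 3, 2, 4, 5, 3, 4, 1, 2, 3, 7, 8, 3, 4, 2, 3, 7,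
  5, 4, 3, 1, 3, 4, 5, 6, 7, 3, 4, 5, 8, 7, 3, 2, 4, 3, 7, 8, 1, 2, 3, 7, 4, 5, 3, 4, 2, 3, 7, 6, 5, 4,
  3, 2, 0, 1, 3, 1, 0, 2, 1, 3, 4, 5, 6, 7, 3, 4, 5, 8, 7, 3, 2, 4, 3, 7, 8, 1, 2, 3, 7, 4, 5, 3, 4, 2,
  3, 7, 6, 5, 4, 3, 2, 0, 2, 3, 4, 5, 7, 3, 2, 1, 4, 3, 2, 7, 3, 8, 7, 4, 5, 3, 4, 2, 3, 7, 8, 1, 2, 3,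
  7, 5, 7, 3, 2, 1, 4, 3, 2, 7, 3, 8, 7, 4, 5, 3, 4, 2, 3, 7, 8, 1, 2, 3, 7, 4, 3, 2, 1, 3, 1, 0, 2, 1,
  3, 4, 5, 6, 7, 3, 4, 5, 8, 7, 3, 2, 4, 3, 7, 8, 1, 2, 3, 7, 4, 5, 3, 4, 2, 3, 7, 6, 5, 4, 3, 2, 0, 2,
  3, 4, 5, 7, 3, 2, 1, 4, 3, 2, 7, 3, 8, 7, 4, 5, 3, 4, 2, 3, 7, 8, 1, 2, 3, 7, 5, 6, 7, 3, 2, 1, 4, 3,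
  2, 5, 4, 8, 7, 3, 2, 1, 0, 4, 3, 2, 1, 5, 4, 7, 3, 4, 2, 3, 7, 3, 4, 5, 1, 2, 3, 4, 0, 1, 2, 3, 7, 8,
  5, 2, 3, 4, 1, 2, 3, 7, 6, 5, 4, 3, 2, 1, 3, 1, 2, 3, 4, 5, 6, 7, 3, 2, 1, 4, 5, 8, 7, 3, 2, 1, 4, 3,
  2, 5, 4, 7, 3, 2, 1, 4, 5, 8, 7, 3, 4, 0, 1, 2, 3, 7, 8, 4, 3, 7, 5, 2, 3, 4, 1, 2, 3, 7, 8, 5, 2, 3,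
  4, 1, 2, 3, 7, 6, 5, 4, 3, 2, 1, 5, 8, 3, 1, 2, 3, 4, 5, 6, 7, 3, 2, 1, 4, 3, 2, 5, 4, 8, 7, 3, 2, 1,
  0, 4, 3, 2, 1, 5, 4, 7, 3, 4, 2, 3, 7, 3, 4, 5, 1, 2, 3, 4, 0, 1, 2, 3, 7, 8, 5, 2, 3, 4, 1, 2, 3, 7,
  6, 5, 4, 3, 2, 1, 3, 8, 1, 2, 3, 4, 5, 6, 7, 3, 2, 1, 4, 3, 2, 5, 7, 3, 8, 7, 3, 2, 1, 0, 4, 3, 2, 1,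
  5, 6, 4, 5, 3, 4, 2, 3, 7, 8, 3, 7, 4, 5, 3, 4, 8, 7, 3, 2, 4, 3, 5, 4, 7, 3, 2, 1, 0, 6, 5, 4, 3, 7,
  2, 3, 4, 1, 2, 3, 7, 8, 5, 4, 3, 7, 6, 5, 4, 3, 2, 1, 5, 3, 1, 2, 3, 4, 5, 7, 3, 2, 1, 4, 3, 2, 7, 3,
  4, 5, 8, 7, 3, 4, 2, 3, 7, 8, 1, 2, 3, 7, 4, 3, 2, 0, 2, 3, 4, 5, 6, 7, 3, 2, 4, 3, 5, 4, 7, 3, 2, 1,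
  8, 7, 3, 4, 2, 3, 7, 8, 5, 4, 3, 7, 6, 5, 4, 3, 1, 2, 0, 1, 3, 1, 2, 3, 4, 5, 7, 3, 2, 1, 4, 3, 2, 7,
  8, 7, 3, 2, 1, 4, 3, 2, 7, 3, 4, 0, 1, 2, 3, 7, 8, 7, 3, 4, 1, 2, 3, 7, 5, 4, 3, 2, 1, 3, 8, 1, 2, 3,
  4, 5, 6, 7, 3, 2, 1, 4, 3, 2, 5, 8, 7, 3, 2, 1, 4, 3, 2, 5, 6, 7, 3, 4, 5, 8, 7, 3, 4, 2, 3, 7, 8, 5,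
  4, 1, 2, 3, 7, 4, 5, 2, 3, 4, 1, 2, 3, 7, 8, 5, 4, 1, 2, 3, 7, 6, 5, 4, 3, 2, 1, 8, 3, 1, 2, 3, 4, 5,
  7, 3, 2, 1, 4, 3, 7, 8, 7, 3, 2, 1, 0, 4, 3, 7, 2, 3, 4, 1, 2, 3, 7, 8, 7, 2, 3, 4, 1, 2, 3, 7, 5, 4,
  3, 2, 1, 3, 1, 0, 2, 1, 3, 4, 5, 6, 7, 3, 4, 5, 8, 7, 3, 2, 4, 3, 7, 8, 1, 2, 3, 7, 4, 5, 3, 4, 2, 3,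
  7, 6, 5, 4, 3, 2, 0, 2, 3, 4, 7, 3, 2, 1, 8, 7, 3, 2, 4, 3, 7, 8, 5, 4, 3, 7, 2, 3, 4, 1, 2, 3, 7, 5,
  4, 3, 2, 1, 3, 7, 1, 0, 2, 1, 3, 2, 4, 3, 7, 3, 4, 2, 3, 1, 2, 0, 2, 3, 4, 5, 6, 7, 3, 2, 1, 4, 3, 2,
  5, 4, 3, 7, 3, 4, 7, 3, 8, 7, 3, 2, 1, 4, 3, 2, 7, 3, 4, 5, 0, 1, 2, 3, 7, 6, 4, 5, 3, 4, 2, 3, 7, 8,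
  3, 4, 5, 2, 3, 4, 1, 4, 3, 5, 4, 7, 8, 7, 3, 2, 4, 3, 5, 6, 7, 4, 5, 3, 4, 2, 3, 7, 8, 7, 5, 3, 4, 2,
  3, 7, 6, 5, 4, 3, 2, 1, 3, 1, 2, 3, 4, 5, 6, 7, 3, 2, 4, 3, 5, 4, 7, 8, 7, 3, 2, 4, 3, 5, 6, 7, 4, 5,
  3, 4, 2, 3, 7, 8, 7, 5, 3, 4, 2, 3, 7, 6, 5, 4, 3, 2, 1, 3, 1, 2, 3, 4, 5, 6, 7, 3, 2, 1, 4, 3, 2, 5,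
  4, 3, 8, 7, 3, 2, 4, 3, 5, 4, 6, 7, 3, 2, 1, 0, 5, 4, 3, 7, 2, 3, 4, 1, 2, 3, 7, 8, 3, 7, 5, 2, 3, 4,
  1, 2, 3, 7, 6, 5, 4, 3, 2, 1, 5, 2, 0, 3, 7, 4, 3, 1, 2, 0, 2, 3, 4, 5, 6, 7, 3, 2, 1, 4, 3, 2, 5, 4,
  3, 8, 7, 3, 2, 1, 4, 3, 2, 7, 3, 4, 5, 6, 0, 1, 2, 3, 7, 4, 5, 3, 4, 2, 3, 7, 8, 3, 7, 4, 5, 2, 5, 7,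
  3, 8, 7, 3, 2, 1, 0, 4, 3, 2, 1, 5, 6, 4, 5, 3, 4, 2, 3, 7, 8, 3, 7, 4, 5, 3, 4, 8, 7, 3, 2, 4, 3, 5,
  4, 7, 3, 2, 1, 0, 6, 5, 4, 3, 7, 2, 3, 4, 1, 2, 3, 7, 8, 5, 4, 3, 7, 6, 5, 4, 3, 2, 1, 5, 1, 0, 2, 3,
  4, 5, 6, 7, 3, 4, 5, 8, 7, 3, 2, 1, 4, 3, 2, 3, 7, 8, 3, 7, 4, 5, 3, 4, 2, 3, 7, 6, 5, 4, 3, 2, 0, 1,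
  3, 1, 2, 3, 4, 5, 6, 7, 3, 2, 1, 4, 3, 5, 4, 7, 3, 8, 7, 3, 2, 4, 3, 5, 4, 7, 3, 2, 1, 0, 6, 5, 4, 3,
  7, 2, 3, 4, 1, 2, 3, 7, 8, 3, 4, 5, 2, 3, 4, 1, 2, 3, 7, 6, 7, 3, 2, 1, 4, 3, 2, 7, 3, 8, 7, 4, 5, 3,
  4, 2, 3, 7, 8, 1, 2, 3, 7, 4, 3, 2, 1, 3, 1, 2, 3, 4, 5, 6, 7, 3, 2, 1, 4, 3, 2, 5, 4, 8, 7, 3, 2, 1,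
  0, 4, 3, 2, 1, 5, 4, 7, 3, 4, 2, 3, 7, 3, 4, 5, 1, 2, 3, 4, 0, 1, 2, 3, 7, 8, 5, 2, 3, 4, 1, 2, 3, 7,
  6, 5, 4, 3, 2, 1, 3, 8, 5, 1, 2, 3, 4, 5, 6, 7, 3, 2, 1, 8, 7, 3, 2, 4, 3, 5, 4, 7, 3, 2, 1, 0, 6, 5,
  4, 3, 7, 2, 3, 4, 1, 2, 3, 7, 8, 5, 4, 3, 7, 6, 7, 3, 2, 1, 4, 3, 2, 7, 3, 8, 7, 4, 5, 3, 4, 2, 3, 7,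
  8, 1, 2, 3, 7, 4, 3, 2, 1, 3, 1, 2, 3, 4, 5, 7, 3, 2, 1, 4, 3, 2, 7, 3, 4, 5, 8, 7, 3, 4, 2, 3, 7, 8,
  1, 2, 3, 7, 4, 3, 2, 0, 2, 3, 4, 5, 6, 7, 3, 2, 4, 3, 5, 4, 7, 3, 2, 1, 8, 7, 3, 4, 2, 3, 7, 8, 5, 4,
  3, 7, 6, 5, 4, 3, 1, 2, 0, 1, 3, 1, 2, 3, 4, 5, 7, 3, 2, 1, 4, 3, 2, 7, 8, 7, 3, 2, 1, 4, 3, 2, 7, 3,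
  4, 0, 1, 2, 3, 7, 8, 7, 3, 4, 1, 2, 3, 7, 5, 4, 3, 2, 1, 3, 8, 1, 2, 3, 4, 5, 6, 7, 3, 2, 1, 4, 3, 2,
  5, 8, 7, 3, 2, 1, 4, 3, 2, 5, 6, 7, 3, 4, 5, 8, 7, 3, 4, 2, 3, 7, 8, 5, 4, 1, 2, 3, 7, 4, 5, 2, 3, 4,
  1, 2, 3, 7, 8, 5, 4, 1, 2, 3, 7, 6, 5, 4, 3, 2, 1, 8, 3, 1, 2, 3, 4, 5, 7, 3, 2, 1, 4, 3, 7, 8, 7, 3,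
  2, 1, 0, 4, 3, 7, 2, 3, 4, 1, 2, 3, 7, 8, 7, 2, 3, 4, 1, 2, 3, 7, 5, 4, 3, 2, 1, 3, 1, 0, 2, 1, 3, 4,
  5, 6, 7, 3, 4, 5, 8, 7, 3, 2, 4, 3, 7, 8, 1, 2, 3, 7, 4, 5, 3, 4, 2, 3, 7, 6, 5, 4, 3, 2, 0, 2, 3, 4,
  7, 3, 2, 1, 8, 7, 3, 2, 4, 3, 7, 8, 5, 4, 3, 7, 2, 3, 4, 1, 2, 3, 7, 5, 4, 3, 2, 1, 3, 1, 2, 3, 4, 5,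
  6, 7, 3, 2, 1, 4, 3, 2, 5, 4, 3, 8, 7, 3, 2, 1, 0, 4, 3, 2, 1, 7, 3, 2, 8, 7, 3, 4, 3, 7, 8, 2, 3, 7,
  1, 2, 3, 4, 0, 1, 2, 3, 7, 8, 3, 4, 5, 2, 3, 4, 1, 2, 3, 7, 6, 5, 4, 3, 2, 0, 2, 1, 3, 2, 4, 3, 7, 3,
  4, 2, 3, 1, 2, 0, 1, 7, 6, 4, 7, 1, 0, 2, 1, 3, 2, 4, 3, 7, 3, 4, 2, 3, 1, 2, 0, 2, 3, 4, 5, 6, 7, 3,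
  2, 1, 4, 3, 2, 5, 4, 3, 7, 3, 4, 7, 3, 8, 7, 3, 2, 1, 4, 3, 2, 7, 3, 4, 5, 0, 1, 2, 3, 7, 6, 4, 5, 3,
  4, 2, 3, 7, 8, 3, 4, 5, 2, 3, 4, 1, 4, 3, 5, 4, 7, 8, 7, 3, 2, 4, 3, 5, 6, 7, 4, 5, 3, 4, 2, 3, 7, 8,
  7, 5, 3, 4, 2, 3, 7, 6, 5, 4, 3, 2, 1, 3, 1, 2, 3, 4, 5, 6, 7, 3, 2, 4, 3, 5, 4, 7, 8, 7, 3, 2, 4, 3,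
  5, 6, 7, 4, 5, 3, 4, 2, 3, 7, 8, 7, 5, 3, 4, 2, 3, 7, 6, 5, 4, 3, 2, 1, 3, 1, 2, 3, 4, 5, 6, 7, 3, 2,
  1, 4, 3, 2, 5, 4, 3, 8, 7, 3, 2, 4, 3, 5, 4, 6, 7, 3, 2, 1, 0, 5, 4, 3, 7, 2, 3, 4, 1, 2, 3, 7, 8, 3,
  7, 5, 2, 3, 4, 1, 2, 3, 7, 6, 5, 4, 3, 2, 1, 5, 2, 0]), (3, 2, []), (4, 1, [3, 7, 4, 3, 1, 2, 0, 2,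
  3, 4, 5, 6, 7, 3, 2, 1, 4, 3, 2, 5, 4, 3, 8, 7, 3, 2, 1, 4, 3, 2, 7, 3, 4, 5, 6, 0, 1, 2, 3, 7, 4, 5,
  3, 4, 2, 3, 7, 8, 3, 7, 4, 5, 2, 5, 7, 3, 8, 7, 3, 2, 1, 0, 4, 3, 2, 1, 5, 6, 4, 5, 3, 4, 2, 3, 7, 8,
  3, 7, 4, 5, 3, 4, 8, 7, 3, 2, 4, 3, 5, 4, 7, 3, 2, 1, 0, 6, 5, 4, 3, 7, 2, 3, 4, 1, 2, 3, 7, 8, 5, 4,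
  3, 7, 6, 5, 4, 3, 2, 1, 5, 1, 0, 2, 3, 4, 5, 6, 7, 3, 4, 5, 8, 7, 3, 2, 1, 4, 3, 2, 3, 7, 8, 3, 7, 4,
  5, 3, 4, 2, 3, 7, 6, 5, 4, 3, 2, 0, 1, 3, 1, 2, 3, 4, 5, 6, 7, 3, 2, 1, 4, 3, 5, 4, 7, 3, 8, 7, 3, 2,
  4, 3, 5, 4, 7, 3, 2, 1, 0, 6, 5, 4, 3, 7, 2, 3, 4, 1, 2, 3, 7, 8, 3, 4, 5, 2, 3, 4, 1, 2, 3, 7, 6, 7,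
  3, 2, 1, 4, 3, 2, 7, 3, 8, 7, 4, 5, 3, 4, 2, 3, 7, 8, 1, 2, 3, 7, 4, 3, 2, 1, 3, 1, 2, 3, 4, 5, 6, 7,
  3, 2, 1, 4, 3, 2, 5, 4, 8, 7, 3, 2, 1, 0, 4, 3, 2, 1, 5, 4, 7, 3, 4, 2, 3, 7, 3, 4, 5, 1, 2, 3, 4, 0,
  1, 2, 3, 7, 8, 5, 2, 3, 4, 1, 2, 3, 7, 6, 5, 4, 3, 2, 1, 3, 8, 5, 1, 2, 3, 4, 5, 6, 7, 3, 2, 1, 8, 7,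
  3, 2, 4, 3, 5, 4, 7, 3, 2, 1, 0, 6, 5, 4, 3, 7, 2, 3, 4, 1, 2, 3, 7, 8, 5, 4, 3, 7, 6, 7, 3, 2, 1, 4,
  3, 2, 7, 3, 8, 7, 4, 5, 3, 4, 2, 3, 7, 8, 1, 2, 3, 7, 4, 3, 2, 1, 3, 1, 2, 3, 4, 5, 7, 3, 2, 1, 4, 3,
  2, 7, 3, 4, 5, 8, 7, 3, 4, 2, 3, 7, 8, 1, 2, 3, 7, 4, 3, 2, 0, 2, 3, 4, 5, 6, 7, 3, 2, 4, 3, 5, 4, 7,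
  3, 2, 1, 8, 7, 3, 4, 2, 3, 7, 8, 5, 4, 3, 7, 6, 5, 4, 3, 1, 2, 0, 1, 3, 1, 2, 3, 4, 5, 7, 3, 2, 1, 4,
  3, 2, 7, 8, 7, 3, 2, 1, 4, 3, 2, 7, 3, 4, 0, 1, 2, 3, 7, 8, 7, 3, 4, 1, 2, 3, 7, 5, 4, 3, 2, 1, 3, 8,
  1, 2, 3, 4, 5, 6, 7, 3, 2, 1, 4, 3, 2, 5, 8, 7, 3, 2, 1, 4, 3, 2, 5, 6, 7, 3, 4, 5, 8, 7, 3, 4, 2, 3,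
  7, 8, 5, 4, 1, 2, 3, 7, 4, 5, 2, 3, 4, 1, 2, 3, 7, 8, 5, 4, 1, 2, 3, 7, 6, 5, 4, 3, 2, 1, 8, 3, 1, 2,
  3, 4, 5, 7, 3, 2, 1, 4, 3, 7, 8, 7, 3, 2, 1, 0, 4, 3, 7, 2, 3, 4, 1, 2, 3, 7, 8, 7, 2, 3, 4, 1, 2, 3,
  7, 5, 4, 3, 2, 1, 3, 1, 0, 2, 1, 3, 4, 5, 6, 7, 3, 4, 5, 8, 7, 3, 2, 4, 3, 7, 8, 1, 2, 3, 7, 4, 5, 3,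
  4, 2, 3, 7, 6, 5, 4, 3, 2, 0, 2, 3, 4, 7, 3, 2, 1, 8, 7, 3, 2, 4, 3, 7, 8, 5, 4, 3, 7, 2, 3, 4, 1, 2,
  3, 7, 5, 4, 3, 2, 1, 3, 1, 2, 3, 4, 5, 6, 7, 3, 2, 1, 4, 3, 2, 5, 4, 3, 8, 7, 3, 2, 1, 0, 4, 3, 2, 1,
  7, 3, 2, 8, 7, 3, 4, 3, 7, 8, 2, 3, 7, 1, 2, 3, 4, 0, 1, 2, 3, 7, 8, 3, 4, 5, 2, 3, 4, 1, 2, 3, 7, 6,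
  5, 4, 3, 2, 0, 2, 1, 3, 2, 4, 3, 7, 3, 4, 2, 3, 1, 2, 0, 1, 7, 6, 4, 7, 1, 0, 2, 1, 3, 2, 4, 3, 7, 3,
  4, 2, 3, 1, 2, 0, 2, 3, 4, 5, 6, 7, 3, 2, 1, 4, 3, 2, 5, 4, 3, 7, 3, 4, 7, 3, 8, 7, 3, 2, 1, 4, 3, 2,
  7, 3, 4, 5, 0, 1, 2, 3, 7, 6, 4, 5, 3, 4, 2, 3, 7, 8, 3, 4, 5, 2, 3, 4, 1, 4, 3, 5, 4, 7, 8, 7, 3, 2,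
  4, 3, 5, 6, 7, 4, 5, 3, 4, 2, 3, 7, 8, 7, 5, 3, 4, 2, 3, 7, 6, 5, 4, 3, 2, 1, 3, 1, 2, 3, 4, 5, 6, 7,
  3, 2, 4, 3, 5, 4, 7, 8, 7, 3, 2, 4, 3, 5, 6, 7, 4, 5, 3, 4, 2, 3, 7, 8, 7, 5, 3, 4, 2, 3, 7, 6, 5, 4,
  3, 2, 1, 3, 1, 2, 3, 4, 5, 6, 7, 3, 2, 1, 4, 3, 2, 5, 4, 3, 8, 7, 3, 2, 4, 3, 5, 4, 6, 7, 3, 2, 1, 0,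
  5, 4, 3, 7, 2, 3, 4, 1, 2, 3, 7, 8, 3, 7, 5, 2, 3, 4, 1, 2, 3, 7, 6, 5, 4, 3, 2, 1, 5, 2, 0]), (5, 2,
  [5, 3, 1, 2, 3, 4, 5, 6, 7, 3, 2, 1, 4, 3, 2, 5, 4, 8, 7, 3, 2, 1, 0, 4, 3, 2, 1, 5, 4, 7, 3, 4, 2,
  3, 7, 3, 4, 5, 1, 2, 3, 4, 0, 1, 2, 3, 7, 8, 5, 2, 3, 4, 1, 2, 3, 7, 6, 5, 4, 3, 2, 1, 3, 8, 1, 2, 3,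
  4, 5, 6, 7, 3, 2, 1, 4, 3, 2, 5, 4, 8, 7, 3, 2, 1, 4, 3, 2, 5, 7, 3, 4, 8, 7, 3, 2, 1, 3, 7, 8, 5, 4,
  3, 7, 6, 5, 2, 3, 4, 0, 1, 2, 3, 7, 8, 5, 2, 3, 4, 1, 2, 3, 7, 6, 5, 4, 3, 2, 1, 8, 5, 8, 3, 1, 2, 3,
  4, 5, 6, 7, 3, 2, 1, 4, 3, 2, 5, 8, 7, 3, 2, 1, 4, 3, 2, 5, 4, 7, 3, 2, 4, 8, 7, 3, 2, 4, 3, 7, 8, 2,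
  3, 7, 3, 4, 5, 2, 3, 4, 1, 2, 3, 7, 8, 4, 5, 3, 4, 1, 2, 3, 7, 6, 5, 7, 3, 2, 1, 8, 7, 3, 2, 4, 3, 7,
  8, 5, 4, 3, 7, 2, 3, 4, 1, 2, 3, 7, 6, 7, 3, 2, 1, 4, 3, 2, 5, 8, 7, 3, 2, 1, 4, 3, 2, 5, 4, 7, 3, 2,
  4, 8, 7, 3, 2, 4, 3, 7, 8, 2, 3, 7, 3, 4, 5, 2, 3, 4, 1, 2, 3, 7, 8, 4, 5, 3, 4, 1, 2, 3, 7, 6, 5, 7,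
  3, 2, 1, 8, 7, 3, 2, 4, 3, 7, 8, 5, 4, 3, 7, 2, 3, 4, 1, 2, 3, 7, 5, 4, 3, 2, 1, 3, 8, 5, 1, 2, 3, 4,
  7, 3, 2, 1, 8, 7, 3, 2, 4, 3, 5, 4, 7, 8, 3, 7, 2, 3, 4, 1, 2, 3, 7, 6, 7, 3, 4, 5, 8, 7, 3, 2, 1, 4,
  3, 2, 7, 3, 4, 5, 6, 0, 1, 2, 3, 7, 4, 5, 3, 4, 2, 3, 7, 8, 1, 2, 3, 7, 6, 5, 4, 3, 2, 1, 3, 1, 2, 3,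
  4, 5, 6, 7, 3, 2, 1, 4, 3, 2, 5, 4, 8, 7, 3, 2, 1, 0, 4, 3, 2, 1, 5, 4, 7, 3, 4, 2, 3, 7, 3, 4, 5, 1,
  2, 3, 4, 0, 1, 2, 3, 7, 8, 5, 2, 3, 4, 1, 2, 3, 7, 6, 5, 4, 3, 2, 1, 3, 5, 3, 7, 4, 3, 1, 2, 0, 2, 3,
  4, 5, 6, 7, 3, 2, 1, 4, 3, 2, 5, 4, 3, 8, 7, 3, 2, 1, 4, 3, 2, 7, 3, 4, 5, 6, 0, 1, 2, 3, 7, 4, 5, 3,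
  4, 2, 3, 7, 8, 3, 7, 4, 5, 2, 5, 7, 3, 8, 7, 3, 2, 1, 0, 4, 3, 2, 1, 5, 6, 4, 5, 3, 4, 2, 3, 7, 8, 3,
  7, 4, 5, 3, 4, 8, 7, 3, 2, 4, 3, 5, 4, 7, 3, 2, 1, 0, 6, 5, 4, 3, 7, 2, 3, 4, 1, 2, 3, 7, 8, 5, 4, 3,
  7, 6, 5, 4, 3, 2, 1, 5, 1, 0, 2, 3, 4, 5, 6, 7, 3, 4, 5, 8, 7, 3, 2, 1, 4, 3, 2, 3, 7, 8, 3, 7, 4, 5,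
  3, 4, 2, 3, 7, 6, 5, 4, 3, 2, 0, 1, 3, 1, 2, 3, 4, 5, 6, 7, 3, 2, 1, 4, 3, 5, 4, 7, 3, 8, 7, 3, 2, 4,
  3, 5, 4, 7, 3, 2, 1, 0, 6, 5, 4, 3, 7, 2, 3, 4, 1, 2, 3, 7, 8, 3, 4, 5, 2, 3, 4, 1, 2, 3, 7, 6, 7, 3,
  2, 1, 4, 3, 2, 7, 3, 8, 7, 4, 5, 3, 4, 2, 3, 7, 8, 1, 2, 3, 7, 4, 3, 2, 1, 3, 1, 2, 3, 4, 5, 6, 7, 3,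
  2, 1, 4, 3, 2, 5, 4, 8, 7, 3, 2, 1, 0, 4, 3, 2, 1, 5, 4, 7, 3, 4, 2, 3, 7, 3, 4, 5, 1, 2, 3, 4, 0, 1,
  2, 3, 7, 8, 5, 2, 3, 4, 1, 2, 3, 7, 6, 5, 4, 3, 2, 1, 3, 8, 5, 1, 2, 3, 4, 5, 6, 7, 3, 2, 1, 8, 7, 3,
  2, 4, 3, 5, 4, 7, 3, 2, 1, 0, 6, 5, 4, 3, 7, 2, 3, 4, 1, 2, 3, 7, 8, 5, 4, 3, 7, 6, 7, 3, 2, 1, 4, 3,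
  2, 7, 3, 8, 7, 4, 5, 3, 4, 2, 3, 7, 8, 1, 2, 3, 7, 4, 3, 2, 1, 3, 1, 2, 3, 4, 5, 7, 3, 2, 1, 4, 3, 2,
  7, 3, 4, 5, 8, 7, 3, 4, 2, 3, 7, 8, 1, 2, 3, 7, 4, 3, 2, 0, 2, 3, 4, 5, 6, 7, 3, 2, 4, 3, 5, 4, 7, 3,
  2, 1, 8, 7, 3, 4, 2, 3, 7, 8, 5, 4, 3, 7, 6, 5, 4, 3, 1, 2, 0, 1, 3, 1, 2, 3, 4, 5, 7, 3, 2, 1, 4, 3,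
  2, 7, 8, 7, 3, 2, 1, 4, 3, 2, 7, 3, 4, 0, 1, 2, 3, 7, 8, 7, 3, 4, 1, 2, 3, 7, 5, 4, 3, 2, 1, 3, 8, 1,
  2, 3, 4, 5, 6, 7, 3, 2, 1, 4, 3, 2, 5, 8, 7, 3, 2, 1, 4, 3, 2, 5, 6, 7, 3, 4, 5, 8, 7, 3, 4, 2, 3, 7,
  8, 5, 4, 1, 2, 3, 7, 4, 5, 2, 3, 4, 1, 2, 3, 7, 8, 5, 4, 1, 2, 3, 7, 6, 5, 4, 3, 2, 1, 8, 3, 1, 2, 3,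
  4, 5, 7, 3, 2, 1, 4, 3, 7, 8, 7, 3, 2, 1, 0, 4, 3, 7, 2, 3, 4, 1, 2, 3, 7, 8, 7, 2, 3, 4, 1, 2, 3, 7,
  5, 4, 3, 2, 1, 3, 1, 0, 2, 1, 3, 4, 5, 6, 7, 3, 4, 5, 8, 7, 3, 2, 4, 3, 7, 8, 1, 2, 3, 7, 4, 5, 3, 4,
  2, 3, 7, 6, 5, 4, 3, 2, 0, 2, 3, 4, 7, 3, 2, 1, 8, 7, 3, 2, 4, 3, 7, 8, 5, 4, 3, 7, 2, 3, 4, 1, 2, 3,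
  7, 5, 4, 3, 2, 1, 3, 1, 2, 3, 4, 5, 6, 7, 3, 2, 1, 4, 3, 2, 5, 4, 3, 8, 7, 3, 2, 1, 0, 4, 3, 2, 1, 7,
  3, 2, 8, 7, 3, 4, 3, 7, 8, 2, 3, 7, 1, 2, 3, 4, 0, 1, 2, 3, 7, 8, 3, 4, 5, 2, 3, 4, 1, 2, 3, 7, 6, 5,
  4, 3, 2, 0, 2, 1, 3, 2, 4, 3, 7, 3, 4, 2, 3, 1, 2, 0, 1, 7, 6, 4, 7, 1, 0, 2, 1, 3, 2, 4, 3, 7, 3, 4,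
  2, 3, 1, 2, 0, 2, 3, 4, 5, 6, 7, 3, 2, 1, 4, 3, 2, 5, 4, 3, 7, 3, 4, 7, 3, 8, 7, 3, 2, 1, 4, 3, 2, 7,
  3, 4, 5, 0, 1, 2, 3, 7, 6, 4, 5, 3, 4, 2, 3, 7, 8, 3, 4, 5, 2, 3, 4, 1, 4, 3, 5, 4, 7, 8, 7, 3, 2, 4,
  3, 5, 6, 7, 4, 5, 3, 4, 2, 3, 7, 8, 7, 5, 3, 4, 2, 3, 7, 6, 5, 4, 3, 2, 1, 3, 1, 2, 3, 4, 5, 6, 7, 3,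
  2, 4, 3, 5, 4, 7, 8, 7, 3, 2, 4, 3, 5, 6, 7, 4, 5, 3, 4, 2, 3, 7, 8, 7, 5, 3, 4, 2, 3, 7, 6, 5, 4, 3,
  2, 1, 3, 1, 2, 3, 4, 5, 6, 7, 3, 2, 1, 4, 3, 2, 5, 4, 3, 8, 7, 3, 2, 4, 3, 5, 4, 6, 7, 3, 2, 1, 0, 5,
  4, 3, 7, 2, 3, 4, 1, 2, 3, 7, 8, 3, 7, 5, 2, 3, 4, 1, 2, 3, 7, 6, 5, 4, 3, 2, 1, 5, 2, 0, 3, 4, 2, 3,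
  1, 2, 0, 1, 0, 1, 0, 2, 1, 3, 2, 4, 3]), (6, 2, [8, 7, 1, 2, 3, 4, 0, 1, 2, 3, 7, 8, 3, 4, 5, 2, 3,
  4, 1, 2, 3, 7, 6, 5, 4, 3, 2, 1, 3, 1, 0, 2, 1, 3, 4, 5, 6, 7, 3, 4, 5, 8, 7, 3, 2, 4, 3, 7, 8, 1, 2,
  3, 7, 4, 5, 3, 4, 2, 3, 7, 6, 5, 4, 3, 2, 0, 2, 3, 4, 5, 7, 3, 2, 1, 4, 3, 2, 7, 3, 8, 7, 4, 5, 3, 4,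
  2, 3, 7, 8, 1, 2, 3, 7, 4, 3, 2, 0, 2, 3, 4, 5, 7, 3, 2, 4, 3, 7, 8, 7, 3, 2, 4, 5, 3, 4, 1, 2, 3, 7,
  8, 3, 4, 2, 3, 7, 5, 4, 3, 1, 3, 4, 5, 6, 7, 3, 4, 5, 8, 7, 3, 2, 4, 3, 7, 8, 1, 2, 3, 7, 4, 5, 3, 4,
  2, 3, 7, 6, 5, 4, 3, 2, 0, 1, 3, 1, 0, 2, 1, 3, 4, 5, 6, 7, 3, 4, 5, 8, 7, 3, 2, 4, 3, 7, 8, 1, 2, 3,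
  7, 4, 5, 3, 4, 2, 3, 7, 6, 5, 4, 3, 2, 0, 2, 3, 4, 5, 7, 3, 2, 1, 4, 3, 2, 7, 3, 8, 7, 4, 5, 3, 4, 2,
  3, 7, 8, 1, 2, 3, 7, 5, 7, 3, 2, 1, 4, 3, 2, 7, 3, 8, 7, 4, 5, 3, 4, 2, 3, 7, 8, 1, 2, 3, 7, 4, 3, 2,
  1, 3, 1, 0, 2, 1, 3, 4, 5, 6, 7, 3, 4, 5, 8, 7, 3, 2, 4, 3, 7, 8, 1, 2, 3, 7, 4, 5, 3, 4, 2, 3, 7, 6,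
  5, 4, 3, 2, 0, 2, 3, 4, 5, 7, 3, 2, 1, 4, 3, 2, 7, 3, 8, 7, 4, 5, 3, 4, 2, 3, 7, 8, 1, 2, 3, 7, 5, 6,
  7, 3, 2, 1, 4, 3, 2, 5, 4, 8, 7, 3, 2, 1, 0, 4, 3, 2, 1, 5, 4, 7, 3, 4, 2, 3, 7, 3, 4, 5, 1, 2, 3, 4,
  0, 1, 2, 3, 7, 8, 5, 2, 3, 4, 1, 2, 3, 7, 6, 5, 4, 3, 2, 1, 3, 1, 2, 3, 4, 5, 6, 7, 3, 2, 1, 4, 5, 8,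
  7, 3, 2, 1, 4, 3, 2, 5, 4, 7, 3, 2, 1, 4, 5, 8, 7, 3, 4, 0, 1, 2, 3, 7, 8, 4, 3, 7, 5, 2, 3, 4, 1, 2,
  3, 7, 8, 5, 2, 3, 4, 1, 2, 3, 7, 6, 5, 4, 3, 2, 1, 5, 8, 3, 1, 2, 3, 4, 5, 6, 7, 3, 2, 1, 4, 3, 2, 5,
  4, 8, 7, 3, 2, 1, 0, 4, 3, 2, 1, 5, 4, 7, 3, 4, 2, 3, 7, 3, 4, 5, 1, 2, 3, 4, 0, 1, 2, 3, 7, 8, 5, 2,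
  3, 4, 1, 2, 3, 7, 6, 5, 4, 3, 2, 1, 3, 8, 1, 2, 3, 4, 5, 6, 7, 3, 2, 1, 4, 3, 2, 5, 7, 3, 8, 7, 3, 2,
  1, 0, 4, 3, 2, 1, 5, 6, 4, 5, 3, 4, 2, 3, 7, 8, 3, 7, 4, 5, 3, 4, 8, 7, 3, 2, 4, 3, 5, 4, 7, 3, 2, 1,
  0, 6, 5, 4, 3, 7, 2, 3, 4, 1, 2, 3, 7, 8, 5, 4, 3, 7, 6, 5, 4, 3, 2, 1, 5, 3, 1, 2, 3, 4, 5, 7, 3, 2,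
  1, 4, 3, 2, 7, 3, 4, 5, 8, 7, 3, 4, 2, 3, 7, 8, 1, 2, 3, 7, 4, 3, 2, 0, 2, 3, 4, 5, 6, 7, 3, 2, 4, 3,
  5, 4, 7, 3, 2, 1, 8, 7, 3, 4, 2, 3, 7, 8, 5, 4, 3, 7, 6, 5, 4, 3, 1, 2, 0, 1, 3, 1, 2, 3, 4, 5, 7, 3,
  2, 1, 4, 3, 2, 7, 8, 7, 3, 2, 1, 4, 3, 2, 7, 3, 4, 0, 1, 2, 3, 7, 8, 7, 3, 4, 1, 2, 3, 7, 5, 4, 3, 2,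
  1, 3, 8, 1, 2, 3, 4, 5, 6, 7, 3, 2, 1, 4, 3, 2, 5, 8, 7, 3, 2, 1, 4, 3, 2, 5, 6, 7, 3, 4, 5, 8, 7, 3,
  4, 2, 3, 7, 8, 5, 4, 1, 2, 3, 7, 4, 5, 2, 3, 4, 1, 2, 3, 7, 8, 5, 4, 1, 2, 3, 7, 6, 5, 4, 3, 2, 1, 8,
  3, 1, 2, 3, 4, 5, 7, 3, 2, 1, 4, 3, 7, 8, 7, 3, 2, 1, 0, 4, 3, 7, 2, 3, 4, 1, 2, 3, 7, 8, 7, 2, 3, 4,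
  1, 2, 3, 7, 5, 4, 3, 2, 1, 3, 1, 0, 2, 1, 3, 4, 5, 6, 7, 3, 4, 5, 8, 7, 3, 2, 4, 3, 7, 8, 1, 2, 3, 7,
  4, 5, 3, 4, 2, 3, 7, 6, 5, 4, 3, 2, 0, 2, 3, 4, 7, 3, 2, 1, 8, 7, 3, 2, 4, 3, 7, 8, 5, 4, 3, 7, 2, 3,
  4, 1, 2, 3, 7, 5, 4, 3, 2, 1, 3, 7, 1, 0, 2, 1, 3, 2, 4, 3, 7, 3, 4, 2, 3, 1, 2, 0, 2, 3, 4, 5, 6, 7,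
  3, 2, 1, 4, 3, 2, 5, 4, 3, 7, 3, 4, 7, 3, 8, 7, 3, 2, 1, 4, 3, 2, 7, 3, 4, 5, 0, 1, 2, 3, 7, 6, 4, 5,
  3, 4, 2, 3, 7, 8, 3, 4, 5, 2, 3, 4, 1, 4, 3, 5, 4, 7, 8, 7, 3, 2, 4, 3, 5, 6, 7, 4, 5, 3, 4, 2, 3, 7,
  8, 7, 5, 3, 4, 2, 3, 7, 6, 5, 4, 3, 2, 1, 3, 1, 2, 3, 4, 5, 6, 7, 3, 2, 4, 3, 5, 4, 7, 8, 7, 3, 2, 4,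
  3, 5, 6, 7, 4, 5, 3, 4, 2, 3, 7, 8, 7, 5, 3, 4, 2, 3, 7, 6, 5, 4, 3, 2, 1, 3, 1, 2, 3, 4, 5, 6, 7, 3,
  2, 1, 4, 3, 2, 5, 4, 3, 8, 7, 3, 2, 4, 3, 5, 4, 6, 7, 3, 2, 1, 0, 5, 4, 3, 7, 2, 3, 4, 1, 2, 3, 7, 8,
  3, 7, 5, 2, 3, 4, 1, 2, 3, 7, 6, 5, 4, 3, 2, 1, 5, 2, 0, 3, 7, 4, 3, 1, 2, 0, 2, 3, 4, 5, 6, 7, 3, 2,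
  1, 4, 3, 2, 5, 4, 3, 8, 7, 3, 2, 1, 4, 3, 2, 7, 3, 4, 5, 6, 0, 1, 2, 3, 7, 4, 5, 3, 4, 2, 3, 7, 8, 3,
  7, 4, 5, 2, 5, 7, 3, 8, 7, 3, 2, 1, 0, 4, 3, 2, 1, 5, 6, 4, 5, 3, 4, 2, 3, 7, 8, 3, 7, 4, 5, 3, 4, 8,
  7, 3, 2, 4, 3, 5, 4, 7, 3, 2, 1, 0, 6, 5, 4, 3, 7, 2, 3, 4, 1, 2, 3, 7, 8, 5, 4, 3, 7, 6, 5, 4, 3, 2,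
  1, 5, 1, 0, 2, 3, 4, 5, 6, 7, 3, 4, 5, 8, 7, 3, 2, 1, 4, 3, 2, 3, 7, 8, 3, 7, 4, 5, 3, 4, 2, 3, 7, 6,
  5, 4, 3, 2, 0, 1, 3, 1, 2, 3, 4, 5, 6, 7, 3, 2, 1, 4, 3, 5, 4, 7, 3, 8, 7, 3, 2, 4, 3, 5, 4, 7, 3, 2,
  1, 0, 6, 5, 4, 3, 7, 2, 3, 4, 1, 2, 3, 7, 8, 3, 4, 5, 2, 3, 4, 1, 2, 3, 7, 6, 7, 3, 2, 1, 4, 3, 2, 7,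
  3, 8, 7, 4, 5, 3, 4, 2, 3, 7, 8, 1, 2, 3, 7, 4, 3, 2, 1, 3, 1, 2, 3, 4, 5, 6, 7, 3, 2, 1, 4, 3, 2, 5,
  4, 8, 7, 3, 2, 1, 0, 4, 3, 2, 1, 5, 4, 7, 3, 4, 2, 3, 7, 3, 4, 5, 1, 2, 3, 4, 0, 1, 2, 3, 7, 8, 5, 2,
  3, 4, 1, 2, 3, 7, 6, 5, 4, 3, 2, 1, 3, 8, 5, 1, 2, 3, 4, 5, 6, 7, 3, 2, 1, 8, 7, 3, 2, 4, 3, 5, 4, 7,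
  3, 2, 1, 0, 6, 5, 4, 3, 7, 2, 3, 4, 1, 2, 3, 7, 8, 5, 4, 3, 7, 6, 7, 3, 2, 1, 4, 3, 2, 7, 3, 8, 7, 4,
  5, 3, 4, 2, 3, 7, 8, 1, 2, 3, 7, 4, 3, 2, 1, 3, 1, 2, 3, 4, 5, 7, 3, 2, 1, 4, 3, 2, 7, 3, 4, 5, 8, 7,
  3, 4, 2, 3, 7, 8, 1, 2, 3, 7, 4, 3, 2, 0, 2, 3, 4, 5, 6, 7, 3, 2, 4, 3, 5, 4, 7, 3, 2, 1, 8, 7, 3, 4,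
  2, 3, 7, 8, 5, 4, 3, 7, 6, 5, 4, 3, 1, 2, 0, 1, 3, 1, 2, 3, 4, 5, 7, 3, 2, 1, 4, 3, 2, 7, 8, 7, 3, 2,
  1, 4, 3, 2, 7, 3, 4, 0, 1, 2, 3, 7, 8, 7, 3, 4, 1, 2, 3, 7, 5, 4, 3, 2, 1, 3, 8, 1, 2, 3, 4, 5, 6, 7,
  3, 2, 1, 4, 3, 2, 5, 8, 7, 3, 2, 1, 4, 3, 2, 5, 6, 7, 3, 4, 5, 8, 7, 3, 4, 2, 3, 7, 8, 5, 4, 1, 2, 3,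
  7, 4, 5, 2, 3, 4, 1, 2, 3, 7, 8, 5, 4, 1, 2, 3, 7, 6, 5, 4, 3, 2, 1, 8, 3, 1, 2, 3, 4, 5, 7, 3, 2, 1,
  4, 3, 7, 8, 7, 3, 2, 1, 0, 4, 3, 7, 2, 3, 4, 1, 2, 3, 7, 8, 7, 2, 3, 4, 1, 2, 3, 7, 5, 4, 3, 2, 1, 3,
  1, 0, 2, 1, 3, 4, 5, 6, 7, 3, 4, 5, 8, 7, 3, 2, 4, 3, 7, 8, 1, 2, 3, 7, 4, 5, 3, 4, 2, 3, 7, 6, 5, 4,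
  3, 2, 0, 2, 3, 4, 7, 3, 2, 1, 8, 7, 3, 2, 4, 3, 7, 8, 5, 4, 3, 7, 2, 3, 4, 1, 2, 3, 7, 5, 4, 3, 2, 1,
  3, 1, 2, 3, 4, 5, 6, 7, 3, 2, 1, 4, 3, 2, 5, 4, 3, 8, 7, 3, 2, 1, 0, 4, 3, 2, 1, 7, 3, 2, 8, 7, 3, 4,
  3, 7, 8, 2, 3, 7, 1, 2, 3, 4, 0, 1, 2, 3, 7, 8, 3, 4, 5, 2, 3, 4, 1, 2, 3, 7, 6, 5, 4, 3, 2, 0, 2, 1,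
  3, 2, 4, 3, 7, 3, 4, 2, 3, 1, 2, 0, 1, 7, 6, 4, 7, 1, 0, 2, 1, 3, 2, 4, 3, 7, 3, 4, 2, 3, 1, 2, 0, 2,
  3, 4, 5, 6, 7, 3, 2, 1, 4, 3, 2, 5, 4, 3, 7, 3, 4, 7, 3, 8, 7, 3, 2, 1, 4, 3, 2, 7, 3, 4, 5, 0, 1, 2,
  3, 7, 6, 4, 5, 3, 4, 2, 3, 7, 8, 3, 4, 5, 2, 3, 4, 1, 4, 3, 5, 4, 7, 8, 7, 3, 2, 4, 3, 5, 6, 7, 4, 5,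
  3, 4, 2, 3, 7, 8, 7, 5, 3, 4, 2, 3, 7, 6, 5, 4, 3, 2, 1, 3, 1, 2, 3, 4, 5, 6, 7, 3, 2, 4, 3, 5, 4, 7,
  8, 7, 3, 2, 4, 3, 5, 6, 7, 4, 5, 3, 4, 2, 3, 7, 8, 7, 5, 3, 4, 2, 3, 7, 6, 5, 4, 3, 2, 1, 3, 1, 2, 3,
  4, 5, 6, 7, 3, 2, 1, 4, 3, 2, 5, 4, 3, 8, 7, 3, 2, 4, 3, 5, 4, 6, 7, 3, 2, 1, 0, 5, 4, 3, 7, 2, 3, 4,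
  1, 2, 3, 7, 8, 3, 7, 5, 2, 3, 4, 1, 2, 3, 7, 6, 5, 4, 3, 2, 1, 5, 2, 0]), (7, 1, [3, 1, 2, 3, 4, 5,
  6, 7, 3, 2, 1, 4, 3, 2, 5, 4, 8, 7, 3, 2, 1, 0, 4, 3, 2, 1, 5, 4, 7, 3, 4, 2, 3, 7, 3, 4, 5, 1, 2, 3,
  4, 0, 1, 2, 3, 7, 8, 5, 2, 3, 4, 1, 2, 3, 7, 6, 5, 4, 3, 2, 1, 3, 1, 2, 3, 4, 5, 6, 7, 3, 2, 1, 4, 5,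
  8, 7, 3, 2, 1, 4, 3, 2, 5, 4, 7, 3, 2, 1, 4, 5, 8, 7, 3, 4, 0, 1, 2, 3, 7, 8, 4, 3, 7, 5, 2, 3, 4, 1,
  2, 3, 7, 8, 5, 2, 3, 4, 1, 2, 3, 7, 6, 5, 4, 3, 2, 1, 3, 1, 2, 3, 4, 5, 6, 7, 3, 2, 1, 4, 3, 2, 5, 4,
  8, 7, 3, 2, 1, 0, 4, 3, 2, 1, 5, 4, 7, 3, 4, 2, 3, 7, 3, 4, 5, 1, 2, 3, 4, 0, 1, 2, 3, 7, 8, 5, 2, 3,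
  4, 1, 2, 3, 7, 6, 5, 4, 3, 2, 1, 3, 8, 1, 2, 3, 4, 5, 7, 3, 2, 1, 4, 3, 2, 7, 3, 4, 5, 8, 7, 3, 4, 2,
  3, 7, 8, 1, 2, 3, 7, 4, 3, 2, 0, 2, 3, 4, 5, 6, 7, 3, 2, 4, 3, 5, 4, 7, 3, 2, 1, 8, 7, 3, 4, 2, 3, 7,
  8, 5, 4, 3, 7, 6, 5, 4, 3, 1, 2, 0, 1, 3, 1, 2, 3, 4, 5, 6, 7, 3, 2, 1, 4, 3, 2, 5, 4, 3, 8, 7, 3, 2,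
  1, 0, 4, 3, 5, 6, 4, 5, 2, 3, 4, 1, 2, 3, 7, 8, 3, 4, 5, 2, 3, 4, 1, 2, 3, 7, 6, 5, 4, 3, 2, 1, 3, 1,
  2, 3, 4, 5, 6, 7, 3, 2, 1, 4, 3, 2, 5, 4, 8, 7, 3, 2, 1, 0, 4, 3, 2, 1, 5, 4, 7, 3, 4, 2, 3, 7, 3, 4,
  5, 1, 2, 3, 4, 0, 1, 2, 3, 7, 8, 5, 2, 3, 4, 1, 2, 3, 7, 6, 5, 4, 3, 2, 1, 3, 8, 1, 2, 3, 4, 7, 3, 2,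
  1, 8, 7, 3, 2, 4, 3, 5, 4, 7, 8, 3, 7, 2, 3, 4, 1, 2, 3, 7, 6, 7, 3, 4, 5, 8, 7, 3, 2, 1, 4, 3, 2, 7,
  3, 4, 5, 6, 0, 1, 2, 3, 7, 4, 5, 3, 4, 2, 3, 7, 8, 1, 2, 3, 7, 6, 5, 4, 3, 2, 1, 5, 3, 7, 4, 3, 1, 2,
  0, 2, 3, 4, 5, 6, 7, 3, 2, 1, 4, 3, 2, 5, 4, 3, 8, 7, 3, 2, 1, 4, 3, 2, 7, 3, 4, 5, 6, 0, 1, 2, 3, 7,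
  4, 5, 3, 4, 2, 3, 7, 8, 3, 7, 4, 5, 2, 5, 7, 3, 8, 7, 3, 2, 1, 0, 4, 3, 2, 1, 5, 6, 4, 5, 3, 4, 2, 3,
  7, 8, 3, 7, 4, 5, 3, 4, 8, 7, 3, 2, 4, 3, 5, 4, 7, 3, 2, 1, 0, 6, 5, 4, 3, 7, 2, 3, 4, 1, 2, 3, 7, 8,
  5, 4, 3, 7, 6, 5, 4, 3, 2, 1, 5, 1, 0, 2, 3, 4, 5, 6, 7, 3, 4, 5, 8, 7, 3, 2, 1, 4, 3, 2, 3, 7, 8, 3,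
  7, 4, 5, 3, 4, 2, 3, 7, 6, 5, 4, 3, 2, 0, 1, 3, 1, 2, 3, 4, 5, 6, 7, 3, 2, 1, 4, 3, 5, 4, 7, 3, 8, 7,
  3, 2, 4, 3, 5, 4, 7, 3, 2, 1, 0, 6, 5, 4, 3, 7, 2, 3, 4, 1, 2, 3, 7, 8, 3, 4, 5, 2, 3, 4, 1, 2, 3, 7,
  6, 7, 3, 2, 1, 4, 3, 2, 7, 3, 8, 7, 4, 5, 3, 4, 2, 3, 7, 8, 1, 2, 3, 7, 4, 3, 2, 1, 3, 1, 2, 3, 4, 5,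
  6, 7, 3, 2, 1, 4, 3, 2, 5, 4, 8, 7, 3, 2, 1, 0, 4, 3, 2, 1, 5, 4, 7, 3, 4, 2, 3, 7, 3, 4, 5, 1, 2, 3,
  4, 0, 1, 2, 3, 7, 8, 5, 2, 3, 4, 1, 2, 3, 7, 6, 5, 4, 3, 2, 1, 3, 8, 5, 1, 2, 3, 4, 5, 6, 7, 3, 2, 1,
  8, 7, 3, 2, 4, 3, 5, 4, 7, 3, 2, 1, 0, 6, 5, 4, 3, 7, 2, 3, 4, 1, 2, 3, 7, 8, 5, 4, 3, 7, 6, 7, 3, 2,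
  1, 4, 3, 2, 7, 3, 8, 7, 4, 5, 3, 4, 2, 3, 7, 8, 1, 2, 3, 7, 4, 3, 2, 1, 3, 1, 2, 3, 4, 5, 7, 3, 2, 1,
  4, 3, 2, 7, 3, 4, 5, 8, 7, 3, 4, 2, 3, 7, 8, 1, 2, 3, 7, 4, 3, 2, 0, 2, 3, 4, 5, 6, 7, 3, 2, 4, 3, 5,
  4, 7, 3, 2, 1, 8, 7, 3, 4, 2, 3, 7, 8, 5, 4, 3, 7, 6, 5, 4, 3, 1, 2, 0, 1, 3, 1, 2, 3, 4, 5, 7, 3, 2,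
  1, 4, 3, 2, 7, 8, 7, 3, 2, 1, 4, 3, 2, 7, 3, 4, 0, 1, 2, 3, 7, 8, 7, 3, 4, 1, 2, 3, 7, 5, 4, 3, 2, 1,
  3, 8, 1, 2, 3, 4, 5, 6, 7, 3, 2, 1, 4, 3, 2, 5, 8, 7, 3, 2, 1, 4, 3, 2, 5, 6, 7, 3, 4, 5, 8, 7, 3, 4,
  2, 3, 7, 8, 5, 4, 1, 2, 3, 7, 4, 5, 2, 3, 4, 1, 2, 3, 7, 8, 5, 4, 1, 2, 3, 7, 6, 5, 4, 3, 2, 1, 8, 3,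
  1, 2, 3, 4, 5, 7, 3, 2, 1, 4, 3, 7, 8, 7, 3, 2, 1, 0, 4, 3, 7, 2, 3, 4, 1, 2, 3, 7, 8, 7, 2, 3, 4, 1,
  2, 3, 7, 5, 4, 3, 2, 1, 3, 1, 0, 2, 1, 3, 4, 5, 6, 7, 3, 4, 5, 8, 7, 3, 2, 4, 3, 7, 8, 1, 2, 3, 7, 4,
  5, 3, 4, 2, 3, 7, 6, 5, 4, 3, 2, 0, 2, 3, 4, 7, 3, 2, 1, 8, 7, 3, 2, 4, 3, 7, 8, 5, 4, 3, 7, 2, 3, 4,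
  1, 2, 3, 7, 5, 4, 3, 2, 1, 3, 1, 2, 3, 4, 5, 6, 7, 3, 2, 1, 4, 3, 2, 5, 4, 3, 8, 7, 3, 2, 1, 0, 4, 3,
  2, 1, 7, 3, 2, 8, 7, 3, 4, 3, 7, 8, 2, 3, 7, 1, 2, 3, 4, 0, 1, 2, 3, 7, 8, 3, 4, 5, 2, 3, 4, 1, 2, 3,
  7, 6, 5, 4, 3, 2, 0, 2, 1, 3, 2, 4, 3, 7, 3, 4, 2, 3, 1, 2, 0, 1, 7, 6, 4, 7, 1, 0, 2, 1, 3, 2, 4, 3,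
  7, 3, 4, 2, 3, 1, 2, 0, 2, 3, 4, 5, 6, 7, 3, 2, 1, 4, 3, 2, 5, 4, 3, 7, 3, 4, 7, 3, 8, 7, 3, 2, 1, 4,
  3, 2, 7, 3, 4, 5, 0, 1, 2, 3, 7, 6, 4, 5, 3, 4, 2, 3, 7, 8, 3, 4, 5, 2, 3, 4, 1, 4, 3, 5, 4, 7, 8, 7,
  3, 2, 4, 3, 5, 6, 7, 4, 5, 3, 4, 2, 3, 7, 8, 7, 5, 3, 4, 2, 3, 7, 6, 5, 4, 3, 2, 1, 3, 1, 2, 3, 4, 5,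
  6, 7, 3, 2, 4, 3, 5, 4, 7, 8, 7, 3, 2, 4, 3, 5, 6, 7, 4, 5, 3, 4, 2, 3, 7, 8, 7, 5, 3, 4, 2, 3, 7, 6,
  5, 4, 3, 2, 1, 3, 1, 2, 3, 4, 5, 6, 7, 3, 2, 1, 4, 3, 2, 5, 4, 3, 8, 7, 3, 2, 4, 3, 5, 4, 6, 7, 3, 2,
  1, 0, 5, 4, 3, 7, 2, 3, 4, 1, 2, 3, 7, 8, 3, 7, 5, 2, 3, 4, 1, 2, 3, 7, 6, 5, 4, 3, 2, 1, 5, 2, 0]),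
  (8, 1, [1, 2, 3, 4, 5, 6, 7, 3, 2, 1, 4, 3, 2, 5, 8, 7, 3, 2, 1, 4, 3, 2, 5, 6, 7, 3, 4, 5, 8, 7, 3,
  2, 0, 1, 2, 3, 7, 8, 4, 3, 7, 6, 7, 3, 4, 5, 8, 7, 3, 4, 2, 3, 7, 8, 5, 4, 1, 2, 3, 7, 4, 5, 2, 3, 4,
  1, 2, 3, 7, 8, 5, 4, 1, 2, 3, 7, 6, 5, 4, 3, 2, 1, 3, 7, 4, 3, 1, 2, 0, 2, 3, 4, 5, 6, 7, 3, 2, 1, 4,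
  3, 2, 5, 4, 3, 8, 7, 3, 2, 1, 4, 3, 2, 7, 3, 4, 5, 6, 0, 1, 2, 3, 7, 4, 5, 3, 4, 2, 3, 7, 8, 3, 7, 4,
  5, 2, 5, 7, 3, 8, 7, 3, 2, 1, 0, 4, 3, 2, 1, 5, 6, 4, 5, 3, 4, 2, 3, 7, 8, 3, 7, 4, 5, 3, 4, 8, 7, 3,
  2, 4, 3, 5, 4, 7, 3, 2, 1, 0, 6, 5, 4, 3, 7, 2, 3, 4, 1, 2, 3, 7, 8, 5, 4, 3, 7, 6, 5, 4, 3, 2, 1, 5,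
  1, 0, 2, 3, 4, 5, 6, 7, 3, 4, 5, 8, 7, 3, 2, 1, 4, 3, 2, 3, 7, 8, 3, 7, 4, 5, 3, 4, 2, 3, 7, 6, 5, 4,
  3, 2, 0, 1, 3, 1, 2, 3, 4, 5, 6, 7, 3, 2, 1, 4, 3, 5, 4, 7, 3, 8, 7, 3, 2, 4, 3, 5, 4, 7, 3, 2, 1, 0,
  6, 5, 4, 3, 7, 2, 3, 4, 1, 2, 3, 7, 8, 3, 4, 5, 2, 3, 4, 1, 2, 3, 7, 6, 7, 3, 2, 1, 4, 3, 2, 7, 3, 8,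
  7, 4, 5, 3, 4, 2, 3, 7, 8, 1, 2, 3, 7, 4, 3, 2, 1, 3, 1, 2, 3, 4, 5, 6, 7, 3, 2, 1, 4, 3, 2, 5, 4, 8,
  7, 3, 2, 1, 0, 4, 3, 2, 1, 5, 4, 7, 3, 4, 2, 3, 7, 3, 4, 5, 1, 2, 3, 4, 0, 1, 2, 3, 7, 8, 5, 2, 3, 4,
  1, 2, 3, 7, 6, 5, 4, 3, 2, 1, 3, 8, 5, 1, 2, 3, 4, 5, 6, 7, 3, 2, 1, 8, 7, 3, 2, 4, 3, 5, 4, 7, 3, 2,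
  1, 0, 6, 5, 4, 3, 7, 2, 3, 4, 1, 2, 3, 7, 8, 5, 4, 3, 7, 6, 7, 3, 2, 1, 4, 3, 2, 7, 3, 8, 7, 4, 5, 3,
  4, 2, 3, 7, 8, 1, 2, 3, 7, 4, 3, 2, 1, 3, 1, 2, 3, 4, 5, 7, 3, 2, 1, 4, 3, 2, 7, 3, 4, 5, 8, 7, 3, 4,
  2, 3, 7, 8, 1, 2, 3, 7, 4, 3, 2, 0, 2, 3, 4, 5, 6, 7, 3, 2, 4, 3, 5, 4, 7, 3, 2, 1, 8, 7, 3, 4, 2, 3,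
  7, 8, 5, 4, 3, 7, 6, 5, 4, 3, 1, 2, 0, 1, 3, 1, 2, 3, 4, 5, 7, 3, 2, 1, 4, 3, 2, 7, 8, 7, 3, 2, 1, 4,
  3, 2, 7, 3, 4, 0, 1, 2, 3, 7, 8, 7, 3, 4, 1, 2, 3, 7, 5, 4, 3, 2, 1, 3, 8, 1, 2, 3, 4, 5, 6, 7, 3, 2,
  1, 4, 3, 2, 5, 8, 7, 3, 2, 1, 4, 3, 2, 5, 6, 7, 3, 4, 5, 8, 7, 3, 4, 2, 3, 7, 8, 5, 4, 1, 2, 3, 7, 4,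
  5, 2, 3, 4, 1, 2, 3, 7, 8, 5, 4, 1, 2, 3, 7, 6, 5, 4, 3, 2, 1, 8, 3, 1, 2, 3, 4, 5, 7, 3, 2, 1, 4, 3,
  7, 8, 7, 3, 2, 1, 0, 4, 3, 7, 2, 3, 4, 1, 2, 3, 7, 8, 7, 2, 3, 4, 1, 2, 3, 7, 5, 4, 3, 2, 1, 3, 1, 0,
  2, 1, 3, 4, 5, 6, 7, 3, 4, 5, 8, 7, 3, 2, 4, 3, 7, 8, 1, 2, 3, 7, 4, 5, 3, 4, 2, 3, 7, 6, 5, 4, 3, 2,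
  0, 2, 3, 4, 7, 3, 2, 1, 8, 7, 3, 2, 4, 3, 7, 8, 5, 4, 3, 7, 2, 3, 4, 1, 2, 3, 7, 5, 4, 3, 2, 1, 3, 1,
  2, 3, 4, 5, 6, 7, 3, 2, 1, 4, 3, 2, 5, 4, 3, 8, 7, 3, 2, 1, 0, 4, 3, 2, 1, 7, 3, 2, 8, 7, 3, 4, 3, 7,
  8, 2, 3, 7, 1, 2, 3, 4, 0, 1, 2, 3, 7, 8, 3, 4, 5, 2, 3, 4, 1, 2, 3, 7, 6, 5, 4, 3, 2, 0, 2, 1, 3, 2,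
  4, 3, 7, 3, 4, 2, 3, 1, 2, 0, 1, 7, 6, 4, 7, 1, 0, 2, 1, 3, 2, 4, 3, 7, 3, 4, 2, 3, 1, 2, 0, 2, 3, 4,
  5, 6, 7, 3, 2, 1, 4, 3, 2, 5, 4, 3, 7, 3, 4, 7, 3, 8, 7, 3, 2, 1, 4, 3, 2, 7, 3, 4, 5, 0, 1, 2, 3, 7,
  6, 4, 5, 3, 4, 2, 3, 7, 8, 3, 4, 5, 2, 3, 4, 1, 4, 3, 5, 4, 7, 8, 7, 3, 2, 4, 3, 5, 6, 7, 4, 5, 3, 4,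
  2, 3, 7, 8, 7, 5, 3, 4, 2, 3, 7, 6, 5, 4, 3, 2, 1, 3, 1, 2, 3, 4, 5, 6, 7, 3, 2, 4, 3, 5, 4, 7, 8, 7,
  3, 2, 4, 3, 5, 6, 7, 4, 5, 3, 4, 2, 3, 7, 8, 7, 5, 3, 4, 2, 3, 7, 6, 5, 4, 3, 2, 1, 3, 1, 2, 3, 4, 5,
  6, 7, 3, 2, 1, 4, 3, 2, 5, 4, 3, 8, 7, 3, 2, 4, 3, 5, 4, 6, 7, 3, 2, 1, 0, 5, 4, 3, 7, 2, 3, 4, 1, 2,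
  3, 7, 8, 3, 7, 5, 2, 3, 4, 1, 2, 3, 7, 6, 5, 4, 3, 2, 1, 5, 2, 0]), (9, 2, [8, 7, 1, 2, 3, 4, 0, 1,
  2, 3, 7, 8, 3, 4, 5, 2, 3, 4, 1, 2, 3, 7, 6, 5, 4, 3, 2, 1, 3, 1, 0, 2, 1, 3, 4, 5, 6, 7, 3, 4, 5, 8,
  7, 3, 2, 4, 3, 7, 8, 1, 2, 3, 7, 4, 5, 3, 4, 2, 3, 7, 6, 5, 4, 3, 2, 0, 2, 3, 4, 5, 7, 3, 2, 1, 4, 3,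
  2, 7, 3, 8, 7, 4, 5, 3, 4, 2, 3, 7, 8, 1, 2, 3, 7, 4, 3, 2, 0, 2, 3, 4, 5, 7, 3, 2, 4, 3, 7, 8, 7, 3,
  2, 4, 5, 3, 4, 1, 2, 3, 7, 8, 3, 4, 2, 3, 7, 5, 4, 3, 1, 3, 4, 5, 6, 7, 3, 4, 5, 8, 7, 3, 2, 4, 3, 7,
  8, 1, 2, 3, 7, 4, 5, 3, 4, 2, 3, 7, 6, 5, 4, 3, 2, 0, 1, 3, 1, 0, 2, 1, 3, 4, 5, 6, 7, 3, 4, 5, 8, 7,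
  3, 2, 4, 3, 7, 8, 1, 2, 3, 7, 4, 5, 3, 4, 2, 3, 7, 6, 5, 4, 3, 2, 0, 2, 3, 4, 5, 7, 3, 2, 1, 4, 3, 2,
  7, 3, 8, 7, 4, 5, 3, 4, 2, 3, 7, 8, 1, 2, 3, 7, 5, 7, 3, 2, 1, 4, 3, 2, 7, 3, 8, 7, 4, 5, 3, 4, 2, 3,
  7, 8, 1, 2, 3, 7, 4, 3, 2, 1, 3, 1, 0, 2, 1, 3, 4, 5, 6, 7, 3, 4, 5, 8, 7, 3, 2, 4, 3, 7, 8, 1, 2, 3,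
  7, 4, 5, 3, 4, 2, 3, 7, 6, 5, 4, 3, 2, 0, 2, 3, 4, 5, 7, 3, 2, 1, 4, 3, 2, 7, 3, 8, 7, 4, 5, 3, 4, 2,
  3, 7, 8, 1, 2, 3, 7, 5, 6, 7, 3, 2, 1, 4, 3, 2, 5, 4, 8, 7, 3, 2, 1, 0, 4, 3, 2, 1, 5, 4, 7, 3, 4, 2,
  3, 7, 3, 4, 5, 1, 2, 3, 4, 0, 1, 2, 3, 7, 8, 5, 2, 3, 4, 1, 2, 3, 7, 6, 5, 4, 3, 2, 1, 3, 1, 2, 3, 4,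
  5, 6, 7, 3, 2, 1, 4, 5, 8, 7, 3, 2, 1, 4, 3, 2, 5, 4, 7, 3, 2, 1, 4, 5, 8, 7, 3, 4, 0, 1, 2, 3, 7, 8,
  4, 3, 7, 5, 2, 3, 4, 1, 2, 3, 7, 8, 5, 2, 3, 4, 1, 2, 3, 7, 6, 5, 4, 3, 2, 1, 5, 8, 3, 1, 2, 3, 4, 5,
  6, 7, 3, 2, 1, 4, 3, 2, 5, 4, 8, 7, 3, 2, 1, 0, 4, 3, 2, 1, 5, 4, 7, 3, 4, 2, 3, 7, 3, 4, 5, 1, 2, 3,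
  4, 0, 1, 2, 3, 7, 8, 5, 2, 3, 4, 1, 2, 3, 7, 6, 5, 4, 3, 2, 1, 3, 8, 1, 2, 3, 4, 5, 6, 7, 3, 2, 1, 4,
  3, 2, 5, 7, 3, 8, 7, 3, 2, 1, 0, 4, 3, 2, 1, 5, 6, 4, 5, 3, 4, 2, 3, 7, 8, 3, 7, 4, 5, 3, 4, 8, 7, 3,
  2, 4, 3, 5, 4, 7, 3, 2, 1, 0, 6, 5, 4, 3, 7, 2, 3, 4, 1, 2, 3, 7, 8, 5, 4, 3, 7, 6, 5, 4, 3, 2, 1, 5,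
  3, 1, 2, 3, 4, 5, 7, 3, 2, 1, 4, 3, 2, 7, 3, 4, 5, 8, 7, 3, 4, 2, 3, 7, 8, 1, 2, 3, 7, 4, 3, 2, 0, 2,
  3, 4, 5, 6, 7, 3, 2, 4, 3, 5, 4, 7, 3, 2, 1, 8, 7, 3, 4, 2, 3, 7, 8, 5, 4, 3, 7, 6, 5, 4, 3, 1, 2, 0,
  1, 3, 1, 2, 3, 4, 5, 7, 3, 2, 1, 4, 3, 2, 7, 8, 7, 3, 2, 1, 4, 3, 2, 7, 3, 4, 0, 1, 2, 3, 7, 8, 7, 3,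
  4, 1, 2, 3, 7, 5, 4, 3, 2, 1, 3, 8, 1, 2, 3, 4, 5, 6, 7, 3, 2, 1, 4, 3, 2, 5, 8, 7, 3, 2, 1, 4, 3, 2,
  5, 6, 7, 3, 4, 5, 8, 7, 3, 4, 2, 3, 7, 8, 5, 4, 1, 2, 3, 7, 4, 5, 2, 3, 4, 1, 2, 3, 7, 8, 5, 4, 1, 2,
  3, 7, 6, 5, 4, 3, 2, 1, 8, 3, 1, 2, 3, 4, 5, 7, 3, 2, 1, 4, 3, 7, 8, 7, 3, 2, 1, 0, 4, 3, 7, 2, 3, 4,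
  1, 2, 3, 7, 8, 7, 2, 3, 4, 1, 2, 3, 7, 5, 4, 3, 2, 1, 3, 1, 0, 2, 1, 3, 4, 5, 6, 7, 3, 4, 5, 8, 7, 3,
  2, 4, 3, 7, 8, 1, 2, 3, 7, 4, 5, 3, 4, 2, 3, 7, 6, 5, 4, 3, 2, 0, 2, 3, 4, 7, 3, 2, 1, 8, 7, 3, 2, 4,
  3, 7, 8, 5, 4, 3, 7, 2, 3, 4, 1, 2, 3, 7, 5, 4, 3, 2, 1, 3, 7, 1, 0, 2, 1, 3, 2, 4, 3, 7, 3, 4, 2, 3,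
  1, 2, 0, 2, 3, 4, 5, 6, 7, 3, 2, 1, 4, 3, 2, 5, 4, 3, 7, 3, 4, 7, 3, 8, 7, 3, 2, 1, 4, 3, 2, 7, 3, 4,
  5, 0, 1, 2, 3, 7, 6, 4, 5, 3, 4, 2, 3, 7, 8, 3, 4, 5, 2, 3, 4, 1, 4, 3, 5, 4, 7, 8, 7, 3, 2, 4, 3, 5,
  6, 7, 4, 5, 3, 4, 2, 3, 7, 8, 7, 5, 3, 4, 2, 3, 7, 6, 5, 4, 3, 2, 1, 3, 1, 2, 3, 4, 5, 6, 7, 3, 2, 4,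
  3, 5, 4, 7, 8, 7, 3, 2, 4, 3, 5, 6, 7, 4, 5, 3, 4, 2, 3, 7, 8, 7, 5, 3, 4, 2, 3, 7, 6, 5, 4, 3, 2, 1,
  3, 1, 2, 3, 4, 5, 6, 7, 3, 2, 1, 4, 3, 2, 5, 4, 3, 8, 7, 3, 2, 4, 3, 5, 4, 6, 7, 3, 2, 1, 0, 5, 4, 3,
  7, 2, 3, 4, 1, 2, 3, 7, 8, 3, 7, 5, 2, 3, 4, 1, 2, 3, 7, 6, 5, 4, 3, 2, 1, 5, 2, 0, 5, 4, 1, 2, 3, 7,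
  6, 5, 4, 3, 2, 1, 0, 1, 2, 3, 4, 5, 6, 7, 3, 2, 1, 4, 5]), (10, 2, [5, 3, 1, 2, 3, 4, 5, 6, 7, 3, 2,
  1, 4, 3, 2, 5, 4, 8, 7, 3, 2, 1, 0, 4, 3, 2, 1, 5, 4, 7, 3, 4, 2, 3, 7, 3, 4, 5, 1, 2, 3, 4, 0, 1, 2,
  3, 7, 8, 5, 2, 3, 4, 1, 2, 3, 7, 6, 5, 4, 3, 2, 1, 3, 8, 1, 2, 3, 4, 5, 6, 7, 3, 2, 1, 4, 3, 2, 5, 4,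
  8, 7, 3, 2, 1, 4, 3, 2, 5, 7, 3, 4, 8, 7, 3, 2, 1, 3, 7, 8, 5, 4, 3, 7, 6, 5, 2, 3, 4, 0, 1, 2, 3, 7,
  8, 5, 2, 3, 4, 1, 2, 3, 7, 6, 5, 4, 3, 2, 1, 8, 5, 8, 3, 1, 2, 3, 4, 5, 6, 7, 3, 2, 1, 4, 3, 2, 5, 8,
  7, 3, 2, 1, 4, 3, 2, 5, 4, 7, 3, 2, 4, 8, 7, 3, 2, 4, 3, 7, 8, 2, 3, 7, 3, 4, 5, 2, 3, 4, 1, 2, 3, 7,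
  8, 4, 5, 3, 4, 1, 2, 3, 7, 6, 5, 7, 3, 2, 1, 8, 7, 3, 2, 4, 3, 7, 8, 5, 4, 3, 7, 2, 3, 4, 1, 2, 3, 7,
  5, 4, 3, 2, 1, 3, 8, 5, 3, 1, 2, 3, 4, 5, 6, 7, 3, 2, 1, 4, 3, 5, 4, 7, 3, 8, 7, 3, 2, 4, 3, 5, 4, 7,
  3, 2, 1, 0, 6, 5, 4, 3, 7, 2, 3, 4, 1, 2, 3, 7, 8, 3, 4, 5, 2, 3, 4, 1, 2, 3, 7, 6, 5, 4, 3, 2, 1, 3,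
  1, 0, 2, 3, 4, 5, 7, 3, 2, 4, 3, 7, 8, 7, 3, 2, 4, 5, 3, 4, 1, 2, 3, 7, 8, 3, 4, 2, 3, 7, 5, 4, 3, 2,
  0, 1, 3, 1, 2, 3, 4, 5, 6, 7, 3, 2, 1, 4, 3, 2, 5, 4, 3, 8, 7, 3, 2, 1, 4, 3, 2, 7, 3, 4, 5, 6, 0, 1,
  2, 3, 7, 4, 5, 3, 4, 2, 3, 7, 8, 3, 7, 4, 5, 3, 4, 1, 2, 3, 7, 6, 5, 4, 3, 2, 1, 3, 5, 3, 7, 4, 3, 1,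
  2, 0, 2, 3, 4, 5, 6, 7, 3, 2, 1, 4, 3, 2, 5, 4, 3, 8, 7, 3, 2, 1, 4, 3, 2, 7, 3, 4, 5, 6, 0, 1, 2, 3,
  7, 4, 5, 3, 4, 2, 3, 7, 8, 3, 7, 4, 5, 2, 5, 7, 3, 8, 7, 3, 2, 1, 0, 4, 3, 2, 1, 5, 6, 4, 5, 3, 4, 2,
  3, 7, 8, 3, 7, 4, 5, 3, 4, 8, 7, 3, 2, 4, 3, 5, 4, 7, 3, 2, 1, 0, 6, 5, 4, 3, 7, 2, 3, 4, 1, 2, 3, 7,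
  8, 5, 4, 3, 7, 6, 5, 4, 3, 2, 1, 5, 1, 0, 2, 3, 4, 5, 6, 7, 3, 4, 5, 8, 7, 3, 2, 1, 4, 3, 2, 3, 7, 8,
  3, 7, 4, 5, 3, 4, 2, 3, 7, 6, 5, 4, 3, 2, 0, 1, 3, 1, 2, 3, 4, 5, 6, 7, 3, 2, 1, 4, 3, 5, 4, 7, 3, 8,
  7, 3, 2, 4, 3, 5, 4, 7, 3, 2, 1, 0, 6, 5, 4, 3, 7, 2, 3, 4, 1, 2, 3, 7, 8, 3, 4, 5, 2, 3, 4, 1, 2, 3,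
  7, 6, 7, 3, 2, 1, 4, 3, 2, 7, 3, 8, 7, 4, 5, 3, 4, 2, 3, 7, 8, 1, 2, 3, 7, 4, 3, 2, 1, 3, 1, 2, 3, 4,
  5, 6, 7, 3, 2, 1, 4, 3, 2, 5, 4, 8, 7, 3, 2, 1, 0, 4, 3, 2, 1, 5, 4, 7, 3, 4, 2, 3, 7, 3, 4, 5, 1, 2,
  3, 4, 0, 1, 2, 3, 7, 8, 5, 2, 3, 4, 1, 2, 3, 7, 6, 5, 4, 3, 2, 1, 3, 8, 5, 1, 2, 3, 4, 5, 6, 7, 3, 2,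
  1, 8, 7, 3, 2, 4, 3, 5, 4, 7, 3, 2, 1, 0, 6, 5, 4, 3, 7, 2, 3, 4, 1, 2, 3, 7, 8, 5, 4, 3, 7, 6, 7, 3,
  2, 1, 4, 3, 2, 7, 3, 8, 7, 4, 5, 3, 4, 2, 3, 7, 8, 1, 2, 3, 7, 4, 3, 2, 1, 3, 1, 2, 3, 4, 5, 7, 3, 2,
  1, 4, 3, 2, 7, 3, 4, 5, 8, 7, 3, 4, 2, 3, 7, 8, 1, 2, 3, 7, 4, 3, 2, 0, 2, 3, 4, 5, 6, 7, 3, 2, 4, 3,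
  5, 4, 7, 3, 2, 1, 8, 7, 3, 4, 2, 3, 7, 8, 5, 4, 3, 7, 6, 5, 4, 3, 1, 2, 0, 1, 3, 1, 2, 3, 4, 5, 7, 3,
  2, 1, 4, 3, 2, 7, 8, 7, 3, 2, 1, 4, 3, 2, 7, 3, 4, 0, 1, 2, 3, 7, 8, 7, 3, 4, 1, 2, 3, 7, 5, 4, 3, 2,
  1, 3, 8, 1, 2, 3, 4, 5, 6, 7, 3, 2, 1, 4, 3, 2, 5, 8, 7, 3, 2, 1, 4, 3, 2, 5, 6, 7, 3, 4, 5, 8, 7, 3,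
  4, 2, 3, 7, 8, 5, 4, 1, 2, 3, 7, 4, 5, 2, 3, 4, 1, 2, 3, 7, 8, 5, 4, 1, 2, 3, 7, 6, 5, 4, 3, 2, 1, 8,
  3, 1, 2, 3, 4, 5, 7, 3, 2, 1, 4, 3, 7, 8, 7, 3, 2, 1, 0, 4, 3, 7, 2, 3, 4, 1, 2, 3, 7, 8, 7, 2, 3, 4,
  1, 2, 3, 7, 5, 4, 3, 2, 1, 3, 1, 0, 2, 1, 3, 4, 5, 6, 7, 3, 4, 5, 8, 7, 3, 2, 4, 3, 7, 8, 1, 2, 3, 7,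
  4, 5, 3, 4, 2, 3, 7, 6, 5, 4, 3, 2, 0, 2, 3, 4, 7, 3, 2, 1, 8, 7, 3, 2, 4, 3, 7, 8, 5, 4, 3, 7, 2, 3,
  4, 1, 2, 3, 7, 5, 4, 3, 2, 1, 3, 1, 2, 3, 4, 5, 6, 7, 3, 2, 1, 4, 3, 2, 5, 4, 3, 8, 7, 3, 2, 1, 0, 4,
  3, 2, 1, 7, 3, 2, 8, 7, 3, 4, 3, 7, 8, 2, 3, 7, 1, 2, 3, 4, 0, 1, 2, 3, 7, 8, 3, 4, 5, 2, 3, 4, 1, 2,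
  3, 7, 6, 5, 4, 3, 2, 0, 2, 1, 3, 2, 4, 3, 7, 3, 4, 2, 3, 1, 2, 0, 1, 7, 6, 4, 7, 1, 0, 2, 1, 3, 2, 4,
  3, 7, 3, 4, 2, 3, 1, 2, 0, 2, 3, 4, 5, 6, 7, 3, 2, 1, 4, 3, 2, 5, 4, 3, 7, 3, 4, 7, 3, 8, 7, 3, 2, 1,
  4, 3, 2, 7, 3, 4, 5, 0, 1, 2, 3, 7, 6, 4, 5, 3, 4, 2, 3, 7, 8, 3, 4, 5, 2, 3, 4, 1, 4, 3, 5, 4, 7, 8,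
  7, 3, 2, 4, 3, 5, 6, 7, 4, 5, 3, 4, 2, 3, 7, 8, 7, 5, 3, 4, 2, 3, 7, 6, 5, 4, 3, 2, 1, 3, 1, 2, 3, 4,
  5, 6, 7, 3, 2, 4, 3, 5, 4, 7, 8, 7, 3, 2, 4, 3, 5, 6, 7, 4, 5, 3, 4, 2, 3, 7, 8, 7, 5, 3, 4, 2, 3, 7,
  6, 5, 4, 3, 2, 1, 3, 1, 2, 3, 4, 5, 6, 7, 3, 2, 1, 4, 3, 2, 5, 4, 3, 8, 7, 3, 2, 4, 3, 5, 4, 6, 7, 3,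
  2, 1, 0, 5, 4, 3, 7, 2, 3, 4, 1, 2, 3, 7, 8, 3, 7, 5, 2, 3, 4, 1, 2, 3, 7, 6, 5, 4, 3, 2, 1, 5, 2, 0,
  3, 4, 2, 3, 1, 2, 0, 1, 0, 1, 0, 2, 1, 3, 2, 4, 3]), (11, 1, [8, 3, 1, 2, 3, 4, 5, 7, 3, 2, 1, 4, 3,
  7, 8, 7, 3, 2, 1, 0, 4, 3, 7, 2, 3, 4, 1, 2, 3, 7, 8, 7, 2, 3, 4, 1, 2, 3, 7, 5, 4, 3, 2, 1, 3, 1, 0,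
  2, 1, 3, 4, 5, 6, 7, 3, 4, 5, 8, 7, 3, 2, 4, 3, 7, 8, 1, 2, 3, 7, 4, 5, 3, 4, 2, 3, 7, 6, 5, 4, 3, 2,
  0, 2, 3, 4, 7, 3, 2, 1, 8, 7, 3, 2, 4, 3, 7, 8, 5, 4, 3, 7, 2, 3, 4, 1, 2, 3, 7, 5, 4, 3, 2, 1, 3, 8,
  3, 1, 2, 3, 4, 5, 6, 7, 3, 2, 1, 4, 3, 2, 5, 8, 7, 3, 2, 1, 4, 3, 2, 5, 4, 7, 3, 2, 4, 8, 7, 3, 2, 4,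
  3, 7, 8, 2, 3, 7, 3, 4, 5, 2, 3, 4, 1, 2, 3, 7, 8, 4, 5, 3, 4, 1, 2, 3, 7, 6, 5, 7, 3, 2, 1, 8, 7, 3,
  2, 4, 3, 7, 8, 5, 4, 3, 7, 2, 3, 4, 1, 2, 3, 7, 5, 4, 3, 2, 1, 3, 8, 5, 3, 1, 2, 3, 4, 5, 6, 7, 3, 2,
  1, 4, 3, 5, 4, 7, 3, 8, 7, 3, 2, 4, 3, 5, 4, 7, 3, 2, 1, 0, 6, 5, 4, 3, 7, 2, 3, 4, 1, 2, 3, 7, 8, 3,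
  4, 5, 2, 3, 4, 1, 2, 3, 7, 6, 5, 4, 3, 2, 1, 3, 1, 0, 2, 3, 4, 5, 7, 3, 2, 4, 3, 7, 8, 7, 3, 2, 4, 5,
  3, 4, 1, 2, 3, 7, 8, 3, 4, 2, 3, 7, 5, 4, 3, 2, 0, 1, 3, 1, 2, 3, 4, 5, 6, 7, 3, 2, 1, 4, 3, 2, 5, 4,
  3, 8, 7, 3, 2, 1, 4, 3, 2, 7, 3, 4, 5, 6, 0, 1, 2, 3, 7, 4, 5, 3, 4, 2, 3, 7, 8, 3, 7, 4, 5, 3, 4, 1,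
  2, 3, 7, 6, 5, 4, 3, 2, 1, 3, 5, 3, 1, 2, 3, 4, 5, 7, 3, 2, 1, 4, 3, 2, 7, 3, 4, 5, 8, 7, 3, 4, 2, 3,
  7, 8, 1, 2, 3, 7, 4, 3, 2, 0, 2, 3, 4, 5, 6, 7, 3, 2, 4, 3, 5, 4, 7, 3, 2, 1, 8, 7, 3, 4, 2, 3, 7, 8,
  5, 4, 3, 7, 6, 5, 4, 3, 1, 2, 0, 1, 3, 1, 2, 3, 4, 5, 7, 3, 2, 1, 4, 3, 2, 7, 8, 7, 3, 2, 1, 4, 3, 2,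
  7, 3, 4, 0, 1, 2, 3, 7, 8, 7, 3, 4, 1, 2, 3, 7, 5, 4, 3, 2, 1, 3, 1, 2, 3, 4, 5, 6, 7, 3, 2, 1, 4, 5,
  8, 7, 3, 2, 1, 4, 3, 2, 5, 4, 7, 3, 2, 1, 4, 5, 8, 7, 3, 2, 4, 3, 7, 8, 5, 4, 3, 7, 6, 5, 2, 3, 4, 1,
  2, 3, 7, 8, 5, 2, 3, 4, 1, 2, 3, 7, 6, 5, 4, 3, 2, 1, 8, 5, 3, 1, 2, 3, 4, 5, 7, 3, 2, 1, 4, 3, 7, 8,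
  7, 3, 2, 1, 0, 4, 3, 7, 2, 3, 4, 1, 2, 3, 7, 8, 7, 2, 3, 4, 1, 2, 3, 7, 5, 4, 3, 2, 1, 3, 1, 0, 2, 1,
  3, 4, 5, 6, 7, 3, 4, 5, 8, 7, 3, 2, 4, 3, 7, 8, 1, 2, 3, 7, 4, 5, 3, 4, 2, 3, 7, 6, 5, 4, 3, 2, 0, 2,
  3, 4, 7, 3, 2, 1, 8, 7, 3, 2, 4, 3, 7, 8, 5, 4, 3, 7, 2, 3, 4, 1, 2, 3, 7, 5, 4, 3, 2, 1, 7, 4, 3, 1,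
  2, 0, 2, 3, 4, 5, 6, 7, 3, 2, 1, 4, 3, 2, 5, 4, 3, 8, 7, 3, 2, 1, 4, 3, 2, 7, 3, 4, 5, 6, 0, 1, 2, 3,
  7, 4, 5, 3, 4, 2, 3, 7, 8, 3, 7, 4, 5, 2, 5, 7, 3, 8, 7, 3, 2, 1, 0, 4, 3, 2, 1, 5, 6, 4, 5, 3, 4, 2,
  3, 7, 8, 3, 7, 4, 5, 3, 4, 8, 7, 3, 2, 4, 3, 5, 4, 7, 3, 2, 1, 0, 6, 5, 4, 3, 7, 2, 3, 4, 1, 2, 3, 7,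
  8, 5, 4, 3, 7, 6, 5, 4, 3, 2, 1, 5, 1, 0, 2, 3, 4, 5, 6, 7, 3, 4, 5, 8, 7, 3, 2, 1, 4, 3, 2, 3, 7, 8,
  3, 7, 4, 5, 3, 4, 2, 3, 7, 6, 5, 4, 3, 2, 0, 1, 3, 1, 2, 3, 4, 5, 6, 7, 3, 2, 1, 4, 3, 5, 4, 7, 3, 8,
  7, 3, 2, 4, 3, 5, 4, 7, 3, 2, 1, 0, 6, 5, 4, 3, 7, 2, 3, 4, 1, 2, 3, 7, 8, 3, 4, 5, 2, 3, 4, 1, 2, 3,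
  7, 6, 7, 3, 2, 1, 4, 3, 2, 7, 3, 8, 7, 4, 5, 3, 4, 2, 3, 7, 8, 1, 2, 3, 7, 4, 3, 2, 1, 3, 1, 2, 3, 4,
  5, 6, 7, 3, 2, 1, 4, 3, 2, 5, 4, 8, 7, 3, 2, 1, 0, 4, 3, 2, 1, 5, 4, 7, 3, 4, 2, 3, 7, 3, 4, 5, 1, 2,
  3, 4, 0, 1, 2, 3, 7, 8, 5, 2, 3, 4, 1, 2, 3, 7, 6, 5, 4, 3, 2, 1, 3, 8, 5, 1, 2, 3, 4, 5, 6, 7, 3, 2,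
  1, 8, 7, 3, 2, 4, 3, 5, 4, 7, 3, 2, 1, 0, 6, 5, 4, 3, 7, 2, 3, 4, 1, 2, 3, 7, 8, 5, 4, 3, 7, 6, 7, 3,
  2, 1, 4, 3, 2, 7, 3, 8, 7, 4, 5, 3, 4, 2, 3, 7, 8, 1, 2, 3, 7, 4, 3, 2, 1, 3, 1, 2, 3, 4, 5, 7, 3, 2,
  1, 4, 3, 2, 7, 3, 4, 5, 8, 7, 3, 4, 2, 3, 7, 8, 1, 2, 3, 7, 4, 3, 2, 0, 2, 3, 4, 5, 6, 7, 3, 2, 4, 3,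
  5, 4, 7, 3, 2, 1, 8, 7, 3, 4, 2, 3, 7, 8, 5, 4, 3, 7, 6, 5, 4, 3, 1, 2, 0, 1, 3, 1, 2, 3, 4, 5, 7, 3,
  2, 1, 4, 3, 2, 7, 8, 7, 3, 2, 1, 4, 3, 2, 7, 3, 4, 0, 1, 2, 3, 7, 8, 7, 3, 4, 1, 2, 3, 7, 5, 4, 3, 2,
  1, 3, 8, 1, 2, 3, 4, 5, 6, 7, 3, 2, 1, 4, 3, 2, 5, 8, 7, 3, 2, 1, 4, 3, 2, 5, 6, 7, 3, 4, 5, 8, 7, 3,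
  4, 2, 3, 7, 8, 5, 4, 1, 2, 3, 7, 4, 5, 2, 3, 4, 1, 2, 3, 7, 8, 5, 4, 1, 2, 3, 7, 6, 5, 4, 3, 2, 1, 8,
  3, 1, 2, 3, 4, 5, 7, 3, 2, 1, 4, 3, 7, 8, 7, 3, 2, 1, 0, 4, 3, 7, 2, 3, 4, 1, 2, 3, 7, 8, 7, 2, 3, 4,
  1, 2, 3, 7, 5, 4, 3, 2, 1, 3, 1, 0, 2, 1, 3, 4, 5, 6, 7, 3, 4, 5, 8, 7, 3, 2, 4, 3, 7, 8, 1, 2, 3, 7,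
  4, 5, 3, 4, 2, 3, 7, 6, 5, 4, 3, 2, 0, 2, 3, 4, 7, 3, 2, 1, 8, 7, 3, 2, 4, 3, 7, 8, 5, 4, 3, 7, 2, 3,
  4, 1, 2, 3, 7, 5, 4, 3, 2, 1, 3, 1, 2, 3, 4, 5, 6, 7, 3, 2, 1, 4, 3, 2, 5, 4, 3, 8, 7, 3, 2, 1, 0, 4,
  3, 2, 1, 7, 3, 2, 8, 7, 3, 4, 3, 7, 8, 2, 3, 7, 1, 2, 3, 4, 0, 1, 2, 3, 7, 8, 3, 4, 5, 2, 3, 4, 1, 2,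
  3, 7, 6, 5, 4, 3, 2, 0, 2, 1, 3, 2, 4, 3, 7, 3, 4, 2, 3, 1, 2, 0, 1, 7, 6, 4, 7, 1, 0, 2, 1, 3, 2, 4,
  3, 7, 3, 4, 2, 3, 1, 2, 0, 2, 3, 4, 5, 6, 7, 3, 2, 1, 4, 3, 2, 5, 4, 3, 7, 3, 4, 7, 3, 8, 7, 3, 2, 1,
  4, 3, 2, 7, 3, 4, 5, 0, 1, 2, 3, 7, 6, 4, 5, 3, 4, 2, 3, 7, 8, 3, 4, 5, 2, 3, 4, 1, 4, 3, 5, 4, 7, 8,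
  7, 3, 2, 4, 3, 5, 6, 7, 4, 5, 3, 4, 2, 3, 7, 8, 7, 5, 3, 4, 2, 3, 7, 6, 5, 4, 3, 2, 1, 3, 1, 2, 3, 4,
  5, 6, 7, 3, 2, 4, 3, 5, 4, 7, 8, 7, 3, 2, 4, 3, 5, 6, 7, 4, 5, 3, 4, 2, 3, 7, 8, 7, 5, 3, 4, 2, 3, 7,
  6, 5, 4, 3, 2, 1, 3, 1, 2, 3, 4, 5, 6, 7, 3, 2, 1, 4, 3, 2, 5, 4, 3, 8, 7, 3, 2, 4, 3, 5, 4, 6, 7, 3,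
  2, 1, 0, 5, 4, 3, 7, 2, 3, 4, 1, 2, 3, 7, 8, 3, 7, 5, 2, 3, 4, 1, 2, 3, 7, 6, 5, 4, 3, 2, 1, 5, 2,
  0]), (12, 2, [3, 1, 0, 2, 3, 4, 5, 7, 3, 2, 4, 3, 7, 8, 7, 3, 2, 4, 5, 3, 4, 1, 2, 3, 7, 8, 3, 4, 2,
  3, 7, 5, 4, 3, 1, 3, 4, 5, 6, 7, 3, 4, 5, 8, 7, 3, 2, 4, 3, 7, 8, 1, 2, 3, 7, 4, 5, 3, 4, 2, 3, 7, 6,
  5, 4, 3, 2, 0, 2, 3, 4, 5, 7, 3, 2, 1, 4, 3, 2, 7, 3, 8, 7, 4, 5, 3, 4, 2, 3, 7, 8, 1, 2, 3, 7, 4, 3,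
  2, 1, 3, 1, 0, 2, 1, 3, 4, 5, 6, 7, 3, 4, 5, 8, 7, 3, 2, 4, 3, 7, 8, 1, 2, 3, 7, 4, 5, 3, 4, 2, 3, 7,
  6, 5, 4, 3, 2, 0, 2, 3, 4, 5, 7, 3, 2, 1, 4, 3, 2, 7, 3, 8, 7, 4, 5, 3, 4, 2, 3, 7, 8, 1, 2, 3, 7, 4,
  3, 2, 0, 2, 1, 3, 4, 5, 6, 7, 3, 4, 5, 8, 7, 3, 2, 4, 3, 7, 8, 1, 2, 3, 7, 4, 5, 3, 4, 2, 3, 7, 6, 5,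
  4, 3, 1, 3, 4, 5, 6, 7, 3, 4, 5, 8, 7, 3, 2, 4, 3, 7, 8, 1, 2, 3, 7, 4, 5, 3, 4, 2, 3, 7, 6, 5, 4, 3,
  2, 0, 1, 3, 1, 0, 2, 1, 3, 4, 5, 6, 7, 3, 4, 5, 8, 7, 3, 2, 4, 3, 7, 8, 1, 2, 3, 7, 4, 5, 3, 4, 2, 3,
  7, 6, 5, 4, 3, 2, 0, 2, 3, 4, 5, 6, 7, 3, 2, 1, 4, 3, 2, 5, 4, 8, 7, 3, 2, 1, 0, 4, 3, 2, 1, 5, 4, 7,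
  3, 4, 2, 3, 7, 3, 4, 5, 1, 2, 3, 4, 0, 1, 2, 3, 7, 8, 5, 2, 3, 4, 1, 2, 3, 7, 6, 5, 4, 3, 2, 1, 3, 1,
  2, 3, 4, 5, 6, 7, 3, 4, 5, 8, 7, 3, 2, 1, 4, 3, 2, 7, 3, 4, 5, 6, 0, 1, 2, 3, 7, 4, 5, 3, 4, 2, 3, 7,
  8, 4, 5, 8, 7, 3, 2, 1, 4, 3, 2, 5, 4, 7, 3, 2, 1, 4, 8, 7, 3, 2, 4, 3, 7, 8, 5, 4, 2, 3, 7, 4, 5, 2,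
  3, 4, 1, 2, 3, 7, 8, 5, 4, 1, 2, 3, 7, 6, 5, 4, 3, 2, 1, 8, 1, 2, 3, 4, 5, 6, 7, 3, 2, 1, 4, 3, 2, 5,
  8, 7, 3, 2, 1, 4, 3, 2, 5, 6, 7, 3, 4, 5, 8, 7, 3, 2, 4, 3, 7, 8, 5, 4, 1, 2, 3, 7, 4, 5, 2, 3, 4, 1,
  2, 3, 7, 8, 5, 4, 1, 2, 3, 7, 6, 7, 3, 2, 1, 4, 3, 7, 8, 7, 3, 2, 1, 0, 4, 3, 7, 2, 3, 4, 1, 2, 3, 7,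
  8, 7, 2, 3, 4, 1, 2, 3, 7, 5, 4, 3, 2, 1, 3, 1, 2, 3, 4, 5, 6, 7, 3, 2, 4, 3, 5, 4, 7, 8, 7, 3, 2, 4,
  3, 5, 6, 7, 4, 5, 3, 4, 2, 3, 7, 8, 7, 5, 3, 4, 2, 3, 7, 6, 5, 4, 3, 2, 1, 3, 1, 2, 3, 4, 5, 6, 7, 3,
  2, 1, 8, 7, 3, 2, 4, 3, 5, 4, 7, 3, 2, 1, 0, 6, 5, 4, 3, 7, 2, 3, 4, 1, 2, 3, 7, 8, 5, 4, 3, 7, 6, 5,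
  7, 3, 2, 1, 8, 7, 3, 2, 4, 3, 5, 4, 7, 8, 3, 7, 2, 3, 4, 1, 2, 3, 7, 6, 7, 3, 4, 5, 8, 7, 3, 2, 1, 4,
  3, 2, 7, 3, 4, 5, 6, 0, 1, 2, 3, 7, 4, 5, 3, 4, 2, 3, 7, 8, 1, 2, 3, 7, 6, 5, 4, 3, 2, 1, 3, 1, 2, 3,
  4, 5, 6, 7, 3, 2, 1, 4, 3, 2, 5, 4, 8, 7, 3, 2, 1, 0, 4, 3, 2, 1, 5, 4, 7, 3, 4, 2, 3, 7, 3, 4, 5, 1,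
  2, 3, 4, 0, 1, 2, 3, 7, 8, 5, 2, 3, 4, 1, 2, 3, 7, 6, 5, 4, 3, 2, 1, 3, 5, 7, 1, 0, 2, 1, 3, 2, 4, 3,
  7, 3, 4, 2, 3, 1, 2, 0, 2, 3, 4, 5, 6, 7, 3, 2, 1, 4, 3, 2, 5, 4, 3, 8, 7, 3, 2, 1, 0, 4, 3, 2, 1, 7,
  3, 2, 8, 7, 3, 4, 3, 7, 8, 2, 3, 7, 1, 2, 3, 4, 0, 1, 2, 3, 7, 8, 3, 4, 5, 2, 5, 4, 7, 3, 8, 7, 3, 2,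
  4, 3, 5, 4, 7, 3, 2, 1, 0, 6, 5, 4, 3, 7, 2, 3, 4, 1, 2, 3, 7, 8, 3, 4, 5, 2, 3, 4, 1, 4, 3, 5, 7, 8,
  7, 3, 2, 4, 3, 5, 4, 7, 6, 5, 3, 4, 2, 3, 7, 8, 7, 4, 5, 3, 4, 2, 3, 7, 6, 5, 4, 3, 2, 1, 3, 1, 2, 3,
  4, 5, 6, 7, 3, 2, 4, 3, 5, 4, 7, 8, 7, 3, 2, 4, 3, 5, 6, 7, 4, 5, 3, 4, 2, 3, 7, 8, 7, 5, 3, 4, 1, 4,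
  3, 2, 5, 4, 3, 8, 7, 3, 2, 1, 4, 3, 2, 7, 3, 4, 5, 6, 0, 1, 2, 3, 7, 4, 5, 3, 4, 2, 3, 7, 8, 3, 7, 4,
  5, 3, 4, 1, 2, 3, 7, 6, 5, 4, 3, 2, 1, 4, 5, 4, 3, 7, 6, 5, 4, 3, 1, 2, 0, 1, 0, 1, 0, 2, 1, 3, 4, 5,
  6, 7, 3, 4, 5]), (13, 1, [8, 3, 1, 2, 3, 4, 5, 6, 7, 3, 2, 1, 4, 3, 2, 5, 4, 8, 7, 3, 2, 1, 0, 4, 3,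
  2, 1, 5, 4, 7, 3, 4, 2, 3, 7, 3, 4, 5, 1, 2, 3, 4, 0, 1, 2, 3, 7, 8, 5, 2, 3, 4, 1, 2, 3, 7, 6, 5, 4,
  3, 2, 1, 3, 1, 2, 3, 4, 5, 6, 7, 3, 2, 1, 4, 3, 2, 5, 4, 8, 7, 3, 2, 1, 4, 3, 2, 5, 7, 3, 4, 8, 7, 3,
  2, 1, 3, 7, 8, 5, 4, 3, 7, 6, 5, 2, 3, 4, 0, 1, 2, 3, 7, 8, 5, 2, 3, 4, 1, 2, 3, 7, 6, 5, 4, 3, 2, 1,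
  8, 1, 2, 3, 4, 5, 6, 7, 3, 2, 1, 4, 3, 2, 5, 4, 8, 7, 3, 2, 1, 4, 3, 2, 5, 7, 3, 4, 8, 7, 3, 2, 1, 3,
  7, 8, 5, 4, 3, 7, 6, 5, 2, 3, 4, 0, 1, 2, 3, 7, 8, 5, 2, 3, 4, 1, 2, 3, 7, 6, 5, 4, 3, 2, 1, 8, 5, 8,
  3, 1, 2, 3, 4, 5, 6, 7, 3, 2, 1, 4, 3, 2, 5, 8, 7, 3, 2, 1, 4, 3, 2, 5, 4, 7, 3, 2, 4, 8, 7, 3, 2, 4,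
  3, 7, 8, 2, 3, 7, 3, 4, 5, 2, 3, 4, 1, 2, 3, 7, 8, 4, 5, 3, 4, 1, 2, 3, 7, 6, 5, 7, 3, 2, 1, 8, 7, 3,
  2, 4, 3, 7, 8, 5, 4, 3, 7, 2, 3, 4, 1, 2, 3, 7, 6, 7, 3, 2, 1, 4, 3, 2, 5, 8, 7, 3, 2, 1, 4, 3, 2, 5,
  4, 7, 3, 2, 4, 8, 7, 3, 2, 4, 3, 7, 8, 2, 3, 7, 3, 4, 5, 2, 3, 4, 1, 2, 3, 7, 8, 4, 5, 3, 4, 1, 2, 3,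
  7, 6, 5, 7, 3, 2, 1, 8, 7, 3, 2, 4, 3, 7, 8, 5, 4, 3, 7, 2, 3, 4, 1, 2, 3, 7, 5, 4, 3, 2, 1, 3, 1, 2,
  3, 4, 5, 6, 7, 3, 2, 1, 4, 3, 2, 5, 8, 7, 3, 2, 1, 4, 3, 2, 5, 7, 3, 4, 8, 7, 3, 2, 1, 0, 2, 3, 7, 8,
  5, 4, 3, 7, 6, 5, 2, 3, 4, 1, 2, 3, 7, 8, 5, 2, 3, 4, 1, 2, 3, 7, 6, 5, 4, 3, 2, 1, 3, 1, 2, 3, 4, 5,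
  6, 7, 3, 2, 1, 4, 3, 2, 5, 4, 8, 7, 3, 2, 1, 0, 4, 3, 2, 1, 5, 4, 7, 3, 4, 2, 3, 7, 3, 4, 5, 1, 2, 3,
  4, 0, 1, 2, 3, 7, 8, 5, 2, 3, 4, 1, 2, 3, 7, 6, 5, 4, 3, 2, 1, 3, 8, 1, 2, 3, 4, 7, 3, 2, 1, 8, 7, 3,
  2, 4, 3, 5, 4, 7, 8, 3, 7, 2, 3, 4, 1, 2, 3, 7, 6, 7, 3, 4, 5, 8, 7, 3, 2, 1, 4, 3, 2, 7, 3, 4, 5, 6,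
  0, 1, 2, 3, 7, 4, 5, 3, 4, 2, 3, 7, 8, 1, 2, 3, 7, 6, 5, 4, 3, 2, 1, 3, 1, 2, 3, 4, 5, 7, 3, 2, 1, 4,
  3, 2, 7, 3, 4, 5, 8, 7, 3, 4, 2, 3, 7, 8, 1, 2, 3, 7, 4, 3, 2, 0, 2, 3, 4, 5, 6, 7, 3, 2, 4, 3, 5, 4,
  7, 3, 2, 1, 8, 7, 3, 4, 2, 3, 7, 8, 5, 4, 3, 7, 6, 5, 4, 3, 1, 2, 0, 1, 3, 1, 2, 3, 4, 5, 7, 3, 2, 1,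
  4, 3, 2, 7, 8, 7, 3, 2, 1, 4, 3, 2, 7, 3, 4, 0, 1, 2, 3, 7, 8, 7, 3, 4, 1, 2, 3, 7, 5, 4, 3, 2, 1, 3,
  1, 2, 3, 4, 5, 6, 7, 3, 2, 1, 4, 5, 8, 7, 3, 2, 1, 4, 3, 2, 5, 4, 7, 3, 2, 1, 4, 5, 8, 7, 3, 2, 4, 3,
  7, 8, 5, 4, 3, 7, 6, 5, 2, 3, 4, 1, 2, 3, 7, 8, 5, 2, 3, 4, 1, 2, 3, 7, 6, 5, 4, 3, 2, 1, 8, 5, 3, 1,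
  2, 3, 4, 5, 7, 3, 2, 1, 4, 3, 7, 8, 7, 3, 2, 1, 0, 4, 3, 7, 2, 3, 4, 1, 2, 3, 7, 8, 7, 2, 3, 4, 1, 2,
  3, 7, 5, 4, 3, 2, 1, 3, 1, 0, 2, 1, 3, 4, 5, 6, 7, 3, 4, 5, 8, 7, 3, 2, 4, 3, 7, 8, 1, 2, 3, 7, 4, 5,
  3, 4, 2, 3, 7, 6, 5, 4, 3, 2, 0, 2, 3, 4, 7, 3, 2, 1, 8, 7, 3, 2, 4, 3, 7, 8, 5, 4, 3, 7, 2, 3, 4, 1,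
  2, 3, 7, 5, 4, 3, 2, 1, 7, 4, 3, 1, 2, 0, 2, 3, 4, 5, 6, 7, 3, 2, 1, 4, 3, 2, 5, 4, 3, 8, 7, 3, 2, 1,
  4, 3, 2, 7, 3, 4, 5, 6, 0, 1, 2, 3, 7, 4, 5, 3, 4, 2, 3, 7, 8, 3, 7, 4, 5, 2, 5, 7, 3, 8, 7, 3, 2, 1,
  0, 4, 3, 2, 1, 5, 6, 4, 5, 3, 4, 2, 3, 7, 8, 3, 7, 4, 5, 3, 4, 8, 7, 3, 2, 4, 3, 5, 4, 7, 3, 2, 1, 0,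
  6, 5, 4, 3, 7, 2, 3, 4, 1, 2, 3, 7, 8, 5, 4, 3, 7, 6, 5, 4, 3, 2, 1, 5, 1, 0, 2, 3, 4, 5, 6, 7, 3, 4,
  5, 8, 7, 3, 2, 1, 4, 3, 2, 3, 7, 8, 3, 7, 4, 5, 3, 4, 2, 3, 7, 6, 5, 4, 3, 2, 0, 1, 3, 1, 2, 3, 4, 5,
  6, 7, 3, 2, 1, 4, 3, 5, 4, 7, 3, 8, 7, 3, 2, 4, 3, 5, 4, 7, 3, 2, 1, 0, 6, 5, 4, 3, 7, 2, 3, 4, 1, 2,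
  3, 7, 8, 3, 4, 5, 2, 3, 4, 1, 2, 3, 7, 6, 7, 3, 2, 1, 4, 3, 2, 7, 3, 8, 7, 4, 5, 3, 4, 2, 3, 7, 8, 1,
  2, 3, 7, 4, 3, 2, 1, 3, 1, 2, 3, 4, 5, 6, 7, 3, 2, 1, 4, 3, 2, 5, 4, 8, 7, 3, 2, 1, 0, 4, 3, 2, 1, 5,
  4, 7, 3, 4, 2, 3, 7, 3, 4, 5, 1, 2, 3, 4, 0, 1, 2, 3, 7, 8, 5, 2, 3, 4, 1, 2, 3, 7, 6, 5, 4, 3, 2, 1,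
  3, 8, 5, 1, 2, 3, 4, 5, 6, 7, 3, 2, 1, 8, 7, 3, 2, 4, 3, 5, 4, 7, 3, 2, 1, 0, 6, 5, 4, 3, 7, 2, 3, 4,
  1, 2, 3, 7, 8, 5, 4, 3, 7, 6, 7, 3, 2, 1, 4, 3, 2, 7, 3, 8, 7, 4, 5, 3, 4, 2, 3, 7, 8, 1, 2, 3, 7, 4,
  3, 2, 1, 3, 1, 2, 3, 4, 5, 7, 3, 2, 1, 4, 3, 2, 7, 3, 4, 5, 8, 7, 3, 4, 2, 3, 7, 8, 1, 2, 3, 7, 4, 3,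
  2, 0, 2, 3, 4, 5, 6, 7, 3, 2, 4, 3, 5, 4, 7, 3, 2, 1, 8, 7, 3, 4, 2, 3, 7, 8, 5, 4, 3, 7, 6, 5, 4, 3,
  1, 2, 0, 1, 3, 1, 2, 3, 4, 5, 7, 3, 2, 1, 4, 3, 2, 7, 8, 7, 3, 2, 1, 4, 3, 2, 7, 3, 4, 0, 1, 2, 3, 7,
  8, 7, 3, 4, 1, 2, 3, 7, 5, 4, 3, 2, 1, 3, 8, 1, 2, 3, 4, 5, 6, 7, 3, 2, 1, 4, 3, 2, 5, 8, 7, 3, 2, 1,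
  4, 3, 2, 5, 6, 7, 3, 4, 5, 8, 7, 3, 4, 2, 3, 7, 8, 5, 4, 1, 2, 3, 7, 4, 5, 2, 3, 4, 1, 2, 3, 7, 8, 5,
  4, 1, 2, 3, 7, 6, 5, 4, 3, 2, 1, 8, 3, 1, 2, 3, 4, 5, 7, 3, 2, 1, 4, 3, 7, 8, 7, 3, 2, 1, 0, 4, 3, 7,
  2, 3, 4, 1, 2, 3, 7, 8, 7, 2, 3, 4, 1, 2, 3, 7, 5, 4, 3, 2, 1, 3, 1, 0, 2, 1, 3, 4, 5, 6, 7, 3, 4, 5,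
  8, 7, 3, 2, 4, 3, 7, 8, 1, 2, 3, 7, 4, 5, 3, 4, 2, 3, 7, 6, 5, 4, 3, 2, 0, 2, 3, 4, 7, 3, 2, 1, 8, 7,
  3, 2, 4, 3, 7, 8, 5, 4, 3, 7, 2, 3, 4, 1, 2, 3, 7, 5, 4, 3, 2, 1, 3, 1, 2, 3, 4, 5, 6, 7, 3, 2, 1, 4,
  3, 2, 5, 4, 3, 8, 7, 3, 2, 1, 0, 4, 3, 2, 1, 7, 3, 2, 8, 7, 3, 4, 3, 7, 8, 2, 3, 7, 1, 2, 3, 4, 0, 1,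
  2, 3, 7, 8, 3, 4, 5, 2, 3, 4, 1, 2, 3, 7, 6, 5, 4, 3, 2, 0, 2, 1, 3, 2, 4, 3, 7, 3, 4, 2, 3, 1, 2, 0,
  1, 7, 6, 4, 7, 1, 0, 2, 1, 3, 2, 4, 3, 7, 3, 4, 2, 3, 1, 2, 0, 2, 3, 4, 5, 6, 7, 3, 2, 1, 4, 3, 2, 5,
  4, 3, 7, 3, 4, 7, 3, 8, 7, 3, 2, 1, 4, 3, 2, 7, 3, 4, 5, 0, 1, 2, 3, 7, 6, 4, 5, 3, 4, 2, 3, 7, 8, 3,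
  4, 5, 2, 3, 4, 1, 4, 3, 5, 4, 7, 8, 7, 3, 2, 4, 3, 5, 6, 7, 4, 5, 3, 4, 2, 3, 7, 8, 7, 5, 3, 4, 2, 3,
  7, 6, 5, 4, 3, 2, 1, 3, 1, 2, 3, 4, 5, 6, 7, 3, 2, 4, 3, 5, 4, 7, 8, 7, 3, 2, 4, 3, 5, 6, 7, 4, 5, 3,
  4, 2, 3, 7, 8, 7, 5, 3, 4, 2, 3, 7, 6, 5, 4, 3, 2, 1, 3, 1, 2, 3, 4, 5, 6, 7, 3, 2, 1, 4, 3, 2, 5, 4,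
  3, 8, 7, 3, 2, 4, 3, 5, 4, 6, 7, 3, 2, 1, 0, 5, 4, 3, 7, 2, 3, 4, 1, 2, 3, 7, 8, 3, 7, 5, 2, 3, 4, 1,
  2, 3, 7, 6, 5, 4, 3, 2, 1, 5, 2, 0, 3, 4, 2, 3, 1, 2, 0, 1, 0, 1, 0, 2, 1, 3, 2, 4, 3]), (14, 1, [8,
  7, 1, 2, 3, 4, 0, 1, 2, 3, 7, 8, 3, 4, 5, 2, 3, 4, 1, 2, 3, 7, 6, 5, 4, 3, 2, 1, 3, 1, 0, 2, 1, 3, 4,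
  5, 6, 7, 3, 4, 5, 8, 7, 3, 2, 4, 3, 7, 8, 1, 2, 3, 7, 4, 5, 3, 4, 2, 3, 7, 6, 5, 4, 3, 2, 0, 2, 3, 4,
  5, 7, 3, 2, 1, 4, 3, 2, 7, 3, 8, 7, 4, 5, 3, 4, 2, 3, 7, 8, 1, 2, 3, 7, 4, 3, 2, 0, 2, 3, 4, 5, 7, 3,
  2, 4, 3, 7, 8, 7, 3, 2, 4, 5, 3, 4, 1, 2, 3, 7, 8, 3, 4, 2, 3, 7, 5, 4, 3, 1, 3, 4, 5, 6, 7, 3, 4, 5,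
  8, 7, 3, 2, 4, 3, 7, 8, 1, 2, 3, 7, 4, 5, 3, 4, 2, 3, 7, 6, 5, 4, 3, 2, 0, 1, 3, 1, 0, 2, 1, 3, 4, 5,
  6, 7, 3, 4, 5, 8, 7, 3, 2, 4, 3, 7, 8, 1, 2, 3, 7, 4, 5, 3, 4, 2, 3, 7, 6, 5, 4, 3, 2, 0, 2, 3, 4, 5,
  7, 3, 2, 1, 4, 3, 2, 7, 3, 8, 7, 4, 5, 3, 4, 2, 3, 7, 8, 1, 2, 3, 7, 5, 7, 3, 2, 1, 4, 3, 2, 7, 3, 8,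
  7, 4, 5, 3, 4, 2, 3, 7, 8, 1, 2, 3, 7, 4, 3, 2, 1, 3, 1, 0, 2, 1, 3, 4, 5, 6, 7, 3, 4, 5, 8, 7, 3, 2,
  4, 3, 7, 8, 1, 2, 3, 7, 4, 5, 3, 4, 2, 3, 7, 6, 5, 4, 3, 2, 0, 2, 3, 4, 5, 7, 3, 2, 1, 4, 3, 2, 7, 3,
  8, 7, 4, 5, 3, 4, 2, 3, 7, 8, 1, 2, 3, 7, 5, 6, 7, 3, 2, 1, 4, 3, 2, 5, 4, 8, 7, 3, 2, 1, 0, 4, 3, 2,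
  1, 5, 4, 7, 3, 4, 2, 3, 7, 3, 4, 5, 1, 2, 3, 4, 0, 1, 2, 3, 7, 8, 5, 2, 3, 4, 1, 2, 3, 7, 6, 5, 4, 3,
  2, 1, 3, 1, 2, 3, 4, 5, 6, 7, 3, 2, 1, 4, 5, 8, 7, 3, 2, 1, 4, 3, 2, 5, 4, 7, 3, 2, 1, 4, 5, 8, 7, 3,
  4, 0, 1, 2, 3, 7, 8, 4, 3, 7, 5, 2, 3, 4, 1, 2, 3, 7, 8, 5, 2, 3, 4, 1, 2, 3, 7, 6, 5, 4, 3, 2, 1, 5,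
  8, 3, 1, 2, 3, 4, 5, 6, 7, 3, 2, 1, 4, 3, 2, 5, 4, 8, 7, 3, 2, 1, 0, 4, 3, 2, 1, 5, 4, 7, 3, 4, 2, 3,
  7, 3, 4, 5, 1, 2, 3, 4, 0, 1, 2, 3, 7, 8, 5, 2, 3, 4, 1, 2, 3, 7, 6, 5, 4, 3, 2, 1, 3, 8, 1, 2, 3, 4,
  5, 6, 7, 3, 2, 1, 4, 3, 2, 5, 7, 3, 8, 7, 3, 2, 1, 0, 4, 3, 2, 1, 5, 6, 4, 5, 3, 4, 2, 3, 7, 8, 3, 7,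
  4, 5, 3, 4, 8, 7, 3, 2, 4, 3, 5, 4, 7, 3, 2, 1, 0, 6, 5, 4, 3, 7, 2, 3, 4, 1, 2, 3, 7, 8, 5, 4, 3, 7,
  6, 5, 4, 3, 2, 1, 5, 3, 1, 2, 3, 4, 5, 7, 3, 2, 1, 4, 3, 2, 7, 3, 4, 5, 8, 7, 3, 4, 2, 3, 7, 8, 1, 2,
  3, 7, 4, 3, 2, 0, 2, 3, 4, 5, 6, 7, 3, 2, 4, 3, 5, 4, 7, 3, 2, 1, 8, 7, 3, 4, 2, 3, 7, 8, 5, 4, 3, 7,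
  6, 5, 4, 3, 1, 2, 0, 1, 3, 1, 2, 3, 4, 5, 7, 3, 2, 1, 4, 3, 2, 7, 8, 7, 3, 2, 1, 4, 3, 2, 7, 3, 4, 0,
  1, 2, 3, 7, 8, 7, 3, 4, 1, 2, 3, 7, 5, 4, 3, 2, 1, 3, 8, 1, 2, 3, 4, 5, 6, 7, 3, 2, 1, 4, 3, 2, 5, 8,
  7, 3, 2, 1, 4, 3, 2, 5, 6, 7, 3, 4, 5, 8, 7, 3, 4, 2, 3, 7, 8, 5, 4, 1, 2, 3, 7, 4, 5, 2, 3, 4, 1, 2,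
  3, 7, 8, 5, 4, 1, 2, 3, 7, 6, 5, 4, 3, 2, 1, 8, 3, 1, 2, 3, 4, 5, 7, 3, 2, 1, 4, 3, 7, 8, 7, 3, 2, 1,
  0, 4, 3, 7, 2, 3, 4, 1, 2, 3, 7, 8, 7, 2, 3, 4, 1, 2, 3, 7, 5, 4, 3, 2, 1, 3, 1, 0, 2, 1, 3, 4, 5, 6,
  7, 3, 4, 5, 8, 7, 3, 2, 4, 3, 7, 8, 1, 2, 3, 7, 4, 5, 3, 4, 2, 3, 7, 6, 5, 4, 3, 2, 0, 2, 3, 4, 7, 3,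
  2, 1, 8, 7, 3, 2, 4, 3, 7, 8, 5, 4, 3, 7, 2, 3, 4, 1, 2, 3, 7, 5, 4, 3, 2, 1, 3, 7, 1, 0, 2, 1, 3, 2,
  4, 3, 7, 3, 4, 2, 3, 1, 2, 0, 2, 3, 4, 5, 6, 7, 3, 2, 1, 4, 3, 2, 5, 4, 3, 7, 3, 4, 7, 3, 8, 7, 3, 2,
  1, 4, 3, 2, 7, 3, 4, 5, 0, 1, 2, 3, 7, 6, 4, 5, 3, 4, 2, 3, 7, 8, 3, 4, 5, 2, 3, 4, 1, 4, 3, 5, 4, 7,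
  8, 7, 3, 2, 4, 3, 5, 6, 7, 4, 5, 3, 4, 2, 3, 7, 8, 7, 5, 3, 4, 2, 3, 7, 6, 5, 4, 3, 2, 1, 3, 1, 2, 3,
  4, 5, 6, 7, 3, 2, 4, 3, 5, 4, 7, 8, 7, 3, 2, 4, 3, 5, 6, 7, 4, 5, 3, 4, 2, 3, 7, 8, 7, 5, 3, 4, 2, 3,
  7, 6, 5, 4, 3, 2, 1, 3, 1, 2, 3, 4, 5, 6, 7, 3, 2, 1, 4, 3, 2, 5, 4, 3, 8, 7, 3, 2, 4, 3, 5, 4, 6, 7,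
  3, 2, 1, 0, 5, 4, 3, 7, 2, 3, 4, 1, 2, 3, 7, 8, 3, 7, 5, 2, 3, 4, 1, 2, 3, 7, 6, 5, 4, 3, 2, 1, 5, 2,
  0, 3, 7, 4, 5, 3, 4, 1, 2, 3, 7, 6, 5, 4, 3, 2, 1, 0, 1, 2, 3, 4, 5, 6, 7, 3, 2, 1, 4, 3, 5, 4, 7,
  3]), (15, 2, [8, 3, 1, 2, 3, 4, 5, 7, 3, 2, 1, 4, 3, 7, 8, 7, 3, 2, 1, 0, 4, 3, 7, 2, 3, 4, 1, 2, 3,
  7, 8, 7, 2, 3, 4, 1, 2, 3, 7, 5, 4, 3, 2, 1, 3, 1, 0, 2, 1, 3, 4, 5, 6, 7, 3, 4, 5, 8, 7, 3, 2, 4, 3,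
  7, 8, 1, 2, 3, 7, 4, 5, 3, 4, 2, 3, 7, 6, 5, 4, 3, 2, 0, 2, 3, 4, 7, 3, 2, 1, 8, 7, 3, 2, 4, 3, 7, 8,
  5, 4, 3, 7, 2, 3, 4, 1, 2, 3, 7, 5, 4, 3, 2, 1, 3, 8, 3, 1, 2, 3, 4, 5, 6, 7, 3, 2, 1, 4, 3, 2, 5, 8,
  7, 3, 2, 1, 4, 3, 2, 5, 4, 7, 3, 2, 4, 8, 7, 3, 2, 4, 3, 7, 8, 2, 3, 7, 3, 4, 5, 2, 3, 4, 1, 2, 3, 7,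
  8, 4, 5, 3, 4, 1, 2, 3, 7, 6, 5, 7, 3, 2, 1, 8, 7, 3, 2, 4, 3, 7, 8, 5, 4, 3, 7, 2, 3, 4, 1, 2, 3, 7,
  6, 7, 3, 2, 1, 4, 3, 2, 5, 8, 7, 3, 2, 1, 4, 3, 2, 5, 4, 7, 3, 2, 4, 8, 7, 3, 2, 4, 3, 7, 8, 2, 3, 7,
  3, 4, 5, 2, 3, 4, 1, 2, 3, 7, 8, 4, 5, 3, 4, 1, 2, 3, 7, 6, 5, 7, 3, 2, 1, 8, 7, 3, 2, 4, 3, 7, 8, 5,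
  4, 3, 7, 2, 3, 4, 1, 2, 3, 7, 5, 4, 3, 2, 1, 3, 8, 5, 8, 3, 1, 2, 3, 4, 5, 6, 7, 3, 2, 1, 4, 3, 2, 5,
  4, 8, 7, 3, 2, 1, 4, 3, 2, 5, 4, 3, 7, 3, 4, 5, 8, 7, 3, 4, 3, 7, 8, 2, 3, 7, 4, 5, 1, 2, 3, 4, 0, 1,
  2, 3, 7, 8, 5, 2, 3, 4, 1, 2, 3, 7, 6, 5, 4, 3, 2, 1, 3, 1, 0, 2, 1, 3, 4, 5, 6, 7, 3, 4, 5, 8, 7, 3,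
  2, 4, 3, 7, 8, 1, 2, 3, 7, 4, 5, 3, 4, 2, 3, 7, 6, 5, 4, 3, 2, 0, 1, 3, 1, 2, 3, 4, 5, 6, 7, 3, 2, 1,
  4, 3, 2, 5, 4, 8, 7, 3, 2, 1, 0, 4, 3, 2, 1, 5, 4, 7, 3, 4, 2, 3, 7, 3, 4, 5, 1, 2, 3, 4, 0, 1, 2, 3,
  7, 8, 5, 2, 3, 4, 1, 2, 3, 7, 6, 5, 7, 3, 2, 1, 8, 7, 3, 2, 4, 3, 7, 8, 5, 4, 3, 7, 2, 3, 4, 1, 2, 3,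
  7, 5, 4, 3, 2, 1, 3, 8, 3, 1, 2, 3, 4, 5, 7, 3, 2, 1, 4, 3, 2, 7, 3, 4, 5, 8, 7, 3, 4, 2, 3, 7, 8, 1,
  2, 3, 7, 4, 3, 2, 0, 2, 3, 4, 5, 6, 7, 3, 2, 4, 3, 5, 4, 7, 3, 2, 1, 8, 7, 3, 4, 2, 3, 7, 8, 5, 4, 3,
  7, 6, 5, 4, 3, 1, 2, 0, 1, 3, 1, 2, 3, 4, 5, 7, 3, 2, 1, 4, 3, 2, 7, 8, 7, 3, 2, 1, 4, 3, 2, 7, 3, 4,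
  0, 1, 2, 3, 7, 8, 7, 3, 4, 1, 2, 3, 7, 5, 4, 3, 2, 1, 3, 8, 1, 2, 3, 4, 5, 6, 7, 3, 2, 1, 4, 3, 2, 5,
  8, 7, 3, 2, 1, 4, 3, 2, 5, 6, 7, 3, 4, 5, 8, 7, 3, 4, 2, 3, 7, 8, 5, 4, 1, 2, 3, 7, 4, 5, 2, 3, 4, 1,
  2, 3, 7, 8, 5, 4, 1, 2, 3, 7, 6, 5, 4, 3, 2, 1, 8, 3, 1, 2, 3, 4, 5, 7, 3, 2, 1, 4, 3, 7, 8, 7, 3, 2,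
  1, 0, 4, 3, 7, 2, 3, 4, 1, 2, 3, 7, 8, 7, 2, 3, 4, 1, 2, 3, 7, 5, 4, 3, 2, 1, 3, 1, 0, 2, 1, 3, 4, 5,
  6, 7, 3, 4, 5, 8, 7, 3, 2, 4, 3, 7, 8, 1, 2, 3, 7, 4, 5, 3, 4, 2, 3, 7, 6, 5, 4, 3, 2, 0, 2, 3, 4, 7,
  3, 2, 1, 8, 7, 3, 2, 4, 3, 7, 8, 5, 4, 3, 7, 2, 3, 4, 1, 2, 3, 7, 5, 4, 3, 2, 0, 2, 3, 4, 5, 7, 3, 2,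
  4, 3, 7, 8, 7, 3, 2, 4, 5, 3, 4, 1, 2, 3, 7, 8, 3, 4, 2, 3, 7, 5, 4, 3, 1, 3, 4, 5, 6, 7, 3, 4, 5, 8,
  7, 3, 2, 4, 3, 7, 8, 1, 2, 3, 7, 4, 5, 3, 4, 2, 3, 7, 6, 5, 4, 3, 2, 0, 2, 3, 4, 5, 7, 3, 2, 1, 4, 3,
  2, 7, 3, 8, 7, 4, 5, 3, 4, 2, 3, 7, 8, 1, 2, 3, 7, 4, 3, 2, 1, 3, 1, 0, 2, 1, 3, 4, 5, 6, 7, 3, 4, 5,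
  8, 7, 3, 2, 4, 3, 7, 8, 1, 2, 3, 7, 4, 5, 3, 4, 2, 3, 7, 6, 5, 4, 3, 2, 0, 2, 3, 4, 5, 7, 3, 2, 1, 4,
  3, 2, 7, 3, 8, 7, 4, 5, 3, 4, 2, 3, 7, 8, 1, 2, 3, 7, 4, 3, 2, 0, 2, 1, 3, 4, 5, 6, 7, 3, 4, 5, 8, 7,
  3, 2, 4, 3, 7, 8, 1, 2, 3, 7, 4, 5, 3, 4, 2, 3, 7, 6, 5, 4, 3, 1, 3, 4, 5, 6, 7, 3, 4, 5, 8, 7, 3, 2,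
  4, 3, 7, 8, 1, 2, 3, 7, 4, 5, 3, 4, 2, 3, 7, 6, 5, 4, 3, 2, 0, 1, 3, 1, 0, 2, 1, 3, 4, 5, 6, 7, 3, 4,
  5, 8, 7, 3, 2, 4, 3, 7, 8, 1, 2, 3, 7, 4, 5, 3, 4, 2, 3, 7, 6, 5, 4, 3, 2, 0, 2, 3, 4, 5, 6, 7, 3, 2,
  1, 4, 3, 2, 5, 4, 8, 7, 3, 2, 1, 0, 4, 3, 2, 1, 5, 4, 7, 3, 4, 2, 3, 7, 3, 4, 5, 1, 2, 3, 4, 0, 1, 2,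
  3, 7, 8, 5, 2, 3, 4, 1, 2, 3, 7, 6, 5, 4, 3, 2, 1, 3, 1, 2, 3, 4, 5, 6, 7, 3, 4, 5, 8, 7, 3, 2, 1, 4,
  3, 2, 7, 3, 4, 5, 6, 0, 1, 2, 3, 7, 4, 5, 3, 4, 2, 3, 7, 8, 4, 5, 8, 7, 3, 2, 1, 4, 3, 2, 5, 4, 7, 3,
  2, 1, 4, 8, 7, 3, 2, 4, 3, 7, 8, 5, 4, 2, 3, 7, 4, 5, 2, 3, 4, 1, 2, 3, 7, 8, 5, 4, 1, 2, 3, 7, 6, 5,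
  4, 3, 2, 1, 8, 1, 2, 3, 4, 5, 6, 7, 3, 2, 1, 4, 3, 2, 5, 8, 7, 3, 2, 1, 4, 3, 2, 5, 6, 7, 3, 4, 5, 8,
  7, 3, 2, 4, 3, 7, 8, 5, 4, 1, 2, 3, 7, 4, 5, 2, 3, 4, 1, 2, 3, 7, 8, 5, 4, 1, 2, 3, 7, 6, 7, 3, 2, 1,
  4, 3, 7, 8, 7, 3, 2, 1, 0, 4, 3, 7, 2, 3, 4, 1, 2, 3, 7, 8, 7, 2, 3, 4, 1, 2, 3, 7, 5, 4, 3, 2, 1, 3,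
  1, 2, 3, 4, 5, 6, 7, 3, 2, 4, 3, 5, 4, 7, 8, 7, 3, 2, 4, 3, 5, 6, 7, 4, 5, 3, 4, 2, 3, 7, 8, 7, 5, 3,
  4, 2, 3, 7, 6, 5, 4, 3, 2, 1, 3, 1, 2, 3, 4, 5, 6, 7, 3, 2, 1, 8, 7, 3, 2, 4, 3, 5, 4, 7, 3, 2, 1, 0,
  6, 5, 4, 3, 7, 2, 3, 4, 1, 2, 3, 7, 8, 5, 4, 3, 7, 6, 5, 7, 3, 2, 1, 8, 7, 3, 2, 4, 3, 5, 4, 7, 8, 3,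
  7, 2, 3, 4, 1, 2, 3, 7, 6, 7, 3, 4, 5, 8, 7, 3, 2, 1, 4, 3, 2, 7, 3, 4, 5, 6, 0, 1, 2, 3, 7, 4, 5, 3,
  4, 2, 3, 7, 8, 1, 2, 3, 7, 6, 5, 4, 3, 2, 1, 3, 1, 2, 3, 4, 5, 6, 7, 3, 2, 1, 4, 3, 2, 5, 4, 8, 7, 3,
  2, 1, 0, 4, 3, 2, 1, 5, 4, 7, 3, 4, 2, 3, 7, 3, 4, 5, 1, 2, 3, 4, 0, 1, 2, 3, 7, 8, 5, 2, 3, 4, 1, 2,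
  3, 7, 6, 5, 4, 3, 2, 1, 3, 5, 7, 1, 0, 2, 1, 3, 2, 4, 3, 7, 3, 4, 2, 3, 1, 2, 0, 2, 3, 4, 5, 6, 7, 3,
  2, 1, 4, 3, 2, 5, 4, 3, 8, 7, 3, 2, 1, 0, 4, 3, 2, 1, 7, 3, 2, 8, 7, 3, 4, 3, 7, 8, 2, 3, 7, 1, 2, 3,
  4, 0, 1, 2, 3, 7, 8, 3, 4, 5, 2, 5, 4, 7, 3, 8, 7, 3, 2, 4, 3, 5, 4, 7, 3, 2, 1, 0, 6, 5, 4, 3, 7, 2,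
  3, 4, 1, 2, 3, 7, 8, 3, 4, 5, 2, 3, 4, 1, 4, 3, 5, 7, 8, 7, 3, 2, 4, 3, 5, 4, 7, 6, 5, 3, 4, 2, 3, 7,
  8, 7, 4, 5, 3, 4, 2, 3, 7, 6, 5, 4, 3, 2, 1, 3, 1, 2, 3, 4, 5, 6, 7, 3, 2, 4, 3, 5, 4, 7, 8, 7, 3, 2,
  4, 3, 5, 6, 7, 4, 5, 3, 4, 2, 3, 7, 8, 7, 5, 3, 4, 1, 4, 3, 2, 5, 4, 3, 8, 7, 3, 2, 1, 4, 3, 2, 7, 3,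
  4, 5, 6, 0, 1, 2, 3, 7, 4, 5, 3, 4, 2, 3, 7, 8, 3, 7, 4, 5, 3, 4, 1, 2, 3, 7, 6, 5, 4, 3, 2, 1, 4])]

end CfsgLib.Fi22P.OutInvol
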