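import Cfsg.Agent.Lib.Fi22P.OutInvol.Facts
import Cfsg.Agent.Lib.Fi22P.OutInvol.DataClass

/-!
# The outer involutions fixing two members and a base through them: kernel checks
-/

set_option autoImplicit false
set_option maxRecDepth 100000
set_option maxHeartbeats 0

namespace CfsgLib.Fi22P.OutInvol

open CfsgLib.PresCert

/-- The index in the base. -/
def baseIx (x : ℕ) : ℕ := (baseB.findIdx? fun y => Nat.beq y x).getD 22

/-- The points as bits. -/
def maskOf (l : List ℕ) : ℕ := l.foldl (fun m x => m ||| 2 ^ x) 0

/-- The base is carried to itself, a prefix fixed, one point moved to the listed place, and the action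
on the base is as listed. -/
def moveOk (fixed : List ℕ) (b : ℕ) (tbl : List (ℕ × List ℕ)) (perms : List (List ℕ)) : Bool :=
  decide (perms.length = tbl.length) && (List.range tbl.length).all fun k =>
    let e := tbl.getD k (0, [])
    e.2.all (fun g => Nat.blt g 9) && fixed.all (fun x => Nat.beq (tab.walk x e.2) x) &&
      Nat.beq (tab.walk b e.2) e.1 &&
      decide (baseB.map (fun x => baseIx (tab.walk x e.2)) = perms.getD k []) &&
      (perms.getD k []).all (fun i => Nat.blt i 22)

/-- The listed places are all the orbit points inside the base. -/
def moveAll (l : Level) (tbl : List (ℕ × List ℕ)) : Bool :=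
  l.pts.all fun p => !((baseB.any fun x => Nat.beq x p)) || tbl.any fun e => Nat.beq e.1 p

theorem move2_ok : moveOk [0, 6] 47 moveTab2 movePerm2 = true ∧ moveAll lvA1 moveTab2 = true ∧
    moveTab2.length = 20 := by decide +kernel

theorem move3_ok : moveOk [0, 6, 47] 59 moveTab3 movePerm3 = true ∧ moveAll lvA2 moveTab3 = true ∧
    moveTab3.length = 16 := by decide +kernel

theorem move4_ok : moveOk [0, 6, 47, 59] 40 moveTab4 movePerm4 = true ∧ moveAll lvB3 moveTab4 = true ∧
    moveTab4.length = 3 := by decide +kernel

theorem kernel_fix : lvB4.gens.all (fun w => baseB.all fun x => Nat.beq (tab.walk x w) x) = true ∧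
    baseB.contains lvB4.base = false := by
  decide +kernel

theorem baseB_ok : baseB.length = 22 ∧ nodupB 0 baseB = true ∧ baseB.all (fun x => Nat.blt x 3510) = true ∧
    baseB.all (fun x => baseB.all fun y => Nat.beq (mimg x y) y) = true ∧
    [0, 6, 47, 59, 40].all (fun x => baseB.any fun y => Nat.beq y x) = true ∧
    decide (baseB.map (fun x => baseIx (piT x)) = piPerm) = true ∧ piPerm.all (fun i => Nat.blt i 22) = true := by
  decide +kernel

/-- The masks of the bases through the two members. -/
def basesMasks : List ℕ := basesWords.map fun w => maskOf (baseB.map fun x => tab.walk x w)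

theorem bases_ok : basesWords.length = 27 ∧
    basesWords.all (fun w => w.all (fun g => Nat.blt g 9) && Nat.beq (tab.walk 0 w) 0 &&
      Nat.beq (tab.walk 6 w) 6) = true ∧
    (List.range 27).all (fun i => (List.range i).all fun j =>
      !(Nat.beq (basesMasks.getD i 0) (basesMasks.getD j 0))) = true := by
  decide +kernel

/-- Composition of permutations of the base. -/
def comp22 (p q : List ℕ) : List ℕ := q.map fun i => p.getD i 22

/-- The action of a leaf. -/
def leafPerm (n : ℕ) : List ℕ :=
  comp22 (movePerm2.getD (n / 3 / 16) [])
    (comp22 (movePerm3.getD (n / 3 % 16) []) (movePerm4.getD (n % 3) []))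

/-- The action of a leaf after the involution. -/
def leafOuter (n : ℕ) : List ℕ := comp22 (leafPerm n) piPerm

/-- A certificate carries a leaf to the involution. -/
def certOk (n m : ℕ) : Bool :=
  Nat.blt m 960 && decide (comp22 (leafPerm m) (leafOuter n) = comp22 piPerm (leafPerm m))

theorem stage_ok : (List.range 960).all (fun n =>
    !(decide (comp22 (leafOuter n) (leafOuter n) = List.range 22)) ||
      stageCert.any fun c => Nat.beq c.1 n && certOk n c.2) = true := by
  decide +kernel

/-- The moving words of the pairs. -/
def pairWord (x : ℕ) : List ℕ := mw (piT x) ++ mw x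

/-- The kernel of the action on the base, along its base point. -/
def kerImgs : List ℕ :=
  (pairMove.map pairWord ++ repMem.map mw).foldl
    (fun l w => l ++ l.map fun y => tab.walk y w) [lvB4.base]

theorem ker_cover : (lvB4.pts.all fun p => (maskOf kerImgs).testBit p) = true ∧
    (pairMove.all fun x => baseB.any fun y => Nat.beq y x) = true ∧
    (repMem.all fun x => baseB.any fun y => Nat.beq y x) = true ∧ repMem.length = 7 ∧
    (pairMove.all fun x => baseB.any fun y => Nat.beq y (piT x)) = true := by
  decide +kernel

/-- A representative as a word. -/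
def repWordOf (n : ℕ) : List ℕ :=
  ((List.range 7).filter fun q => n.testBit q).flatMap fun q => mw (repMem.getD q 0)

/-- The checking points. -/
def basePts : List ℕ := 0 :: levelsA.map Level.base

/-- A representative with the involution on a point. -/
def repOuter (n x : ℕ) : ℕ := tab.walk (piT x) (repWordOf n)

/-- The three involutions on a point. -/
def rhoOf (j x : ℕ) : ℕ := if j = 0 then piT x else if j = 1 then rho1 x else rho2 x

/-- A representative certificate. -/
def repCertOk (c : ℕ × ℕ × List ℕ) : Bool :=
  c.2.2.all (fun g => Nat.blt g 9) && Nat.blt c.2.1 3 && basePts.all fun x =>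
    Nat.beq (tab.walk (repOuter c.1 (tab.walk x c.2.2.reverse)) c.2.2) (rhoOf c.2.1 x)

theorem reps_ok : (List.range 128).all (fun n =>
    (basePts.any fun x => !(Nat.beq (repOuter n (repOuter n x)) x)) ||
      repCert.any fun c => Nat.beq c.1 n) = true := by
  decide +kernel

theorem rep_certs : repCert.all repCertOk = true := by decide +kernel

end CfsgLib.Fi22P.OutInvol
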