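import Cfsg.Agent.Lib.Fi22P.OutInvol.Psi
import Cfsg.Agent.Lib.Fi22P.OutInvol.ClassCheck

/-!
# Every outer involution is conjugate to one of the three, given two facts on fixed members and bases
-/

set_option autoImplicit false
set_option maxRecDepth 100000

namespace CfsgLib.Fi22P.OutInvol

open CfsgLib.PresCert

attribute [local irreducible] rawCols piCols pathTab uw relData levels fixS fixA fixAB stageCert repCert
  moveTab2 moveTab3 moveTab4 movePerm2 movePerm3 movePerm4 piPerm baseB basesWords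

/-- A set of 22 pairwise commuting members. -/
def IsBaseX (B : Finset X) : Prop := B.card = 22 ∧ ∀ i ∈ B, ∀ j ∈ B, Commute (mem i) (mem j)

theorem isBaseX_map (α : MulAut K) {B : Finset X} (h : IsBaseX B) :
    IsBaseX (B.map (psi α).toEmbedding) := by
  refine ⟨by rw [Finset.card_map, h.1], fun i hi j hj => ?_⟩
  obtain ⟨a, ha, rfl⟩ := Finset.mem_map.1 hi
  obtain ⟨b, hb, rfl⟩ := Finset.mem_map.1 hj
  rw [Equiv.coe_toEmbedding, mem_psi, mem_psi]
  exact (h.2 a ha b hb).map α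

theorem exists_fixed {α : Type*} [Finite α] (f : α → α) (hf : ∀ a, f (f a) = a)
    (hodd : ¬ 2 ∣ Nat.card α) : ∃ a, f a = a := by
  have := Fintype.ofFinite α
  rw [Nat.card_eq_fintype_card] at hodd
  obtain ⟨a, ha⟩ := Equiv.Perm.exists_fixed_point_of_prime (p := 2) (n := 1) hodd
    (σ := ⟨f, f, hf, hf⟩) (Equiv.ext fun a => by
      show f (f a) = a
      exact hf a)
  exact ⟨a, ha⟩

/-! ### The base as indices -/

theorem baseB_lt {x : ℕ} (h : x ∈ baseB) : x < 3510 :=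
  Nat.blt_eq.mp (List.all_eq_true.1 baseB_ok.2.2.1 x h)

theorem baseB_nodup : baseB.Nodup := (nodupB_spec baseB_ok.2.1).1

/-- The point of an index. -/
def bp (k : Fin 22) : X :=
  ⟨baseB.getD k.val 0, lt_pt (baseB_lt (by
    have := baseB_ok.1
    rw [List.getD_eq_getElem _ _ (by omega)]
    exact List.getElem_mem _))⟩

theorem bp_val (k : Fin 22) (h : k.val < baseB.length) : (bp k).val = baseB[k.val] :=
  List.getD_eq_getElem _ _ h

theorem bp_injective : Function.Injective bp := fun k l h => by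
  have hk : k.val < baseB.length := baseB_ok.1.symm ▸ k.isLt
  have hl : l.val < baseB.length := baseB_ok.1.symm ▸ l.isLt
  have := congrArg Fin.val h
  rw [bp_val k hk, bp_val l hl] at this
  exact Fin.ext ((baseB_nodup.getElem_inj_iff).1 this)

/-- The base. -/
def baseSet : Finset X := Finset.univ.map ⟨bp, bp_injective⟩

theorem mem_baseSet {i : X} : i ∈ baseSet ↔ i.val ∈ baseB := by
  simp only [baseSet, Finset.mem_map, Finset.mem_univ, true_and, Function.Embedding.coeFn_mk]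
  constructor
  · rintro ⟨k, rfl⟩
    have hk : k.val < baseB.length := baseB_ok.1.symm ▸ k.isLt
    rw [bp_val k hk]
    exact List.getElem_mem _
  · intro h
    obtain ⟨k, hk, e⟩ := List.getElem_of_mem h
    exact ⟨⟨k, baseB_ok.1 ▸ hk⟩, Fin.ext (by rw [bp_val _ hk, e])⟩

theorem baseIx_spec {x : ℕ} {k : ℕ} (h : baseIx x = k) (hk : k < 22) : baseB.getD k 0 = x := by
  unfold baseIx at h
  cases hf : baseB.findIdx? (fun y => Nat.beq y x) with
  | none => rw [hf] at h; simp at h; omega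
  | some a =>
    rw [hf] at h
    obtain rfl : a = k := h
    obtain ⟨ha, hax, -⟩ := List.findIdx?_eq_some_iff_getElem.1 hf
    rw [List.getD_eq_getElem _ _ ha]
    exact Nat.eq_of_beq_eq_true hax

/-- A list describes a map on the base. -/
def Rep (f : X → X) (p : List ℕ) : Prop :=
  p.length = 22 ∧ ∀ k : Fin 22, ∃ l : Fin 22, p.getD k.val 22 = l.val ∧ f (bp k) = bp l

theorem rep_of_map {f : X → X} {F : ℕ → ℕ} {p : List ℕ} (hF : ∀ i : X, i.val ∈ baseB → (f i).val = F i.val)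
    (h : baseB.map (fun x => baseIx (F x)) = p) (hlt : ∀ a ∈ p, a < 22) : Rep f p := by
  have hlen : p.length = 22 := by rw [← h, List.length_map, baseB_ok.1]
  refine ⟨hlen, fun k => ?_⟩
  have hk : k.val < baseB.length := baseB_ok.1.symm ▸ k.isLt
  have hk' : k.val < p.length := hlen.symm ▸ k.isLt
  have hl : p[k.val] < 22 := hlt _ (List.getElem_mem _)
  refine ⟨⟨p[k.val], hl⟩, List.getD_eq_getElem _ _ hk', Fin.ext ?_⟩
  rw [hF _ (by rw [bp_val k hk]; exact List.getElem_mem _), bp_val k hk]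
  have e : baseIx (F baseB[k.val]) = p[k.val] := by
    subst h
    simp
  exact (baseIx_spec e hl).symm

theorem Rep.comp {f g : X → X} {p q : List ℕ} (hp : Rep f p) (hq : Rep g q) :
    Rep (fun i => f (g i)) (comp22 p q) := by
  refine ⟨by rw [comp22, List.length_map, hq.1], fun k => ?_⟩
  obtain ⟨l, hl, hgl⟩ := hq.2 k
  obtain ⟨l', hl', hfl⟩ := hp.2 l
  refine ⟨l', ?_, by show f (g (bp k)) = bp l'; rw [hgl, hfl]⟩
  have hk : k.val < q.length := hq.1.symm ▸ k.isLt
  rw [comp22, List.getD_eq_getElem _ _ (by rw [List.length_map]; exact hk), List.getElem_map,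
    ← List.getD_eq_getElem _ 22 hk, hl, hl']

theorem Rep.unique {f g : X → X} {p q : List ℕ} (hp : Rep f p) (hq : Rep g q)
    (h : ∀ k, f (bp k) = g (bp k)) : p = q := by
  refine List.ext_getElem (hp.1.trans hq.1.symm) fun k hk hk' => ?_
  obtain ⟨l, hl, hfl⟩ := hp.2 ⟨k, hp.1 ▸ hk⟩
  obtain ⟨l', hl', hgl⟩ := hq.2 ⟨k, hp.1 ▸ hk⟩
  rw [h] at hfl
  have := bp_injective (hfl.symm.trans hgl)
  rw [← List.getD_eq_getElem _ 22 hk, ← List.getD_eq_getElem _ 22 hk', hl, hl', this]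

theorem Rep.agree {f g : X → X} {p : List ℕ} (hp : Rep f p) (hq : Rep g p) (k : Fin 22) :
    f (bp k) = g (bp k) := by
  obtain ⟨l, hl, hfl⟩ := hp.2 k
  obtain ⟨l', hl', hgl⟩ := hq.2 k
  rw [hfl, hgl, show l = l' from Fin.ext (hl.symm.trans hl')]

theorem rep_id : Rep (fun i => i) (List.range 22) :=
  ⟨List.length_range, fun k => ⟨k, by simp, rfl⟩⟩

theorem Rep.maps {f : X → X} {p : List ℕ} (hp : Rep f p) {i : X} (hi : i.val ∈ baseB) :
    (f i).val ∈ baseB := by
  obtain ⟨k, -, rfl⟩ := Finset.mem_map.1 (mem_baseSet.2 hi)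
  obtain ⟨l, -, e⟩ := hp.2 k
  rw [Function.Embedding.coeFn_mk, e]
  exact mem_baseSet.1 (Finset.mem_map.2 ⟨l, Finset.mem_univ _, rfl⟩)

theorem rep_pi : Rep piP piPerm :=
  rep_of_map (fun i _ => piP_val i) (of_decide_eq_true baseB_ok.2.2.2.2.2.1)
    (fun a ha => Nat.blt_eq.mp (List.all_eq_true.1 baseB_ok.2.2.2.2.2.2 a ha))

/-! ### Moving one base point inside the base -/

theorem move_spec {fixed : List ℕ} {b : ℕ} {tbl : List (ℕ × List ℕ)} {perms : List (List ℕ)}
    (h : moveOk fixed b tbl perms = true) {k : ℕ} (hk : k < tbl.length) :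
    act fiGen (tbl.getD k (0, [])).2 ∈ fixSub phi fixed ∧
      (∀ i : X, i.val = b → (phi (act fiGen (tbl.getD k (0, [])).2) i).val = (tbl.getD k (0, [])).1) ∧
      Rep (phi (act fiGen (tbl.getD k (0, [])).2)) (perms.getD k []) := by
  simp only [moveOk, Bool.and_eq_true, List.all_eq_true, List.mem_range, Nat.blt_eq, Nat.beq_eq,
    decide_eq_true_eq] at h
  obtain ⟨⟨⟨⟨h1, h2⟩, h3⟩, h4⟩, h5⟩ := h.2 k hk
  refine ⟨fun i hi => Fin.ext ?_, fun i hi => ?_, rep_of_map (fun i _ => act_phi h1 i) h4 h5⟩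
  · rw [act_phi h1, h2 _ hi]
  · rw [act_phi h1, hi, h3]

/-- One step of the descent. -/
theorem step {fixed : List ℕ} {l : Level} {ls : List Level} {tbl : List (ℕ × List ℕ)}
    {perms : List (List ℕ)} (hok : moveOk fixed l.base tbl perms = true) (hall : moveAll l tbl = true)
    (hlev : levelsOk tab fixed (l :: ls) = true)
    (hle : Nat.card (fixSub phi fixed) ≤ ((l :: ls).map fun l => l.pts.length).prod)
    (hb : l.base ∈ baseB) {g : K} (hg : g ∈ fixSub phi fixed)
    (hmap : ∀ i : X, i.val ∈ baseB → (phi g i).val ∈ baseB) :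
    ∃ k < tbl.length, ∃ s : K, Rep (phi s) (perms.getD k []) ∧ s⁻¹ * g ∈ fixSub phi (fixed ++ [l.base]) ∧
      ∀ i : X, i.val ∈ baseB → (phi (s⁻¹ * g) i).val ∈ baseB := by
  set i0 : X := ⟨l.base, lt_pt (baseB_lt hb)⟩
  have hmem := (orbit_exact realised hlev hle g hg l ls rfl i0 rfl).1
  simp only [moveAll, List.all_eq_true, Bool.or_eq_true, Bool.not_eq_true'] at hall
  rcases hall _ hmem with h | h
  · rw [List.any_eq_false] at h
    exact absurd (Nat.beq_refl _) (h _ (hmap i0 hb))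
  obtain ⟨e, he, hey⟩ := List.any_eq_true.1 h
  obtain ⟨k, hk, rfl⟩ := List.getElem_of_mem he
  obtain ⟨h1, h2, h3⟩ := move_spec hok hk
  rw [List.getD_eq_getElem _ _ hk] at h1 h2 h3
  refine ⟨k, hk, act fiGen tbl[k].2, h3, fun i hi => ?_, fun i hi => ?_⟩
  · rcases List.mem_append.1 hi with hi | hi
    · exact Subgroup.mul_mem _ (Subgroup.inv_mem _ h1) hg i hi
    · obtain rfl : i = i0 := Fin.ext (List.mem_singleton.1 hi)
      rw [map_mul, map_inv, Equiv.Perm.mul_apply, Equiv.Perm.inv_def, Equiv.symm_apply_eq]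
      exact Fin.ext ((Nat.eq_of_beq_eq_true hey).symm.trans (h2 i0 rfl).symm)
  · set s := phi (act fiGen tbl[k].2) with hs
    have hsurj : Set.SurjOn s baseSet baseSet := Finset.surjOn_of_injOn_of_card_le s
      (fun a ha => mem_baseSet.2 (h3.maps (mem_baseSet.1 ha))) s.injective.injOn le_rfl
    obtain ⟨a, ha, hae⟩ := hsurj (mem_baseSet.2 (hmap i hi))
    rw [map_mul, map_inv, Equiv.Perm.mul_apply, ← hs, Equiv.Perm.inv_def, ← hae, Equiv.symm_apply_apply]
    exact mem_baseSet.1 ha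

theorem base_in {x : ℕ} (h : x ∈ [0, 6, 47, 59, 40]) : x ∈ baseB := by
  obtain ⟨y, hy, e⟩ := List.any_eq_true.1 (List.all_eq_true.1 baseB_ok.2.2.2.2.1 x h)
  exact Nat.eq_of_beq_eq_true e ▸ hy

theorem levelsB_eq : levelsB = [lvA0, lvA1, lvA2, lvB3, lvB4] := rfl

theorem bases_B : lvA0.base = 6 ∧ lvA1.base = 47 ∧ lvA2.base = 59 ∧ lvB3.base = 40 := by
  refine ⟨rfl, rfl, rfl, rfl⟩

/-- The levels and the bounds below the first two members. -/
theorem chain_facts :
    (levelsOk tab [0, 6] [lvA1, lvA2, lvB3, lvB4] = true ∧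
      Nat.card (fixSub phi [0, 6]) ≤ ([lvA1, lvA2, lvB3, lvB4].map fun l => l.pts.length).prod) ∧
    (levelsOk tab [0, 6, 47] [lvA2, lvB3, lvB4] = true ∧
      Nat.card (fixSub phi [0, 6, 47]) ≤ ([lvA2, lvB3, lvB4].map fun l => l.pts.length).prod) ∧
    (levelsOk tab [0, 6, 47, 59] [lvB3, lvB4] = true ∧
      Nat.card (fixSub phi [0, 6, 47, 59]) ≤ ([lvB3, lvB4].map fun l => l.pts.length).prod) ∧
    (levelsOk tab [0, 6, 47, 59, 40] [lvB4] = true ∧
      Nat.card (fixSub phi [0, 6, 47, 59, 40]) ≤ ([lvB4].map fun l => l.pts.length).prod) := by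
  have h0 := levelsB_ok.1
  have b0 := stab_bound levelsB_ok.2
  rw [levelsB_eq] at h0 b0
  have descend : ∀ {fixed : List ℕ} {l : Level} {ls : List Level},
      levelsOk tab fixed (l :: ls) = true →
      Nat.card (fixSub phi fixed) ≤ ((l :: ls).map fun l => l.pts.length).prod →
      levelsOk tab (fixed ++ [l.base]) ls = true ∧
        Nat.card (fixSub phi (fixed ++ [l.base])) ≤ (ls.map fun l => l.pts.length).prod := by
    intro fixed l ls h b
    have h' := h
    simp only [levelsOk, Bool.and_eq_true] at h'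
    obtain ⟨hl, hr⟩ := h'
    refine ⟨hr, ?_⟩
    simp only [levelOk, Bool.and_eq_true, List.all_eq_true, Nat.blt_eq, decide_eq_true_eq] at hl
    exact (orbit_exact realised h b 1 (one_mem _) l ls rfl
      ⟨l.base, hl.1.2 _ (List.mem_of_mem_head? hl.1.1.1.1.2)⟩ rfl).2
  obtain ⟨e0, e1, e2, e3⟩ := bases_B
  obtain ⟨h1, b1⟩ := descend h0 b0
  rw [e0] at h1 b1
  obtain ⟨h2, b2⟩ := descend h1 b1
  rw [e1] at h2 b2
  obtain ⟨h3, b3⟩ := descend h2 b2
  rw [e2] at h3 b3
  obtain ⟨h4, b4⟩ := descend h3 b3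
  rw [e3] at h4 b4
  exact ⟨⟨h1, b1⟩, ⟨h2, b2⟩, ⟨h3, b3⟩, ⟨h4, b4⟩⟩

theorem kernel_base {g : K} (hg : g ∈ fixSub phi [0, 6, 47, 59, 40]) : g ∈ fixSub phi baseB := by
  obtain ⟨h, b⟩ := chain_facts.2.2.2
  refine fixSub_le_of_gens realised h (fun l hl w hw => ?_) ?_ b hg
  · obtain rfl := List.mem_singleton.1 hl
    simp only [levelsOk, levelOk, Bool.and_eq_true, List.all_eq_true, Nat.blt_eq] at h
    have hlt := (h.1.1.1.1.1.1 w hw).1
    refine fun i hi => Fin.ext ?_
    rw [act_phi hlt]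
    exact Nat.eq_of_beq_eq_true (List.all_eq_true.1 (List.all_eq_true.1 kernel_fix.1 w hw) _ hi)
  · rw [(base_tight realised h b).2]
    exact bot_le

/-- An element fixing the two members and stabilising the base acts on it as a leaf. -/
theorem exists_leaf {g : K} (hg : g ∈ fixSub phi [0, 6])
    (hmap : ∀ i : X, i.val ∈ baseB → (phi g i).val ∈ baseB) :
    ∃ n < 960, ∃ u : K, Rep (phi u) (leafPerm n) ∧ u⁻¹ * g ∈ fixSub phi baseB := by
  obtain ⟨⟨h1, b1⟩, ⟨h2, b2⟩, ⟨h3, b3⟩, -⟩ := chain_facts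
  obtain ⟨e0, e1, e2, e3⟩ := bases_B
  obtain ⟨m2, a2, l2⟩ := move2_ok
  obtain ⟨m3, a3, l3⟩ := move3_ok
  obtain ⟨m4, a4, l4⟩ := move4_ok
  rw [← e1] at m2
  rw [← e2] at m3
  rw [← e3] at m4
  obtain ⟨k2, hk2, s2, r2, f2, g2⟩ := step m2 a2 h1 b1 (e1 ▸ base_in (by simp)) hg hmap
  rw [e1] at f2
  obtain ⟨k3, hk3, s3, r3, f3, g3⟩ := step m3 a3 h2 b2 (e2 ▸ base_in (by simp)) f2 g2
  rw [e2] at f3
  obtain ⟨k4, hk4, s4, r4, f4, -⟩ := step m4 a4 h3 b3 (e3 ▸ base_in (by simp)) f3 g3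
  rw [e3] at f4
  refine ⟨(k2 * 16 + k3) * 3 + k4, by omega, s2 * s3 * s4, ?_, ?_⟩
  · have e : (fun i => phi s2 (phi s3 (phi s4 i))) = phi (s2 * s3 * s4) := by
      funext i
      rw [map_mul, map_mul, Equiv.Perm.mul_apply, Equiv.Perm.mul_apply]
    have h := r2.comp (r3.comp r4)
    rw [leafPerm, show ((k2 * 16 + k3) * 3 + k4) / 3 = k2 * 16 + k3 by omega,
      show ((k2 * 16 + k3) * 3 + k4) % 3 = k4 by omega, show (k2 * 16 + k3) / 16 = k2 by omega,
      show (k2 * 16 + k3) % 16 = k3 by omega]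
    rwa [e] at h
  · refine kernel_base ?_
    rw [show (s2 * s3 * s4)⁻¹ * g = s4⁻¹ * (s3⁻¹ * (s2⁻¹ * g)) by group]
    exact f4

theorem exists_u (n : ℕ) (hn : n < 960) :
    ∃ u : K, u ∈ fixSub phi [0, 6] ∧ Rep (phi u) (leafPerm n) := by
  obtain ⟨m2, -, l2⟩ := move2_ok
  obtain ⟨m3, -, l3⟩ := move3_ok
  obtain ⟨m4, -, l4⟩ := move4_ok
  obtain ⟨f2, -, r2⟩ := move_spec m2 (k := n / 3 / 16) (by omega)
  obtain ⟨f3, -, r3⟩ := move_spec m3 (k := n / 3 % 16) (by omega)
  obtain ⟨f4, -, r4⟩ := move_spec m4 (k := n % 3) (by omega)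
  set s2 := act fiGen (moveTab2.getD (n / 3 / 16) (0, [])).2
  set s3 := act fiGen (moveTab3.getD (n / 3 % 16) (0, [])).2
  set s4 := act fiGen (moveTab4.getD (n % 3) (0, [])).2
  refine ⟨s2 * s3 * s4, Subgroup.mul_mem _ (Subgroup.mul_mem _ f2
    (fixSub_le (fun x hx => by simp at hx ⊢; omega) f3)) (fixSub_le (fun x hx => by simp at hx ⊢; omega) f4), ?_⟩
  have e : (fun i => phi s2 (phi s3 (phi s4 i))) = phi (s2 * s3 * s4) := by
    funext i
    rw [map_mul, map_mul, Equiv.Perm.mul_apply, Equiv.Perm.mul_apply]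
  have h := r2.comp (r3.comp r4)
  rw [leafPerm]
  rwa [e] at h

theorem conj_outer (v g : K) :
    MulAut.conj v * (MulAut.conj g * sigma) * (MulAut.conj v)⁻¹ =
      MulAut.conj (v * g * sigma v⁻¹) * sigma := by
  refine MulEquiv.ext fun x => ?_
  simp [MulAut.mul_apply, MulAut.conj_apply, MulAut.conj_inv_apply, map_mul, map_inv, mul_assoc]

theorem psi_outer (g : K) (i : X) : psi (MulAut.conj g * sigma) i = phi g (piP i) := by
  rw [map_mul, psi_conj, psi_sigma, Equiv.Perm.mul_apply]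

theorem psi_invol {t : MulAut K} (ht : t * t = 1) (i : X) : psi t (psi t i) = i := by
  rw [← Equiv.Perm.mul_apply, ← map_mul, ht, map_one, Equiv.Perm.one_apply]

/-- An outer involution fixing the two members and the base is conjugate to one trivial on it. -/
theorem reduce_base {g : K} (hg : g ∈ fixSub phi [0, 6])
    (hmap : ∀ i : X, i.val ∈ baseB → (phi g i).val ∈ baseB)
    (ht : (MulAut.conj g * sigma) * (MulAut.conj g * sigma) = 1) :
    ∃ g' : K, g' ∈ fixSub phi baseB ∧ IsConj (MulAut.conj g * sigma) (MulAut.conj g' * sigma) := by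
  obtain ⟨n, hn, u, hu, hker⟩ := exists_leaf hg hmap
  have hagree : ∀ i : X, i.val ∈ baseB → phi g i = phi u i := fun i hi => by
    have h := hker i hi
    rw [map_mul, map_inv, Equiv.Perm.mul_apply, Equiv.Perm.inv_def, Equiv.symm_apply_eq] at h
    exact h
  have hW : Rep (fun i => phi u (piP i)) (leafOuter n) := hu.comp rep_pi
  have htW : ∀ i : X, i.val ∈ baseB → psi (MulAut.conj g * sigma) i = phi u (piP i) := fun i hi => by
    rw [psi_outer, hagree _ (rep_pi.maps hi)]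
  have hbp : ∀ k, (bp k).val ∈ baseB := fun k =>
    mem_baseSet.1 (Finset.mem_map.2 ⟨k, Finset.mem_univ _, rfl⟩)
  have hinv : comp22 (leafOuter n) (leafOuter n) = List.range 22 := (hW.comp hW).unique rep_id fun k => by
    show phi u (piP (phi u (piP (bp k)))) = bp k
    rw [← htW _ (hbp k), ← htW _ (by rw [htW _ (hbp k)]; exact hW.maps (hbp k)), psi_invol ht]
  have hst := List.all_eq_true.1 stage_ok n (List.mem_range.2 hn)
  rw [Bool.or_eq_true, decide_eq_true hinv] at hst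
  obtain ⟨c, -, hc2⟩ := List.any_eq_true.1 (hst.resolve_left (by simp))
  simp only [certOk, Bool.and_eq_true, Nat.blt_eq, decide_eq_true_eq] at hc2
  obtain ⟨-, hm, heq⟩ := hc2
  obtain ⟨v, hv, hvr⟩ := exists_u c.2 hm
  refine ⟨v * g * sigma v⁻¹, ?_, isConj_iff.2 ⟨MulAut.conj v, conj_outer v g⟩⟩
  have hL := hvr.comp hW
  have hR := rep_pi.comp hvr
  rw [heq] at hL
  have key : ∀ k, phi v (psi (MulAut.conj g * sigma) (bp k)) = piP (phi v (bp k)) := fun k => by
    rw [htW _ (hbp k)]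
    exact hL.agree hR k
  intro i hi
  set f := phi v with hf
  have hsurj : Set.SurjOn f baseSet baseSet := Finset.surjOn_of_injOn_of_card_le f
    (fun a ha => mem_baseSet.2 (hvr.maps (mem_baseSet.1 ha))) f.injective.injOn le_rfl
  obtain ⟨y, hy, hye⟩ := hsurj (mem_baseSet.2 (rep_pi.maps hi))
  obtain ⟨k, -, rfl⟩ := Finset.mem_map.1 hy
  rw [Function.Embedding.coeFn_mk] at hye
  have e : psi (MulAut.conj v * (MulAut.conj g * sigma) * (MulAut.conj v)⁻¹) (piP i) = i := by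
    rw [map_mul, map_mul, map_inv, psi_conj, ← hf, Equiv.Perm.mul_apply, Equiv.Perm.mul_apply,
      Equiv.Perm.inv_def, ← hye, Equiv.symm_apply_apply, key, hye]
    exact Fin.ext (piT_spec (pt_lt i)).2
  rw [conj_outer, psi_outer, show piP (piP i) = i from Fin.ext (piT_spec (pt_lt i)).2] at e
  exact e

end CfsgLib.Fi22P.OutInvol
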