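import Cfsg.Agent.Lib.Fi22P.OutInvol.Reps
import Cfsg.Agent.Lib.Fi22P.OutInvol.CentABIso
import Cfsg.Agent.Lib.ThreeTransp.M22OuterInvol
import Cfsg.Agent.Lib.ThreeTransp.M22Base
import Cfsg.Agent.Lib.ThreeTransp.M22Y332.Iso
import Cfsg.Agent.Lib.Cores.Basic

/-!
# Groups of type `M(22)`: the classes of outer involutions and their centralisers
-/

set_option autoImplicit false
set_option maxRecDepth 100000

namespace CfsgLib.Fi22P.OutInvol

attribute [local irreducible] rawCols piCols pathTab uw fixS fixA fixAB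

variable {G : Type*} [Group G]

theorem congr_apply (e : K ≃* G) (α : MulAut K) (g : G) :
    MulAut.congr e α g = e (α (e.symm g)) := rfl

theorem congr_conj (e : K ≃* G) (k : K) : MulAut.congr e (MulAut.conj k) = MulAut.conj (e k) :=
  MulEquiv.ext fun g => by
    rw [congr_apply, MulAut.conj_apply, MulAut.conj_apply, map_mul, map_mul, map_inv, e.apply_symm_apply]

theorem congr_inner (e : K ≃* G) (α : MulAut K) :
    MulAut.congr e α ∈ (MulAut.conj : G →* MulAut G).range ↔ ∃ k, α = MulAut.conj k := by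
  constructor
  · rintro ⟨g, hg⟩
    refine ⟨e.symm g, (MulAut.congr e).injective ?_⟩
    rw [congr_conj, e.apply_symm_apply, hg]
  · rintro ⟨k, rfl⟩
    exact ⟨e k, (congr_conj e k).symm⟩

theorem congr_isConj (e : K ≃* G) (α β : MulAut K) :
    IsConj (MulAut.congr e α) (MulAut.congr e β) ↔ IsConj α β := by
  constructor
  · intro h
    have := (MulAut.congr e).symm.toMonoidHom.map_isConj h
    simp only [MulEquiv.coe_toMonoidHom, MulEquiv.symm_apply_apply] at this
    exact this
  · exact fun h => (MulAut.congr e).toMonoidHom.map_isConj h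

theorem mem_map_fixed (e : K ≃* G) (α : MulAut K) (g : G) :
    g ∈ (fixedBy α).map e.toMonoidHom ↔ MulAut.congr e α g = g := by
  rw [congr_apply, Subgroup.mem_map_equiv, mem_fixedBy]
  constructor
  · intro h; rw [h, e.apply_symm_apply]
  · intro h; exact e.injective (h.trans (e.apply_symm_apply g).symm)

variable [Finite G] {D : Set G} (S : CfsgLib.M22.Setup D) (e : K ≃* G) (he : e '' transp = D)
include S he

theorem mem_D (i : X) : e (mem i) ∈ D := he ▸ ⟨_, mem_transp i, rfl⟩

theorem exists_pt {d : G} (hd : d ∈ D) : ∃ i, e (mem i) = d := by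
  rw [← he] at hd
  obtain ⟨x, hx, rfl⟩ := hd
  obtain ⟨i, rfl⟩ := exists_of_transp hx
  exact ⟨i, rfl⟩

theorem fixes_member (α : MulAut K) (hα : α * α = 1) : ∃ i, psi α i = i := by
  obtain ⟨F, _, _, hF, hM⟩ := S.exists_models
  obtain ⟨d, hd, hfix⟩ := CfsgLib.M22.outer_fixed S hF hM (MulAut.congr e α) fun g => by
    rw [← MulAut.mul_apply, ← map_mul, hα, map_one, MulAut.one_apply]
  obtain ⟨i, rfl⟩ := exists_pt S e he hd
  rw [congr_apply, e.symm_apply_apply] at hfix
  exact ⟨i, mem_injective (by rw [mem_psi, e.injective hfix])⟩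

theorem bases_count : Nat.card {B : Finset X // IsBaseX B ∧ pt0 ∈ B ∧ pt6 ∈ B} = 27 := by
  classical
  obtain ⟨F, _, _, hF, hM⟩ := S.exists_models
  have hb : e mB ∈ CfsgLib.ThreeTransp.link D (e mA) :=
    ⟨mem_D S e he _, fun h => mA_ne_mB (e.injective h).symm, commute_mA_mB.map e⟩
  have h27 := CfsgLib.M22.bases_two S hF hM (mem_D S e he pt0) hb
  rw [← Nat.card_coe_set_eq] at h27
  refine Eq.trans ?_ h27
  have himg : ∀ B : Finset X, ((fun i => e (mem i)) '' (B : Set X)).ncard = B.card := fun B => by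
    exact (Set.ncard_image_of_injective (B : Set X) (show Function.Injective fun i => e (mem i) from
      e.injective.comp mem_injective)).trans (Set.ncard_coe_finset B)
  refine Nat.card_congr (Equiv.ofBijective (fun B => ⟨(fun i => e (mem i)) '' (B.val : Set X),
    ⟨⟨?_, ?_, by rw [himg]; exact B.2.1.1⟩, ⟨pt0, B.2.2.1, rfl⟩, ⟨pt6, B.2.2.2, rfl⟩⟩⟩) ⟨?_, ?_⟩)
  · rintro _ ⟨i, -, rfl⟩
    exact mem_D S e he i
  · rintro _ ⟨i, hi, rfl⟩ _ ⟨j, hj, rfl⟩
    exact (B.2.1.2 i hi j hj).map e
  · intro B C h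
    have h' := congrArg Subtype.val h
    simp only at h'
    exact Subtype.ext (Finset.coe_injective ((Set.image_injective.2 (e.injective.comp mem_injective)) h'))
  · rintro ⟨B, hB, ha, hb'⟩
    set C : Finset X := Finset.univ.filter fun i => e (mem i) ∈ B with hC
    have hCB : (fun i => e (mem i)) '' (C : Set X) = B := by
      ext z
      constructor
      · rintro ⟨i, hi, rfl⟩
        exact (Finset.mem_filter.1 hi).2
      · intro hz
        obtain ⟨i, rfl⟩ := exists_pt S e he (hB.sub hz)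
        exact ⟨i, Finset.mem_filter.2 ⟨Finset.mem_univ _, hz⟩, rfl⟩
    refine ⟨⟨C, ⟨by rw [← himg, hCB, hB.card], fun i hi j hj => ?_⟩,
      Finset.mem_filter.2 ⟨Finset.mem_univ _, ha⟩, Finset.mem_filter.2 ⟨Finset.mem_univ _, hb'⟩⟩,
      Subtype.ext hCB⟩
    have := (hB.comm _ (Finset.mem_filter.1 hi).2 _ (Finset.mem_filter.1 hj).2).map e.symm
    rwa [e.symm_apply_apply, e.symm_apply_apply] at this

end CfsgLib.Fi22P.OutInvol
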