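import Cfsg.Agent.Lib.Fi22P.OutInvol.Classify

/-!
# The three classes of outer involutions of the presented Fischer group
-/

set_option autoImplicit false
set_option maxRecDepth 100000

namespace CfsgLib.Fi22P.OutInvol

open CfsgLib.PresCert

attribute [local irreducible] rawCols piCols pathTab uw relData levels fixS fixA fixAB repCert baseB
  basesWords

theorem named_base {x : ℕ} (h : x ∈ baseB) : (pathTab.any fun p => Nat.beq p.1 x) = true :=
  named (by simp [h])

theorem base_commute {i j : X} (hi : i.val ∈ baseB) (hj : j.val ∈ baseB) : Commute (mem i) (mem j) := by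
  rw [commute_iff]
  refine Fin.ext ?_
  rw [mem_apply (named_base hi)]
  exact Nat.eq_of_beq_eq_true (List.all_eq_true.1 (List.all_eq_true.1 baseB_ok.2.2.2.1 _ hi) _ hj)

theorem any_beq {x : ℕ} {l : List ℕ} (h : l.any (fun y => Nat.beq y x) = true) : x ∈ l := by
  obtain ⟨y, hy, e⟩ := List.any_eq_true.1 h
  exact Nat.eq_of_beq_eq_true e ▸ hy

/-- The subgroup generated by the members of the base. -/
def baseGrp : Subgroup K := Subgroup.closure {d | ∃ i : X, i.val ∈ baseB ∧ mem i = d}

theorem baseGrp_commute {i : X} (hi : i.val ∈ baseB) {g : K} (hg : g ∈ baseGrp) : Commute (mem i) g := by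
  have h : baseGrp ≤ Subgroup.centralizer ({mem i} : Set K) := by
    refine (Subgroup.closure_le _).2 ?_
    rintro _ ⟨j, hj, rfl⟩
    exact Subgroup.mem_centralizer_singleton_iff.2 (base_commute hi hj).eq.symm
  exact (Subgroup.mem_centralizer_singleton_iff.1 (h hg)).symm

theorem mem_baseGrp {i : X} (hi : i.val ∈ baseB) : mem i ∈ baseGrp :=
  Subgroup.subset_closure ⟨i, hi, rfl⟩

theorem baseGrp_fix : baseGrp ≤ fixSub phi baseB := by
  refine (Subgroup.closure_le _).2 ?_
  rintro _ ⟨i, hi, rfl⟩ j hj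
  exact (commute_iff i j).1 (base_commute hi hj)

theorem walkT_append (i : ℕ) (a b : List ℕ) : tab.walk i (a ++ b) = tab.walk (tab.walk i a) b := by
  induction a generalizing i with
  | nil => rfl
  | cons g a ih => exact ih _

theorem fold_double (W : List (List ℕ)) : ∀ (l : List ℕ) (y : ℕ),
    y ∈ W.foldl (fun l w => l ++ l.map fun z => tab.walk z w) l →
      ∃ S : List (List ℕ), (∀ w ∈ S, w ∈ W) ∧ S.Sublist W ∧ ∃ z ∈ l, tab.walk z S.flatten = y := by
  induction W with
  | nil => intro l y hy; exact ⟨[], by simp, List.Sublist.refl _, y, hy, rfl⟩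
  | cons w W ih =>
    intro l y hy
    rw [List.foldl_cons] at hy
    obtain ⟨S, h1, h2, z, hz, e⟩ := ih _ _ hy
    rcases List.mem_append.1 hz with hz | hz
    · exact ⟨S, fun a ha => List.mem_cons_of_mem _ (h1 a ha), h2.trans (List.sublist_cons_self _ _),
        z, hz, e⟩
    · obtain ⟨z0, hz0, rfl⟩ := List.mem_map.1 hz
      refine ⟨w :: S, fun a ha => ?_, h2.cons_cons _, z0, hz0, ?_⟩
      · rcases List.mem_cons.1 ha with rfl | ha
        · exact List.mem_cons_self
        · exact List.mem_cons_of_mem _ (h1 a ha)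
      · rw [List.flatten_cons, walkT_append]
        exact e

theorem mem_maskOf {x : ℕ} : ∀ {l : List ℕ} {m : ℕ},
    (l.foldl (fun m x => m ||| 2 ^ x) m).testBit x = true → m.testBit x = true ∨ x ∈ l
  | [], m, h => Or.inl h
  | a :: l, m, h => by
    rcases mem_maskOf (l := l) h with h | h
    · rw [Nat.testBit_or, Bool.or_eq_true] at h
      rcases h with h | h
      · exact Or.inl h
      · rw [Nat.testBit_two_pow] at h
        exact Or.inr (by simp [of_decide_eq_true h])
    · exact Or.inr (List.mem_cons_of_mem _ h)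

/-- A member from its number. -/
noncomputable def memN (x : ℕ) : K := if h : x < 3510 then mem ⟨x, lt_pt h⟩ else 1

theorem memN_spec {x : ℕ} (h : x ∈ baseB) :
    memN x ∈ baseGrp ∧ act fiGen (mw x) = memN x ∧ (∀ g ∈ mw x, g < 9) ∧
      memN x * memN x = 1 ∧ (∀ g ∈ baseGrp, Commute (memN x) g) := by
  have hx := baseB_lt h
  rw [memN, dif_pos hx]
  exact ⟨mem_baseGrp h, (mem_mw (i := ⟨x, lt_pt hx⟩) (named_base h)).symm, mw_lt (named_base h),
    mem_sq _, fun g hg => baseGrp_commute h hg⟩

/-- The product of the members of a representative. -/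
noncomputable def repElt (n : ℕ) : K := act fiGen (repWordOf n)

theorem pair_mem {x : ℕ} (h : x ∈ pairMove) : x ∈ baseB ∧ piT x ∈ baseB :=
  ⟨any_beq (List.all_eq_true.1 ker_cover.2.1 x h), any_beq (List.all_eq_true.1 ker_cover.2.2.2.2 x h)⟩

theorem pair_word {x : ℕ} (h : x ∈ pairMove) :
    act fiGen (pairWord x) = memN x * sigma (memN x) ∧ (∀ g ∈ pairWord x, g < 9) := by
  obtain ⟨h1, h2⟩ := pair_mem h
  obtain ⟨-, e1, l1, -⟩ := memN_spec h1
  obtain ⟨-, e2, l2, -⟩ := memN_spec h2
  refine ⟨?_, fun g hg => (List.mem_append.1 hg).elim (l2 g) (l1 g)⟩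
  rw [pairWord, act_append, e1, e2]
  congr 1
  simp only [memN, dif_pos (baseB_lt h1), dif_pos (baseB_lt h2), sigma_mem]
  rfl

theorem rep_words {w : List ℕ} (h : w ∈ repMem.map mw) :
    act fiGen w ∈ baseGrp ∧ (∀ g ∈ w, g < 9) := by
  obtain ⟨x, hx, rfl⟩ := List.mem_map.1 h
  obtain ⟨h1, e, l, -⟩ := memN_spec (any_beq (List.all_eq_true.1 ker_cover.2.2.1 x hx))
  exact ⟨e.symm ▸ h1, l⟩

theorem pair_grp {x : ℕ} (h : x ∈ pairMove) :
    act fiGen (pairWord x) ∈ baseGrp := by
  obtain ⟨h1, h2⟩ := pair_mem h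
  rw [pairWord, act_append, (memN_spec h1).2.1, (memN_spec h2).2.1]
  exact Subgroup.mul_mem _ (memN_spec h1).1 (memN_spec h2).1

/-- Conjugation by a member of a moved pair removes the pair. -/
theorem strip_pair {x : ℕ} (h : x ∈ pairMove) {g : K} (hg : g ∈ baseGrp) :
    IsConj (MulAut.conj (g * act fiGen (pairWord x)) * sigma) (MulAut.conj g * sigma) := by
  obtain ⟨h1, h2⟩ := pair_mem h
  obtain ⟨m1, e1, -, q1, c1⟩ := memN_spec h1
  obtain ⟨m2, e2, -, q2, c2⟩ := memN_spec h2
  have hs : sigma (memN x) = memN (piT x) := by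
    simp only [memN, dif_pos (baseB_lt h1), dif_pos (baseB_lt h2), sigma_mem]
    rfl
  refine isConj_iff.2 ⟨MulAut.conj (memN x), ?_⟩
  rw [conj_outer, (pair_word h).1, hs, inv_eq_of_mul_eq_one_right q1, hs]
  congr 2
  calc memN x * (g * (memN x * memN (piT x))) * memN (piT x)
      = (memN x * g) * memN x * (memN (piT x) * memN (piT x)) := by group
    _ = g * (memN x * memN x) := by rw [(c1 g hg).eq, q2]; group
    _ = g := by rw [q1, mul_one]

theorem sublist_index : ∀ (R : List ℕ) (S : List ℕ), S.Sublist R → ∃ n < 2 ^ R.length,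
    S = ((List.range R.length).filter fun q => n.testBit q).map fun q => R.getD q 0
  | [], S, h => ⟨0, by simp, by simp [List.sublist_nil.1 h]⟩
  | a :: R, S, h => by
    have key : ∀ (n : ℕ) (b : Bool), ((List.range (a :: R).length).filter fun q =>
        (2 * n + b.toNat).testBit q).map (fun q => (a :: R).getD q 0) =
        (if b then [a] else []) ++ ((List.range R.length).filter fun q => n.testBit q).map fun q => R.getD q 0 := by
      intro n b
      have h0 : (2 * n + b.toNat).testBit 0 = b := by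
        rw [Nat.testBit_zero]; cases b <;> simp <;> omega
      have hs : ∀ q, (2 * n + b.toNat).testBit (q + 1) = n.testBit q := fun q => by
        rw [Nat.testBit_succ]
        congr 1
        cases b <;> simp <;> omega
      rw [List.length_cons, List.range_succ_eq_map, List.filter_cons, h0, List.filter_map]
      have hf : ((fun q => (2 * n + b.toNat).testBit q) ∘ Nat.succ) = fun q => n.testBit q := funext hs
      rw [hf]
      cases b <;> simp [List.map_map, Function.comp_def]
    rcases List.sublist_cons_iff.1 h with h | ⟨S', rfl, h'⟩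
    · obtain ⟨n, hn, e⟩ := sublist_index R S h
      exact ⟨2 * n + Bool.toNat false, by simp [pow_succ]; omega, by rw [key, e]; simp⟩
    · obtain ⟨n, hn, e⟩ := sublist_index R S' h'
      exact ⟨2 * n + Bool.toNat true, by simp [pow_succ]; omega, by rw [key, e]; simp⟩

theorem strip_pairs : ∀ (P : List ℕ), (∀ x ∈ P, x ∈ pairMove) → ∀ {g : K}, g ∈ baseGrp →
    act fiGen (P.map pairWord).flatten ∈ baseGrp ∧
    IsConj (MulAut.conj (g * act fiGen (P.map pairWord).flatten) * sigma) (MulAut.conj g * sigma)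
  | [], _, g, _ => by
    rw [List.map_nil, List.flatten_nil, act_nil, mul_one]
    exact ⟨Subgroup.one_mem _, IsConj.refl _⟩
  | x :: P, hP, g, hg => by
    obtain ⟨h1, h2⟩ := strip_pairs P (fun y hy => hP y (List.mem_cons_of_mem _ hy)) hg
    rw [List.map_cons, List.flatten_cons, act_append, ← mul_assoc]
    exact ⟨Subgroup.mul_mem _ h1 (pair_grp (hP x List.mem_cons_self)),
      (strip_pair (hP x List.mem_cons_self) (Subgroup.mul_mem _ hg h1)).trans h2⟩

/-- An element trivial on the base leaves one of the representatives. -/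
theorem reduce_kernel {g : K} (hg : g ∈ fixSub phi baseB) :
    ∃ n < 128, IsConj (MulAut.conj g * sigma) (MulAut.conj (repElt n) * sigma) := by
  obtain ⟨h, b⟩ := chain_facts.2.2.2
  have hg5 : g ∈ fixSub phi [0, 6, 47, 59, 40] := fixSub_le (fun x hx => base_in hx) hg
  have hb : lvB4.base < 3510 := by decide +kernel
  set i0 : X := ⟨lvB4.base, lt_pt hb⟩
  have hmem := (orbit_exact realised h b g hg5 lvB4 [] rfl i0 rfl).1
  have hbit := List.all_eq_true.1 ker_cover.1 _ hmem
  have him : (phi g i0).val ∈ kerImgs := by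
    rcases mem_maskOf hbit with e | e
    · simp at e
    · exact e
  obtain ⟨S, hS, hsub, z, hz, he⟩ := fold_double _ _ _ him
  rw [List.mem_singleton] at hz
  subst hz
  obtain ⟨S1, S2, rfl, hs1, hs2⟩ := List.sublist_append_iff.1 hsub
  obtain ⟨P, hPs, rfl⟩ := List.sublist_map_iff.1 hs1
  obtain ⟨R, hRs, rfl⟩ := List.sublist_map_iff.1 hs2
  have hP : ∀ x ∈ P, x ∈ pairMove := fun x hx => hPs.subset hx
  have hwlt : ∀ a ∈ (P.map pairWord ++ R.map mw).flatten, a < 9 := by
    intro a ha
    obtain ⟨w, hw, haw⟩ := List.mem_flatten.1 ha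
    rcases List.mem_append.1 hw with hw | hw
    · obtain ⟨x, hx, rfl⟩ := List.mem_map.1 hw
      exact (pair_word (hP x hx)).2 a haw
    · exact (rep_words ((hRs.map mw).subset hw)).2 a haw
  obtain ⟨n, hn, hR⟩ := sublist_index repMem R hRs
  rw [ker_cover.2.2.2.1] at hn hR
  have hrep : act fiGen (R.map mw).flatten = repElt n := by
    rw [repElt, repWordOf, List.flatMap_def, hR, List.map_map]
    rfl
  have hgrp : act fiGen (R.map mw).flatten ∈ baseGrp := by
    suffices key : ∀ L : List (List ℕ), (∀ w ∈ L, act fiGen w ∈ baseGrp) → act fiGen L.flatten ∈ baseGrp from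
      key _ fun w hw => (rep_words ((hRs.map mw).subset hw)).1
    intro L hL
    induction L with
    | nil => simp [act_nil]
    | cons w L ih =>
      rw [List.flatten_cons, act_append]
      exact Subgroup.mul_mem _ (ih fun a ha => hL a (List.mem_cons_of_mem _ ha)) (hL w List.mem_cons_self)
  obtain ⟨hPgrp, hconj⟩ := strip_pairs P hP hgrp
  have hprod : act fiGen (P.map pairWord ++ R.map mw).flatten =
      act fiGen (R.map mw).flatten * act fiGen (P.map pairWord).flatten := by
    rw [List.flatten_append, act_append]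
  have hge : g = act fiGen (R.map mw).flatten * act fiGen (P.map pairWord).flatten := by
    rw [← hprod]
    obtain ⟨s, hs⟩ : ∃ s, s = act fiGen (P.map pairWord ++ R.map mw).flatten := ⟨_, rfl⟩
    rw [← hs]
    have hsfix : s ∈ fixSub phi baseB :=
      baseGrp_fix (by rw [hs, hprod]; exact Subgroup.mul_mem _ hgrp hPgrp)
    have e : s⁻¹ * g ∈ fixSub phi ([0, 6, 47, 59, 40] ++ [lvB4.base]) := by
      intro i hi
      rcases List.mem_append.1 hi with hi | hi
      · exact Subgroup.mul_mem _ (Subgroup.inv_mem _ hsfix) hg i (base_in hi)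
      · obtain rfl : i = i0 := Fin.ext (List.mem_singleton.1 hi)
        rw [map_mul, map_inv, Equiv.Perm.mul_apply, Equiv.Perm.inv_def, Equiv.symm_apply_eq]
        exact Fin.ext (by rw [hs, act_phi hwlt]; exact he.symm)
    have hbot := (base_tight realised h b).2
    rw [List.map_singleton] at hbot
    rw [hbot, Subgroup.mem_bot, inv_mul_eq_one] at e
    exact e.symm
  refine ⟨n, hn, ?_⟩
  rw [← hrep, hge]
  exact hconj

theorem basePts_eq : basePts = [0] ++ levelsA.map Level.base := rfl

theorem basePts_fix {i : X} (h : i.val ∈ basePts) : piP i = i := by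
  refine Fin.ext ?_
  rcases List.mem_cons.1 h with h | h
  · rw [piP_val, h]; exact Nat.eq_of_beq_eq_true base_fixed.2.1
  · exact Nat.eq_of_beq_eq_true (List.all_eq_true.1 base_fixed.1 _ h)

theorem outer_ext {k1 k2 : K}
    (h : ∀ i : X, i.val ∈ basePts → psi (MulAut.conj k1 * sigma) i = psi (MulAut.conj k2 * sigma) i) :
    MulAut.conj k1 * sigma = MulAut.conj k2 * sigma := by
  have e : k2⁻¹ * k1 ∈ fixSub phi ([0] ++ levelsA.map Level.base) := fun i hi => by
    have := h i hi
    rw [psi_outer, psi_outer, basePts_fix hi] at this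
    rw [map_mul, map_inv, Equiv.Perm.mul_apply, Equiv.Perm.inv_def, Equiv.symm_apply_eq, this]
  rw [botA, Subgroup.mem_bot, inv_mul_eq_one] at e
  rw [e]

theorem sigma_conj (k : K) : sigma * MulAut.conj k = MulAut.conj (sigma k) * sigma :=
  MulEquiv.ext fun x => by simp [MulAut.mul_apply, MulAut.conj_apply]

/-- The three involutions by number. -/
noncomputable def rhoAut (j : ℕ) : MulAut K := if j = 0 then sigma else if j = 1 then sigmaA else sigmaAB

theorem rho_coset (j : ℕ) : ∃ k, rhoAut j = MulAut.conj k * sigma := by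
  unfold rhoAut
  split_ifs
  · exact ⟨1, by rw [map_one, one_mul]⟩
  · exact ⟨_, sigma_conj _⟩
  · exact ⟨_, sigma_conj _⟩

theorem rho_val (j : ℕ) (i : X) : (psi (rhoAut j) i).val = rhoOf j i.val := by
  unfold rhoAut rhoOf
  split_ifs
  · rw [psi_sigma, piP_val]
  · exact psi_sigmaA i
  · exact psi_sigmaAB i

/-- An outer involution trivial on the base is conjugate to one of the three. -/
theorem reduce_rep {n : ℕ} (hn : n < 128)
    (ht : (MulAut.conj (repElt n) * sigma) * (MulAut.conj (repElt n) * sigma) = 1) :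
    ∃ j < 3, IsConj (MulAut.conj (repElt n) * sigma) (rhoAut j) := by
  have hlt : ∀ g ∈ repWordOf n, g < 9 := by
    intro g hg
    obtain ⟨q, hq, hgq⟩ := List.mem_flatMap.1 hg
    have hq7 : q < repMem.length := by
      rw [ker_cover.2.2.2.1]
      exact List.mem_range.1 (List.mem_filter.1 hq).1
    exact mw_lt (named_base (any_beq (List.all_eq_true.1 ker_cover.2.2.1 _ (by
      rw [List.getD_eq_getElem _ _ hq7]; exact List.getElem_mem _)))) g hgq
  set t := MulAut.conj (repElt n) * sigma with ht'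
  have htv : ∀ i : X, (psi t i).val = repOuter n i.val := fun i => by
    rw [ht', psi_outer, repElt, act_phi hlt]
    rfl
  have hc := List.all_eq_true.1 reps_ok n (List.mem_range.2 hn)
  rw [Bool.or_eq_true] at hc
  obtain ⟨c, hc, hcn⟩ := List.any_eq_true.1 (hc.resolve_left fun h => by
    obtain ⟨x, hx, hne⟩ := List.any_eq_true.1 h
    have hx' : x < 3510 := by
      have : basePts.all (fun x => Nat.blt x 3510) = true := by decide +kernel
      exact Nat.blt_eq.mp (List.all_eq_true.1 this x hx)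
    have e := congrArg Fin.val (psi_invol ht ⟨x, lt_pt hx'⟩)
    rw [htv, htv] at e
    simp [e, Nat.beq_refl] at hne)
  have hok := List.all_eq_true.1 rep_certs c hc
  simp only [repCertOk, Bool.and_eq_true, List.all_eq_true, Nat.blt_eq, Nat.beq_eq] at hok
  obtain ⟨⟨hv, hj⟩, hpts⟩ := hok
  obtain rfl : c.1 = n := Nat.eq_of_beq_eq_true hcn
  refine ⟨c.2.1, hj, isConj_iff.2 ⟨MulAut.conj (act fiGen c.2.2), ?_⟩⟩
  obtain ⟨k, hk⟩ := rho_coset c.2.1
  rw [ht', conj_outer, hk]
  refine outer_ext fun i hi => ?_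
  rw [← conj_outer, ← hk, ← ht']
  refine Fin.ext ?_
  rw [map_mul, map_mul, map_inv, psi_conj, Equiv.Perm.mul_apply, Equiv.Perm.mul_apply, rho_val,
    act_phi hv, htv, ← map_inv, ← act_rev hv, act_phi (fun g hg => hv g (List.mem_reverse.1 hg))]
  exact hpts _ hi

theorem fA_fix_iff (q : X) : phi fA q = q ↔ forest.lab q.val ≠ 2 := by
  have hq3 : forest.lab q.val < 3 := forest_counts.2.1 ▸ (forest_ok.spec q.isLt).2.1
  obtain ⟨h, hh, e⟩ := forest_ok.reach realised q
  have hh' : h ∈ subH := hh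
  set r : X := ⟨forest.roots.getD (forest.lab q.val) 0, (forest_ok.root (forest_ok.spec q.isLt).2.1).1⟩
  have hc : phi fA q = q ↔ phi fA r = r := by
    rw [← e, ← Equiv.Perm.mul_apply, ← map_mul, fA_commute hh', map_mul, Equiv.Perm.mul_apply,
      Equiv.apply_eq_iff_eq]
  have hroots : forest.roots = [0, 6, 1] ∧ Nat.beq (tab.img 0 0) 0 = true ∧
      Nat.beq (tab.img 0 6) 6 = true ∧ Nat.beq (tab.img 0 1) 1 = false := by decide +kernel
  have hr : r.val = [0, 6, 1].getD (forest.lab q.val) 0 := by rw [← hroots.1]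
  rw [hc, Fin.ext_iff, fA, act_phi (by simp)]
  show tab.img 0 r.val = r.val ↔ _
  rw [hr]
  obtain h | h | h : forest.lab q.val = 0 ∨ forest.lab q.val = 1 ∨ forest.lab q.val = 2 := by omega
  · simp [h, Nat.eq_of_beq_eq_true hroots.2.1]
  · simp [h, Nat.eq_of_beq_eq_true hroots.2.2.1]
  · simpa [h] using Nat.ne_of_beq_eq_false hroots.2.2.2

theorem zero_label (q : X) : forest.lab q.val = 0 ↔ q = pt0 := by
  constructor
  · intro h0
    obtain ⟨a, ha, hai⟩ := forest_ok.reach realised q
    have ha' : a ∈ fixSub phi [0] := by rw [← subH_eq]; exact ha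
    simp only [h0, forest_counts.2.2.2] at hai
    exact hai.symm.trans (ha' pt0 (by simp [pt0]))
  · rintro rfl
    exact forest_counts.2.2.1

theorem card_link : Nat.card {q : X // forest.lab q.val = 1} = 693 := by
  obtain ⟨q, hq⟩ : ∃ q : X, forest.lab q.val = 1 := by
    have h : (List.range 3510).any (fun x => Nat.beq (forest.lab x) 1) = true := by decide +kernel
    obtain ⟨x, hx, hl⟩ := List.any_eq_true.1 h
    exact ⟨⟨x, lt_pt (List.mem_range.1 hx)⟩, Nat.eq_of_beq_eq_true hl⟩
  have h := forest_count (k := 1) (by norm_num)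
  classical
  rw [show [1, 693, 2816].getD 1 0 = 693 from rfl] at h
  rw [← h, ← List.toFinset_card_of_nodup (List.nodup_range.filter _), ← Nat.card_eq_finsetCard]
  exact Nat.card_congr
    { toFun := fun i => ⟨i.val.val, by simp [i.val.isLt, i.2, Nat.beq_refl]⟩
      invFun := fun x => ⟨⟨x.val, by have := x.2; simp at this; exact this.1⟩, by
        have := x.2
        simp only [List.mem_toFinset, List.mem_filter, Nat.beq_eq] at this
        exact this.2⟩
      left_inv := fun i => rfl
      right_inv := fun x => rfl }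

theorem mem_conj_psi (v : K) (t : MulAut K) (i : X) :
    psi (MulAut.conj v * t * (MulAut.conj v)⁻¹) (phi v i) = phi v (psi t i) := by
  rw [map_mul, map_mul, map_inv, psi_conj, Equiv.Perm.mul_apply, Equiv.Perm.mul_apply, Equiv.Perm.inv_def,
    Equiv.symm_apply_apply]

theorem sq_conj {M : Type*} [Group M] {t : M} (c : M) (h : t * t = 1) :
    c * t * c⁻¹ * (c * t * c⁻¹) = 1 := by
  calc c * t * c⁻¹ * (c * t * c⁻¹) = c * (t * t) * c⁻¹ := by group
    _ = 1 := by rw [h]; group

/-- The images of the base under the listed elements. -/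
noncomputable def baseImg (k : Fin 27) : Finset X :=
  baseSet.map (phi (act fiGen (basesWords.getD k.val []))).toEmbedding

theorem baseWord (k : Fin 27) :
    (∀ g ∈ basesWords.getD k.val [], g < 9) ∧ act fiGen (basesWords.getD k.val []) ∈ fixSub phi [0, 6] := by
  have h := List.all_eq_true.1 bases_ok.2.1 (basesWords.getD k.val []) (by
    rw [List.getD_eq_getElem _ _ (bases_ok.1.symm ▸ k.isLt)]; exact List.getElem_mem _)
  simp only [Bool.and_eq_true, List.all_eq_true, Nat.blt_eq, Nat.beq_eq] at h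
  refine ⟨h.1.1, fun i hi => Fin.ext ?_⟩
  rw [act_phi h.1.1]
  rcases List.mem_cons.1 hi with e | e
  · rw [e, h.1.2]
  · rw [List.mem_singleton.1 e, h.2]

theorem baseSet_isBase : IsBaseX baseSet :=
  ⟨by rw [baseSet, Finset.card_map]; simp, fun _ hi _ hj => base_commute (mem_baseSet.1 hi) (mem_baseSet.1 hj)⟩

theorem baseSet_pts : pt0 ∈ baseSet ∧ pt6 ∈ baseSet :=
  ⟨mem_baseSet.2 (base_in (by simp [pt0])), mem_baseSet.2 (base_in (by simp [pt6]))⟩

theorem maskOf_spec {x : ℕ} : ∀ {l : List ℕ} {m : ℕ}, (m.testBit x = true ∨ x ∈ l) →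
    (l.foldl (fun m x => m ||| 2 ^ x) m).testBit x = true
  | [], m, h => h.resolve_right (by simp)
  | a :: l, m, h => by
    refine maskOf_spec (l := l) ?_
    rcases h with h | h
    · left; simp [Nat.testBit_or, h]
    · rcases List.mem_cons.1 h with rfl | h
      · left; simp [Nat.testBit_or]
      · exact Or.inr h

theorem baseImg_injective : Function.Injective baseImg := by
  intro k l h
  by_contra hne
  have hmask : ∀ j : Fin 27, ∀ x : ℕ, (basesMasks.getD j.val 0).testBit x = true ↔
      ∃ hx : x < tab.n, (⟨x, hx⟩ : X) ∈ baseImg j := by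
    intro j x
    have hj : j.val < basesWords.length := bases_ok.1.symm ▸ j.isLt
    rw [basesMasks, List.getD_eq_getElem _ _ (by rw [List.length_map]; exact hj), List.getElem_map]
    obtain ⟨hw, -⟩ := baseWord j
    rw [List.getD_eq_getElem _ _ hj] at hw
    constructor
    · intro hb
      rcases mem_maskOf hb with hb | hb
      · simp at hb
      obtain ⟨y, hy, rfl⟩ := List.mem_map.1 hb
      have e := act_phi hw (⟨y, lt_pt (baseB_lt hy)⟩ : X)
      have hlt' : tab.walk y basesWords[j.val] < tab.n :=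
        e ▸ (phi (act fiGen basesWords[j.val]) ⟨y, lt_pt (baseB_lt hy)⟩).isLt
      refine ⟨hlt', Finset.mem_map.2 ⟨⟨y, lt_pt (baseB_lt hy)⟩, mem_baseSet.2 hy, Fin.ext ?_⟩⟩
      show (phi (act fiGen (basesWords.getD j.val [])) ⟨y, lt_pt (baseB_lt hy)⟩).val = _
      exact (congrArg (fun w => (phi (act fiGen w) ⟨y, lt_pt (baseB_lt hy)⟩).val)
        (List.getD_eq_getElem _ _ hj)).trans e
    · rintro ⟨hx, hm⟩
      obtain ⟨y, hy, e⟩ := Finset.mem_map.1 hm
      refine maskOf_spec (Or.inr (List.mem_map.2 ⟨y.val, mem_baseSet.1 hy, ?_⟩))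
      rw [← act_phi hw y]
      rw [Equiv.coe_toEmbedding, List.getD_eq_getElem _ _ hj] at e
      exact congrArg Fin.val e
  have heq : basesMasks.getD k.val 0 = basesMasks.getD l.val 0 :=
    Nat.eq_of_testBit_eq fun x => Bool.eq_iff_iff.2 (by rw [hmask, hmask, h])
  have hall := bases_ok.2.2
  simp only [List.all_eq_true, List.mem_range, Bool.not_eq_true'] at hall
  rcases Nat.lt_or_gt_of_ne (fun e => hne (Fin.ext e)) with hlt | hlt
  · exact Nat.ne_of_beq_eq_false (hall _ l.isLt _ hlt) heq.symm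
  · exact Nat.ne_of_beq_eq_false (hall _ k.isLt _ hlt) heq

/-- Every outer involution is conjugate to one of the three, if involutory automorphisms fix members
and the two members lie in 27 bases. -/
theorem classify (hfix : ∀ α : MulAut K, α * α = 1 → ∃ i, psi α i = i)
    (hbases : Nat.card {B : Finset X // IsBaseX B ∧ pt0 ∈ B ∧ pt6 ∈ B} = 27)
    {t : MulAut K} (ht : t * t = 1) (hout : ∀ g, t ≠ MulAut.conj g) :
    IsConj t sigma ∨ IsConj t sigmaA ∨ IsConj t sigmaAB := by
  suffices h : ∃ j, IsConj t (rhoAut j) by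
    obtain ⟨j, hj⟩ := h
    unfold rhoAut at hj
    split_ifs at hj
    exacts [Or.inl hj, Or.inr (Or.inl hj), Or.inr (Or.inr hj)]
  -- a fixed member
  obtain ⟨i, hi⟩ := hfix t ht
  obtain ⟨m, hm⟩ := stab_le.1 i pt0
  set t1 := MulAut.conj m * t * (MulAut.conj m)⁻¹ with ht1
  have h1 : psi t1 pt0 = pt0 := by rw [← hm, mem_conj_psi, hi]
  have s1 : t1 * t1 = 1 := sq_conj _ ht
  -- a fixed neighbour
  have hmap : ∀ q : X, forest.lab q.val = 1 → forest.lab (psi t1 q).val = 1 := by
    intro q hq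
    have hq' : phi fA q = q := (fA_fix_iff q).2 (by omega)
    have e : phi fA (psi t1 q) = psi t1 q := by
      rw [← mem_pt0, ← commute_iff] at hq' ⊢
      have := hq'.map t1
      rwa [← mem_psi, ← mem_psi, h1] at this
    have h3 : forest.lab (psi t1 q).val < 3 := forest_counts.2.1 ▸ (forest_ok.spec (psi t1 q).isLt).2.1
    have n2 := (fA_fix_iff _).1 e
    have n0 : forest.lab (psi t1 q).val ≠ 0 := fun h0 => by
      have := (zero_label _).1 h0
      rw [← h1] at this
      have := (zero_label q).2 ((psi t1).injective this)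
      omega
    omega
  obtain ⟨⟨q, hq⟩, hqf⟩ := exists_fixed (fun a : {q : X // forest.lab q.val = 1} =>
    (⟨psi t1 a.val, hmap _ a.2⟩ : {q : X // forest.lab q.val = 1}))
    (fun a => Subtype.ext (psi_invol s1 a.val)) (by rw [card_link]; decide)
  have hqf' : psi t1 q = q := congrArg Subtype.val hqf
  obtain ⟨h, hh, he⟩ := forest_ok.reach realised q
  have hh' : h ∈ fixSub phi [0] := by rw [← subH_eq]; exact hh
  have he6 : phi h pt6 = q := by
    have hroots : forest.roots.getD 1 0 = 6 := by decide +kernel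
    simp only [hq, hroots] at he
    exact he
  set t2 := MulAut.conj h⁻¹ * t1 * (MulAut.conj h⁻¹)⁻¹ with ht2
  have hinv : ∀ x, phi h⁻¹ (phi h x) = x := fun x => by
    rw [← Equiv.Perm.mul_apply, ← map_mul, inv_mul_cancel, map_one, Equiv.Perm.one_apply]
  have h20 : psi t2 pt0 = pt0 := by
    have hfix0 : phi h⁻¹ pt0 = pt0 := (Subgroup.inv_mem _ hh') pt0 (by simp [pt0])
    have := mem_conj_psi h⁻¹ t1 pt0
    rw [h1, hfix0] at this
    exact this
  have h26 : psi t2 pt6 = pt6 := by
    have := mem_conj_psi h⁻¹ t1 q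
    rw [hqf', ← he6, hinv] at this
    exact this
  have s2 : t2 * t2 = 1 := sq_conj _ s1
  -- a fixed base
  haveI : Fintype {B : Finset X // IsBaseX B ∧ pt0 ∈ B ∧ pt6 ∈ B} := Fintype.ofFinite _
  have himg : ∀ k, IsBaseX (baseImg k) ∧ pt0 ∈ baseImg k ∧ pt6 ∈ baseImg k := fun k => by
    obtain ⟨-, hw⟩ := baseWord k
    refine ⟨?_, Finset.mem_map.2 ⟨pt0, baseSet_pts.1, hw pt0 (by simp [pt0])⟩,
      Finset.mem_map.2 ⟨pt6, baseSet_pts.2, hw pt6 (by simp [pt6])⟩⟩
    have := isBaseX_map (MulAut.conj (act fiGen (basesWords.getD k.val []))) baseSet_isBase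
    rwa [psi_conj] at this
  let f : Fin 27 → {B : Finset X // IsBaseX B ∧ pt0 ∈ B ∧ pt6 ∈ B} := fun k => ⟨baseImg k, himg k⟩
  have hfb : Function.Bijective f := (Nat.bijective_iff_injective_and_card f).2
    ⟨fun a b e => baseImg_injective (congrArg Subtype.val e), by rw [hbases, Nat.card_fin]⟩
  have hmapB : ∀ B : {B : Finset X // IsBaseX B ∧ pt0 ∈ B ∧ pt6 ∈ B},
      IsBaseX (B.val.map (psi t2).toEmbedding) ∧ pt0 ∈ B.val.map (psi t2).toEmbedding ∧
        pt6 ∈ B.val.map (psi t2).toEmbedding := fun B =>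
    ⟨isBaseX_map t2 B.2.1, Finset.mem_map.2 ⟨pt0, B.2.2.1, h20⟩, Finset.mem_map.2 ⟨pt6, B.2.2.2, h26⟩⟩
  obtain ⟨B, hB⟩ := exists_fixed (fun B => (⟨_, hmapB B⟩ : {B : Finset X // IsBaseX B ∧ pt0 ∈ B ∧ pt6 ∈ B}))
    (fun B => Subtype.ext (by
      refine Finset.ext fun x => ?_
      simp only [Finset.mem_map, Equiv.coe_toEmbedding]
      constructor
      · rintro ⟨_, ⟨b, hb, rfl⟩, rfl⟩
        rwa [psi_invol s2]
      · intro hx
        exact ⟨_, ⟨x, hx, rfl⟩, psi_invol s2 x⟩)) (by rw [hbases]; decide)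
  obtain ⟨k, rfl⟩ := hfb.2 B
  obtain ⟨hwlt, hw⟩ := baseWord k
  set v := act fiGen (basesWords.getD k.val []) with hv
  set t3 := MulAut.conj v⁻¹ * t2 * (MulAut.conj v⁻¹)⁻¹ with ht3
  have vinv : ∀ x, phi v⁻¹ (phi v x) = x := fun x => by
    rw [← Equiv.Perm.mul_apply, ← map_mul, inv_mul_cancel, map_one, Equiv.Perm.one_apply]
  have h3set : ∀ x ∈ baseSet, psi t3 x ∈ baseSet := by
    intro x hx
    have := mem_conj_psi v⁻¹ t2 (phi v x)
    rw [vinv] at this
    have hB' : (baseImg k).map (psi t2).toEmbedding = baseImg k := congrArg Subtype.val hB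
    have hin : psi t2 (phi v x) ∈ baseImg k := by
      rw [← hB']
      exact Finset.mem_map.2 ⟨phi v x, Finset.mem_map.2 ⟨x, hx, rfl⟩, rfl⟩
    obtain ⟨y, hy, hye⟩ := Finset.mem_map.1 hin
    rw [Equiv.coe_toEmbedding, ← hv] at hye
    rw [this, ← hye, vinv]
    exact hy
  have vfix : ∀ x : X, x.val ∈ [0, 6] → psi t2 x = x → psi t3 x = x := fun x hx hfx => by
    have := mem_conj_psi v⁻¹ t2 x
    rw [hfx, (Subgroup.inv_mem _ hw) x hx] at this
    exact this
  have s3 : t3 * t3 = 1 := sq_conj _ s2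
  have hc3 : IsConj t t3 := (isConj_iff.2 ⟨_, ht1.symm⟩).trans
    ((isConj_iff.2 ⟨_, ht2.symm⟩).trans (isConj_iff.2 ⟨_, ht3.symm⟩))
  -- the coset
  obtain ⟨g, hg⟩ | ⟨g, hg⟩ := cases_aut t3
  · exfalso
    obtain ⟨c, hc⟩ := isConj_iff.1 hc3.symm
    refine hout (c g) ?_
    rw [← hc, hg]
    refine MulEquiv.ext fun x => ?_
    simp [MulAut.mul_apply, MulAut.conj_apply]
  rw [hg] at s3 hc3 h3set vfix
  have hgfix : g ∈ fixSub phi [0, 6] := by
    intro x hx
    have hx6 : psi t2 x = x ∧ piP x = x := by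
      rcases List.mem_cons.1 hx with e | e
      · rw [show x = pt0 from Fin.ext e]; exact ⟨h20, piP_pt0⟩
      · rw [show x = pt6 from Fin.ext (List.mem_singleton.1 e)]; exact ⟨h26, pi_pt6⟩
    have := vfix x hx hx6.1
    rwa [psi_outer, hx6.2] at this
  have hgmap : ∀ x : X, x.val ∈ baseB → (phi g x).val ∈ baseB := fun x hx => by
    have := h3set (piP x) (mem_baseSet.2 (rep_pi.maps hx))
    rw [psi_outer, show piP (piP x) = x from Fin.ext (piT_spec (pt_lt x)).2] at this
    exact mem_baseSet.1 this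
  obtain ⟨g', hg', hc4⟩ := reduce_base hgfix hgmap s3
  obtain ⟨n, hn, hc5⟩ := reduce_kernel hg'
  have sn : (MulAut.conj (repElt n) * sigma) * (MulAut.conj (repElt n) * sigma) = 1 := by
    obtain ⟨c, hc⟩ := isConj_iff.1 (hc4.trans hc5)
    rw [← hc]
    exact sq_conj c s3
  obtain ⟨j, -, hc6⟩ := reduce_rep hn sn
  exact ⟨j, hc3.trans (hc4.trans (hc5.trans hc6))⟩

end CfsgLib.Fi22P.OutInvol
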